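import Cfsg.Agent.Blocks.Height

/-!
Induced blocks, Brauer's first main theorem.
-/

set_option autoImplicit false
set_option linter.all false

open scoped ComplexConjugate

namespace Cfsg.Agent.Blocks

universe u

variable {p : ℕ} {M : Ideal Cfsg.AlgInt} {G : Type u} [Group G]

theorem centralizer_conj_of_le_normalizer {P H : Subgroup G}
    (hHN : H ≤ Subgroup.normalizer (P : Set G)) : ∀ x ∈ H,
      ∀ c ∈ Subgroup.centralizer (P : Set G), x * c * x⁻¹ ∈ Subgroup.centralizer (P : Set G) := by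
  intro x hx c hc
  refine Subgroup.mem_centralizer_iff.2 fun q hq => ?_
  have h1 : x⁻¹ * q * x ∈ P := by
    have := (Subgroup.mem_normalizer_iff.1 (Subgroup.inv_mem _ (hHN hx)) q).1 hq
    rwa [inv_inv] at this
  have h2 := Subgroup.mem_centralizer_iff.1 hc _ h1
  calc q * (x * c * x⁻¹) = x * ((x⁻¹ * q * x) * c) * x⁻¹ := by group
    _ = x * (c * (x⁻¹ * q * x)) * x⁻¹ := by rw [h2]
    _ = x * c * x⁻¹ * q := by group

theorem subgroupOf_normal_of_le_normalizer {P H : Subgroup G}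
    (hHN : H ≤ Subgroup.normalizer (P : Set G)) : (P.subgroupOf H).Normal := by
  refine ⟨fun q hq x => ?_⟩
  exact (Subgroup.mem_normalizer_iff.1 (hHN x.2) _).1 hq

variable [Finite G]

theorem li_trunc_univ_sub (hM : Cfsg.IsPModular p M) {P H : Subgroup G} [Fintype H]
    (hP : IsPGroup p P) (hPH : P ≤ H) (hHN : H ≤ Subgroup.normalizer (P : Set G))
    (ξ : Cfsg.IrrCharacter H) {a : MonoidAlgebra ℂ G} (ha : IsCentral a)
    (hai : a ∈ intAlg hM G) :
    Cfsg.MemLocalIdeal M (omega (ξ : H → ℂ) (trunc H Set.univ a)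
      - omega (ξ : H → ℂ) (trunc H (Subgroup.centralizer (P : Set G) : Set G) a)) := by
  classical
  haveI := subgroupOf_normal_of_le_normalizer hHN
  rw [← omega_sub]
  refine li_omega_of_vanish hM (P := P.subgroupOf H)
    (hP.comap_of_injective H.subtype (Subgroup.subtype_injective _)) ξ
    ((isCentral_trunc_univ H ha).sub (isCentral_trunc (centralizer_conj_of_le_normalizer hHN) ha))
    (sub_mem (trunc_mem hM H _ hai) (trunc_mem hM H _ hai)) fun g hg => ?_
  have hgc : (g : G) ∈ Subgroup.centralizer (P : Set G) := Subgroup.mem_centralizer_iff.2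
    fun q hq => congrArg Subtype.val (Subgroup.mem_centralizer_iff.1 hg ⟨q, hPH hq⟩ hq)
  rw [MonoidAlgebra.coeff_sub, Finsupp.sub_apply, trunc_coeff, trunc_coeff,
    if_pos (Set.mem_univ _), if_pos (SetLike.mem_coe.2 hgc), sub_self]
  exact li_zero hM

/-- Every block of a subgroup between `PC(P)` and `N(P)` induces a block. -/
theorem exists_induced (hM : Cfsg.IsPModular p M) [Fintype G] {P H : Subgroup G} [Fintype H]
    (hP : IsPGroup p P) (hPH : P ≤ H) (hCH : Subgroup.centralizer (P : Set G) ≤ H)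
    (hHN : H ≤ Subgroup.normalizer (P : Set G)) {b : Set (Cfsg.IrrCharacter H)}
    (hb : Cfsg.IsPBlock M b) {ξ : Cfsg.IrrCharacter H} (hξ : ξ ∈ b) :
    ∃ B, Cfsg.IsInducedBlock M H b B ∧ ∀ χ ∈ B, ∀ a, IsCentral a → a ∈ intAlg hM G →
      Cfsg.MemLocalIdeal M (omega (ξ : H → ℂ) (trunc H (Subgroup.centralizer (P : Set G) : Set G) a)
        - omega (χ : G → ℂ) a) := by
  obtain ⟨B, hB, hBφ⟩ :=
    (isModHom_trunc hM hP hCH (centralizer_conj_of_le_normalizer hHN) ξ).exists_block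
  obtain ⟨χ, hχ⟩ := block_nonempty hM hB
  refine ⟨B, isInducedBlock_of_hom hM hb hB hξ hχ fun g => ?_, hBφ⟩
  have h1 := li_trunc_univ_sub hM hP hPH hHN ξ (isCentral_classSum g) (classSum_mem hM g)
  have h2 := li_add hM h1 (hBφ χ hχ _ (isCentral_classSum g) (classSum_mem hM g))
  simpa using h2

theorem induced_unique (hM : Cfsg.IsPModular p M) [Fintype G] {H : Subgroup G} [Fintype H]
    {b : Set (Cfsg.IrrCharacter H)} {B B' : Set (Cfsg.IrrCharacter G)}
    (h : Cfsg.IsInducedBlock M H b B) (h' : Cfsg.IsInducedBlock M H b B') : B = B' := by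
  obtain ⟨ξ, hξ⟩ := block_nonempty hM h.1
  obtain ⟨χ, hχ⟩ := block_nonempty hM h.2.1
  obtain ⟨χ', hχ'⟩ := block_nonempty hM h'.2.1
  refine block_unique hM h.2.1 h'.2.1 hχ hχ' fun g => ?_
  rw [omega_classSum (Char.irr_isClassFunction χ), omega_classSum (Char.irr_isClassFunction χ')]
  have h1 := li_sub hM (h'.2.2 ξ hξ χ' hχ' g) (h.2.2 ξ hξ χ hχ g)
  simpa using h1

/-- Brauer's criterion for induced blocks. -/
theorem isInducedBlock_iff_brauer (hM : Cfsg.IsPModular p M) [Fintype G] {P H : Subgroup G}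
    [Fintype H] (hP : IsPGroup p P) (hPH : P ≤ H) (hHN : H ≤ Subgroup.normalizer (P : Set G))
    {b : Set (Cfsg.IrrCharacter H)} (hb : Cfsg.IsPBlock M b) {B : Set (Cfsg.IrrCharacter G)}
    (hB : Cfsg.IsPBlock M B) :
    Cfsg.IsInducedBlock M H b B ↔ ∀ ξ ∈ b, ∀ χ ∈ B, ∀ g : G,
      Cfsg.MemLocalIdeal M (Cfsg.brauerCentralChar P H (ξ : H → ℂ) g
        - Cfsg.centralChar (χ : G → ℂ) g) := by
  refine ⟨fun h ξ hξ χ hχ g => ?_, fun h => ⟨hb, hB, fun ξ hξ χ hχ g => ?_⟩⟩
  all_goals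
    have h1 := li_trunc_univ_sub hM hP hPH hHN ξ (isCentral_classSum g) (classSum_mem hM g)
  · have h2 := h.2.2 ξ hξ χ hχ g
    rw [inducedCentralChar_eq] at h2
    rw [brauerCentralChar_eq]
    simpa using li_sub hM h2 h1
  · have h2 := h ξ hξ χ hχ g
    rw [brauerCentralChar_eq] at h2
    rw [inducedCentralChar_eq]
    simpa using li_add hM h2 h1

/-- A block is induced from such a subgroup once the `p`-group centralizes its support. -/
theorem exists_inducing (hM : Cfsg.IsPModular p M) [Fintype G] {P H : Subgroup G} [Fintype H]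
    (hP : IsPGroup p P) (hPH : P ≤ H) (hCH : Subgroup.centralizer (P : Set G) ≤ H)
    (hHN : H ≤ Subgroup.normalizer (P : Set G)) {B : Set (Cfsg.IrrCharacter G)}
    (hB : Cfsg.IsPBlock M B) {w : G} (hw : ¬ Cfsg.MemLocalIdeal M (Cfsg.blockCoeff B w))
    (hwP : w ∈ Subgroup.centralizer (P : Set G)) :
    ∃ b, Cfsg.IsInducedBlock M H b B := by
  classical
  obtain ⟨ξ, hξ⟩ := exists_omega_trunc hM hB hP hCH (centralizer_conj_of_le_normalizer hHN) hw hwP
  obtain ⟨B', hB', hφ⟩ := exists_induced hM hP hPH hCH hHN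
    (b := Cfsg.blockOf M (ξ : H → ℂ)) ⟨ξ, rfl⟩ (self_mem_blockOf hM ξ)
  refine ⟨Cfsg.blockOf M (ξ : H → ℂ), ?_⟩
  by_cases he : B' = B
  · rwa [← he]
  · exfalso
    obtain ⟨χ', hχ'⟩ := block_nonempty hM hB'.2.1
    have h1 := hφ χ' hχ' (idem B) (isCentral_idem B) (idem_block_mem hM hB)
    rw [omega_idem, if_neg (Set.disjoint_left.1 (disjoint_blocks hM hB'.2.1 hB he) hχ'), sub_zero] at h1
    exact hξ h1

/-- Defect groups of a block lie in defect groups of the induced block. -/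
theorem exists_defect_ge (hM : Cfsg.IsPModular p M) [Fintype G] {H : Subgroup G} [Fintype H]
    {b : Set (Cfsg.IrrCharacter H)} {B : Set (Cfsg.IrrCharacter G)}
    (hind : Cfsg.IsInducedBlock M H b B) {D : Subgroup H} (hD : Cfsg.IsDefectGroup p M b D) :
    ∃ E : Subgroup G, Cfsg.IsDefectGroup p M B E ∧ D.map H.subtype ≤ E := by
  classical
  haveI : Fact p.Prime := ⟨hM.1⟩
  obtain ⟨u, hu, huD⟩ := isDefectGroup_iff.1 hD
  obtain ⟨w, hw⟩ := exists_defectClass hM hind.2.1
  obtain ⟨ξ, hξ⟩ := block_nonempty hM hind.1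
  obtain ⟨χ, hχ⟩ := block_nonempty hM hind.2.1
  have hne : ¬ Cfsg.MemLocalIdeal M (omega (ξ : H → ℂ) (trunc H Set.univ (classSum w))) := by
    intro h
    have h2 := hind.2.2 ξ hξ χ hχ w
    rw [inducedCentralChar_eq] at h2
    have h3 := li_sub hM h h2
    rw [sub_sub_cancel] at h3
    exact hw.2.2 χ hχ h3
  obtain ⟨x, hx, hx'⟩ := exists_coeff_commute hM hind.1 hξ
    (isCentral_trunc_univ H (isCentral_classSum w)) (trunc_mem hM H _ (classSum_mem hM w))
    hne hu.2.1 huD.2.1 (mem_centralizer_iff_le.2 huD.1)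
  rw [trunc_coeff, if_pos (Set.mem_univ _), classSum_apply] at hx'
  by_cases hc : IsConj w (x : G)
  · obtain ⟨a, ha⟩ := isConj_iff.1 hc
    have h1 : D.map H.subtype ≤ Subgroup.centralizer ({(x : G)} : Set G) := by
      rintro _ ⟨d, hd, rfl⟩
      exact Subgroup.mem_centralizer_singleton_iff.2
        (congrArg Subtype.val (Subgroup.mem_centralizer_singleton_iff.1
          (mem_centralizer_iff_le.1 hx hd)))
    obtain ⟨E, hE, hDE⟩ := exists_maxP h1 (huD.2.1.map _)
    refine ⟨E, isDefectGroup_iff.2 ⟨(x : G), ?_, hE⟩, hDE⟩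
    rw [← ha]
    exact isDefectClass_conj hw a
  · rw [if_neg hc] at hx'
    exact absurd (li_zero hM) hx'

/-- Classes with defect group `P` meet `C(P)` in one class of the normalizer. -/
theorem exists_normalizer_conj [Fact p.Prime] {P : Subgroup G} {g c : G} (hP : MaxP p P g)
    (hgc : IsConj g c) (hc : c ∈ Subgroup.centralizer (P : Set G)) :
    ∃ n ∈ Subgroup.normalizer (P : Set G), n * c * n⁻¹ = g := by
  obtain ⟨a, ha⟩ := isConj_iff.1 hgc.symm
  have h1 := cj_le_centralizer (mem_centralizer_iff_le.1 hc) a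
  rw [ha] at h1
  obtain ⟨t, ht, htle⟩ := exists_cj_le_maxP hP h1 (isPGroup_cj hP.2.1 a)
  rw [cj_cj] at htle
  have heq : cj (t * a) P = P := eq_of_le_of_card_le' htle (card_cj _ _).ge
  refine ⟨t * a, Subgroup.mem_normalizer_iff.2 fun q => ?_, ?_⟩
  · refine ⟨fun hq => ?_, fun hq => ?_⟩
    · rw [← heq, mem_cj]; simpa [mul_assoc] using hq
    · have hq' : t * a * q * (t * a)⁻¹ ∈ cj (t * a) P := by rw [heq]; exact hq
      rw [mem_cj] at hq'; simpa [mul_assoc] using hq'
  · have h2 : t * g = g * t := Subgroup.mem_centralizer_singleton_iff.1 ht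
    calc t * a * c * (t * a)⁻¹ = t * (a * c * a⁻¹) * t⁻¹ := by group
      _ = g := by rw [ha, h2, mul_inv_cancel_right]

/-- Maximality inside the normalizer suffices. -/
theorem maxP_of_normalizer [Fact p.Prime] {P : Subgroup G} (hP : IsPGroup p P) {c : G}
    (hc : P ≤ Subgroup.centralizer ({c} : Set G))
    (hmax : ∀ Q : Subgroup G, P ≤ Q → Q ≤ Subgroup.centralizer ({c} : Set G) →
      Q ≤ Subgroup.normalizer (P : Set G) → IsPGroup p Q → Q = P) : MaxP p P c := by
  refine ⟨hc, hP, fun Q h1 h2 h3 => ?_⟩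
  by_contra hne
  haveI := h3.isNilpotent
  have hlt : P.subgroupOf Q < ⊤ := by
    refine lt_top_iff_ne_top.2 fun h => hne (le_antisymm (fun q hq => ?_) h1)
    have : (⟨q, hq⟩ : Q) ∈ P.subgroupOf Q := by rw [h]; exact Subgroup.mem_top _
    exact this
  obtain ⟨-, n, hn1, hn2⟩ := SetLike.lt_iff_le_and_exists.1
    (normalizerCondition_of_isNilpotent (P.subgroupOf Q) hlt)
  refine hn2 ?_
  have hnN : (n : G) ∈ Subgroup.normalizer (P : Set G) := by
    refine Subgroup.mem_normalizer_iff.2 fun q => ⟨fun hq => ?_, fun hq => ?_⟩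
    · exact (Subgroup.mem_normalizer_iff.1 hn1 ⟨q, h1 hq⟩).1 hq
    · have hqQ : q ∈ Q := by
        have h4 := Q.mul_mem (Q.mul_mem (Q.inv_mem n.2) (h1 hq)) n.2
        simpa [mul_assoc] using h4
      exact (Subgroup.mem_normalizer_iff.1 hn1 ⟨q, hqQ⟩).2 hq
  have h5 := hmax (Q ⊓ Subgroup.normalizer (P : Set G))
    (le_inf h1 Subgroup.le_normalizer) (inf_le_left.trans h2) inf_le_right (h3.to_le inf_le_left)
  show (n : G) ∈ P
  exact h5.le ⟨n.2, hnN⟩

/-- The Brauer map on the class sum of a class with defect group `D`. -/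
theorem trunc_classSum_eq [Fact p.Prime] {D : Subgroup G}
    {u : Subgroup.normalizer (D : Set G)} (hu : MaxP p D (u : G)) :
    trunc (Subgroup.normalizer (D : Set G)) (Subgroup.centralizer (D : Set G) : Set G)
      (classSum (u : G)) = classSum u := by
  classical
  have huC : (u : G) ∈ Subgroup.centralizer (D : Set G) := mem_centralizer_iff_le.2 hu.1
  refine ext_coeff fun h => ?_
  rw [trunc_coeff, classSum_apply, classSum_apply]
  by_cases hc : IsConj u h
  · obtain ⟨a, ha⟩ := isConj_iff.1 hc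
    have h1 : ((a : G) * u * (a : G)⁻¹) = h := congrArg Subtype.val ha
    have h2 : (h : G) ∈ Subgroup.centralizer (D : Set G) := by
      rw [← h1]; exact centralizer_conj_of_le_normalizer le_rfl _ a.2 _ huC
    rw [if_pos (SetLike.mem_coe.2 h2), if_pos (isConj_iff.2 ⟨(a : G), h1⟩), if_pos hc]
  · rw [if_neg hc]
    split_ifs with h1 h2
    · exfalso
      obtain ⟨n, hn, hn'⟩ := exists_normalizer_conj hu h2 h1
      exact hc (IsConj.symm (isConj_iff.2 ⟨⟨n, hn⟩, Subtype.ext hn'⟩))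
    · rfl
    · rfl

theorem maxP_subgroupOf {H D : Subgroup G} {u : H} (hDH : D ≤ H) (h : MaxP p (D.subgroupOf H) u) :
    D ≤ Subgroup.centralizer ({(u : G)} : Set G) ∧ IsPGroup p D ∧
      ∀ Q : Subgroup G, D ≤ Q → Q ≤ Subgroup.centralizer ({(u : G)} : Set G) → Q ≤ H →
        IsPGroup p Q → Q = D := by
  refine ⟨fun d hd => ?_, h.2.1.of_equiv (Subgroup.subgroupOfEquivOfLe hDH), fun Q h1 h2 h3 h4 => ?_⟩
  · exact Subgroup.mem_centralizer_singleton_iff.2 (congrArg Subtype.val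
      (Subgroup.mem_centralizer_singleton_iff.1 (h.1 (show (⟨d, hDH hd⟩ : H) ∈ _ from hd))))
  · have h5 := h.2.2 (Q.subgroupOf H) (fun x hx => h1 hx) (fun x hx =>
      Subgroup.mem_centralizer_singleton_iff.2 (Subtype.ext
        (Subgroup.mem_centralizer_singleton_iff.1 (h2 hx)))) (h4.comap_of_injective _ (Subgroup.subtype_injective _))
    have h6 := congrArg (Subgroup.map H.subtype) h5
    rwa [Subgroup.subgroupOf_map_subtype, Subgroup.subgroupOf_map_subtype, inf_eq_left.2 h3,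
      inf_eq_left.2 hDH] at h6

/-- Brauer's first main theorem, part one. -/
theorem first_main_one (hM : Cfsg.IsPModular p M) [Fintype G] {D : Subgroup G} (hD : IsPGroup p D)
    {b : Set (Cfsg.IrrCharacter (Subgroup.normalizer (D : Set G)))} (hb : Cfsg.IsPBlock M b)
    (hbD : Cfsg.IsDefectGroup p M b (D.subgroupOf (Subgroup.normalizer (D : Set G)))) :
    ∃ B, Cfsg.IsPBlock M B ∧ Cfsg.IsDefectGroup p M B D ∧
      Cfsg.IsInducedBlock M (Subgroup.normalizer (D : Set G)) b B := by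
  classical
  haveI : Fact p.Prime := ⟨hM.1⟩
  haveI := Fintype.ofFinite ↥(Subgroup.normalizer (D : Set G))
  obtain ⟨ξ, hξ⟩ := block_nonempty hM hb
  obtain ⟨B, hind, hφ⟩ := exists_induced hM hD Subgroup.le_normalizer
    (Subgroup.centralizer_le_normalizer (D : Set G)) le_rfl hb hξ
  refine ⟨B, hind.2.1, ?_, hind⟩
  obtain ⟨u, hu, huD⟩ := isDefectGroup_iff.1 hbD
  obtain ⟨hu1, hu2, hu3⟩ := maxP_subgroupOf Subgroup.le_normalizer huD
  have huG : MaxP p D (u : G) := maxP_of_normalizer hu2 hu1 hu3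
  obtain ⟨χ, hχ⟩ := block_nonempty hM hind.2.1
  have hω : ¬ Cfsg.MemLocalIdeal M (Cfsg.centralChar (χ : G → ℂ) (u : G)) := by
    intro h
    have h1 := hφ χ hχ _ (isCentral_classSum (u : G)) (classSum_mem hM _)
    rw [trunc_classSum_eq huG, omega_classSum (Char.irr_isClassFunction ξ),
      omega_classSum (Char.irr_isClassFunction χ)] at h1
    have h2 := li_add hM h1 h
    rw [sub_add_cancel] at h2
    exact hu.2.2 ξ hξ h2
  obtain ⟨E, hE, hDE⟩ := exists_defect_ge hM hind hbD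
  rw [Subgroup.subgroupOf_map_subtype, inf_eq_left.2 Subgroup.le_normalizer] at hDE
  obtain ⟨x, hx, hEx⟩ := defect_le_centralizer hM hind.2.1 hE hχ hω
  obtain ⟨a, ha⟩ := isConj_iff.1 hx.symm
  have h1 := cj_le_centralizer hEx a
  rw [ha] at h1
  have h2 := card_le_maxP huG h1 (isPGroup_cj (defectGroup_isPGroup hE) a)
  rw [card_cj] at h2
  rwa [eq_of_le_of_card_le' hDE h2]

/-- Brauer's first main theorem, part two. -/
theorem first_main_two (hM : Cfsg.IsPModular p M) [Fintype G] {D : Subgroup G} (hD : IsPGroup p D)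
    {B : Set (Cfsg.IrrCharacter G)} (hB : Cfsg.IsPBlock M B) (hBD : Cfsg.IsDefectGroup p M B D) :
    ∃! b : Set (Cfsg.IrrCharacter (Subgroup.normalizer (D : Set G))), Cfsg.IsPBlock M b ∧
      Cfsg.IsDefectGroup p M b (D.subgroupOf (Subgroup.normalizer (D : Set G))) ∧
      Cfsg.IsInducedBlock M (Subgroup.normalizer (D : Set G)) b B := by
  classical
  haveI : Fact p.Prime := ⟨hM.1⟩
  set N := Subgroup.normalizer (D : Set G) with hN
  haveI := Fintype.ofFinite N
  haveI := Fintype.ofFinite (ConjClasses N)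
  obtain ⟨w, hw, hwD⟩ := isDefectGroup_iff.1 hBD
  haveI hnor : (D.subgroupOf N).Normal := subgroupOf_normal_of_le_normalizer le_rfl
  have hD' : IsPGroup p (D.subgroupOf N) := hD.comap_of_injective _ (Subgroup.subtype_injective _)
  obtain ⟨b, hb⟩ := exists_inducing hM hD (Subgroup.le_normalizer)
    (Subgroup.centralizer_le_normalizer (D : Set G)) le_rfl hB hw.2.1 (mem_centralizer_iff_le.2 hwD.1)
  have hdef : ∀ b', Cfsg.IsInducedBlock M N b' B → Cfsg.IsDefectGroup p M b' (D.subgroupOf N) := by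
    intro b' hb'
    obtain ⟨Db, hDb⟩ := exists_defectGroup hM hb'.1
    obtain ⟨E, hE, hDE⟩ := exists_defect_ge hM hb' hDb
    have h1 : D.subgroupOf N ≤ Db := normal_le_defect hM hb'.1 hDb hD'
    have h2 : Nat.card Db ≤ Nat.card (D.subgroupOf N) := by
      rw [← Subgroup.card_map_of_injective (K := Db) (f := N.subtype) (Subgroup.subtype_injective N),
        Nat.card_congr (Subgroup.subgroupOfEquivOfLe (Subgroup.le_normalizer : D ≤ N)).toEquiv]
      obtain ⟨x, hx⟩ := defectGroup_conj hM hB hBD hE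
      rw [← card_cj x D, hx]
      exact Subgroup.card_le_of_le hDE
    rwa [eq_of_le_of_card_le' h1 h2]
  refine ⟨b, ⟨hb.1, hdef b hb, hb⟩, ?_⟩
  rintro b' ⟨hb'1, hb'D, hb'⟩
  by_contra hne
  obtain ⟨ξ, hξ⟩ := block_nonempty hM hb.1
  obtain ⟨ξ', hξ'⟩ := block_nonempty hM hb'1
  refine not_li_one hM ?_
  have hbi := idem_block_mem hM hb.1
  have e1 : omega (ξ : N → ℂ) (idem b) - omega (ξ' : N → ℂ) (idem b) = 1 := by
    rw [omega_idem, omega_idem, if_pos hξ,
      if_neg (Set.disjoint_left.1 (disjoint_blocks hM hb'1 hb.1 hne) hξ'), sub_zero]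
  rw [← e1, omega, omega, ev, ev, (isCentral_idem b).sum_mul_eq, (isCentral_idem b).sum_mul_eq,
    Finset.sum_div, Finset.sum_div, ← Finset.sum_sub_distrib]
  refine li_sum hM _ fun C _ => ?_
  have hcc : ∀ η : Cfsg.IrrCharacter N, (∑ g, (classSum C.out).coeff g * (η : N → ℂ) g) / (η : N → ℂ) 1
      = Cfsg.centralChar (η : N → ℂ) C.out :=
    fun η => omega_classSum (Char.irr_isClassFunction η) C.out
  have hlr : ∀ η : Cfsg.IrrCharacter N, Cfsg.MemLocalRing M (Cfsg.centralChar (η : N → ℂ) C.out) :=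
    fun η => by rw [← hcc]; exact omega_lr hM η (isCentral_classSum _) (classSum_mem hM _)
  rw [mul_div_assoc, mul_div_assoc, hcc, hcc, ← mul_sub]
  by_cases hf : Cfsg.MemLocalIdeal M ((idem b).coeff C.out)
  · exact li_mul hM hf ((mem_locRing hM).1 (sub_mem ((mem_locRing hM).2 (hlr ξ)) ((mem_locRing hM).2 (hlr ξ'))))
  refine li_mul_left hM (hbi _) ?_
  by_cases hlξ : Cfsg.MemLocalIdeal M (Cfsg.centralChar (ξ : N → ℂ) C.out) ∧
      Cfsg.MemLocalIdeal M (Cfsg.centralChar (ξ' : N → ℂ) C.out)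
  · exact li_sub hM hlξ.1 hlξ.2
  -- `D` centralizes the class and is a maximal `p`-subgroup there
  set u := C.out with hu
  have hDu : D.subgroupOf N ≤ Subgroup.centralizer ({u} : Set N) := by
    obtain ⟨η, bη, hbη, hη, hDη, hne'⟩ : ∃ (η : Cfsg.IrrCharacter N) (bη : Set (Cfsg.IrrCharacter N)),
        Cfsg.IsPBlock M bη ∧ η ∈ bη ∧ Cfsg.IsDefectGroup p M bη (D.subgroupOf N) ∧
        ¬ Cfsg.MemLocalIdeal M (Cfsg.centralChar (η : N → ℂ) u) := by
      by_cases h1 : Cfsg.MemLocalIdeal M (Cfsg.centralChar (ξ : N → ℂ) u)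
      · exact ⟨ξ', b', hb'1, hξ', hb'D, fun h => hlξ ⟨h1, h⟩⟩
      · exact ⟨ξ, b, hb.1, hξ, hdef b hb, h1⟩
    obtain ⟨x, hx, hxD⟩ := defect_le_centralizer hM hbη hDη hη hne'
    obtain ⟨a, ha⟩ := isConj_iff.1 hx.symm
    have h1 := cj_le_centralizer hxD a
    rw [ha] at h1
    intro q hq
    refine h1 (mem_cj.2 ?_)
    have := hnor.conj_mem q hq a⁻¹
    rwa [inv_inv] at this
  have hmax : MaxP p (D.subgroupOf N) u := by
    refine ⟨hDu, hD', fun Q h1 h2 h3 => ?_⟩
    obtain ⟨y, hy⟩ := cj_le_defect hM hb.1 (hdef b hb) hf h3 h2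
    refine (eq_of_le_of_card_le' h1 ?_).symm
    rw [← card_cj y Q]
    exact Subgroup.card_le_of_le hy
  obtain ⟨m1, m2, m3⟩ := maxP_subgroupOf Subgroup.le_normalizer hmax
  have huG : MaxP p D (u : G) := maxP_of_normalizer m2 m1 m3
  obtain ⟨χ, hχ⟩ := block_nonempty hM hB
  have key : ∀ (bη : Set (Cfsg.IrrCharacter N)) (η : Cfsg.IrrCharacter N), η ∈ bη →
      Cfsg.IsInducedBlock M N bη B →
      Cfsg.MemLocalIdeal M (Cfsg.centralChar (η : N → ℂ) u - Cfsg.centralChar (χ : G → ℂ) (u : G)) := by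
    intro bη η hη hind
    have h1 := (isInducedBlock_iff_brauer hM hD Subgroup.le_normalizer le_rfl hind.1 hB).1 hind η hη χ hχ (u : G)
    rwa [brauerCentralChar_eq, trunc_classSum_eq huG, omega_classSum (Char.irr_isClassFunction η)] at h1
  have h5 := li_sub hM (key b ξ hξ hb) (key b' ξ' hξ' hb')
  simpa using h5

/-- The `p`-part of an element with non-vanishing central character lies in the centre of a
defect group, up to conjugation. -/
theorem exists_conj_center_defect (hM : Cfsg.IsPModular p M) [Fintype G]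
    {B : Set (Cfsg.IrrCharacter G)} (hB : Cfsg.IsPBlock M B) {P : Subgroup G}
    (hP : Cfsg.IsDefectGroup p M B P) {χ : Cfsg.IrrCharacter G} (hχ : χ ∈ B) {g : G}
    (hg : ¬ Cfsg.MemLocalIdeal M (Cfsg.centralChar (χ : G → ℂ) g)) :
    ∃ x : G, IsConj g x ∧ x ∈ Subgroup.centralizer (P : Set G) ∧
      ∀ z : G, Cfsg.IsPPart p x z → z ∈ P ∧ ∀ w ∈ P, z * w = w * z := by
  classical
  haveI : Fact p.Prime := ⟨hM.1⟩
  obtain ⟨w, hw, hwP⟩ := isDefectGroup_iff.1 hP
  set K := Subgroup.centralizer (P : Set G) with hK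
  haveI := Fintype.ofFinite K
  obtain ⟨ψ, hψ⟩ := exists_omega_trunc hM hB hwP.2.1 (H := K) le_rfl (centralizer_conj_mem K)
    hw.2.1 (mem_centralizer_iff_le.2 hwP.1)
  obtain ⟨B', hB', hBφ⟩ :=
    (isModHom_trunc hM hwP.2.1 (H := K) le_rfl (centralizer_conj_mem K) ψ).exists_block
  obtain ⟨χ', hχ'⟩ := block_nonempty hM hB'
  by_cases he : B' = B
  swap
  · exfalso
    have h1 := hBφ χ' hχ' (idem B) (isCentral_idem B) (idem_block_mem hM hB)
    rw [omega_idem, if_neg (Set.disjoint_left.1 (disjoint_blocks hM hB' hB he) hχ'), sub_zero] at h1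
    exact hψ h1
  subst he
  have h1 : omega (ψ : K → ℂ) (trunc K (K : Set G) (classSum g)) ≠ 0 := fun h => hg (by
    have h2 := hBφ χ hχ _ (isCentral_classSum g) (classSum_mem hM g)
    have h3 := li_neg h2
    rw [h, zero_sub, neg_neg, omega_classSum (Char.irr_isClassFunction χ)] at h3
    exact h3)
  rw [omega_trunc_classSum, finsum_mem_eq_finite_toFinset_sum _ (Set.toFinite _)] at h1
  obtain ⟨x, hx, hxne⟩ := Finset.exists_ne_zero_of_sum_ne_zero h1
  rw [Set.Finite.mem_toFinset] at hx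
  refine ⟨x, hx.1, x.2, fun z hz => ?_⟩
  obtain ⟨s, hs⟩ := exists_isPPart hM.1 x
  have hsG : Cfsg.IsPPart p (x : G) (s : G) := by
    obtain ⟨y, e1, e2, ⟨k, e3⟩, e4⟩ := hs
    exact ⟨y, congrArg Subtype.val e1, congrArg Subtype.val e2,
      ⟨k, by rwa [Subgroup.orderOf_coe]⟩, by rwa [Subgroup.orderOf_coe]⟩
  rw [eq_of_isPPart hM.1 hz hsG]
  refine ⟨?_, fun q hq => (Subgroup.mem_centralizer_iff.1 s.2 q hq).symm⟩
  by_contra hsP
  refine hxne ?_
  rw [irr_eq_zero_of_pPart_not_mem hM ⟨ψ, rfl⟩ (self_mem_blockOf hM ψ) hs fun Db hDb hmem => ?_,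
    zero_div]
  obtain ⟨v, hv, hvD⟩ := isDefectGroup_iff.1 hDb
  obtain ⟨c, hc, hc'⟩ := exists_coeff_commute hM (⟨ψ, rfl⟩ : Cfsg.IsPBlock M _) (self_mem_blockOf hM ψ)
    (isCentral_trunc (centralizer_conj_mem K) (isCentral_idem B'))
    (trunc_mem hM K _ (idem_block_mem hM hB)) hψ hv.2.1 hvD.2.1 (mem_centralizer_iff_le.2 hvD.1)
  rw [trunc_coeff, if_pos (SetLike.mem_coe.2 c.2)] at hc'
  have hnorm : Db.map K.subtype ≤ Subgroup.normalizer (P : Set G) :=
    (Subgroup.map_subtype_le Db).trans (Subgroup.centralizer_le_normalizer (P : Set G))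
  have hR : IsPGroup p (Db.map K.subtype ⊔ P : Subgroup G) :=
    (hvD.2.1.map _).to_sup_of_normal_right' hwP.2.1 hnorm
  have hRc : (Db.map K.subtype ⊔ P : Subgroup G) ≤ Subgroup.centralizer ({(c : G)} : Set G) := by
    refine sup_le ?_ fun q hq => Subgroup.mem_centralizer_singleton_iff.2
      (Subgroup.mem_centralizer_iff.1 c.2 q hq)
    rintro _ ⟨d, hd, rfl⟩
    exact Subgroup.mem_centralizer_singleton_iff.2
      (congrArg Subtype.val (Subgroup.mem_centralizer_iff.1 hc d hd))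
  obtain ⟨y, hy⟩ := cj_le_defect hM hB hP hc' hR hRc
  have h4 := eq_of_le_of_card_le' (show P ≤ Db.map K.subtype ⊔ P from le_sup_right)
    (by rw [← card_cj y]; exact Subgroup.card_le_of_le hy)
  exact hsP (h4 ▸ (le_sup_left : Db.map K.subtype ≤ _) (Subgroup.mem_map_of_mem _ hmem))

end Cfsg.Agent.Blocks
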