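import Cfsg.Agent.Blocks.DefectNumber

/-!
Values of height zero characters at defect classes.
-/

set_option autoImplicit false
set_option linter.all false

open scoped ComplexConjugate

namespace Cfsg.Agent.Blocks

universe u

variable {p : ℕ} {M : Ideal Cfsg.AlgInt} {G : Type u} [Group G] [Finite G]

theorem li_of_pow_li (hM : Cfsg.IsPModular p M) {z : ℂ} (hz : Cfsg.MemLocalRing M z) :
    ∀ n : ℕ, Cfsg.MemLocalIdeal M (z ^ n) → Cfsg.MemLocalIdeal M z := by
  intro n
  induction n with
  | zero => exact fun h => absurd (by simpa using h) (not_li_one hM)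
  | succ n ih =>
    intro h
    rw [pow_succ] at h
    by_cases hzl : Cfsg.MemLocalIdeal M z
    · exact hzl
    · refine ih ?_
      have h2 := li_mul hM h (inv_lr_of_not_li hM hz hzl)
      rwa [mul_inv_cancel_right₀ (ne_zero_of_not_li hM hzl)] at h2

/-- A character does not see the `p`-part of an element modulo the local ideal. -/
theorem li_char_pPart_sub (hM : Cfsg.IsPModular p M) {χ : G → ℂ} (hχ : Cfsg.IsCharacter G χ)
    {x w : G} {k : ℕ} (hx : orderOf x = p ^ k) (hw : ¬ p ∣ orderOf w) (hxw : Commute x w) :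
    Cfsg.MemLocalIdeal M (χ (x * w) - χ w) := by
  classical
  haveI : Fact p.Prime := ⟨hM.1⟩
  haveI := locIdeal_isMaximal hM
  haveI : CharP (locRing hM ⧸ locIdeal hM) p := charP_residue hM
  obtain ⟨d, ρ, rfl⟩ := hχ
  set g := x * w with hg
  obtain ⟨x', y', h1, h2, ⟨i, h3⟩, h4, -, hy⟩ := exists_pPart hM.1 g
  have hxx : x' = x := eq_of_isPPart hM.1 ⟨y', h1, h2, ⟨i, h3⟩, h4⟩ ⟨w, rfl, hxw, ⟨k, hx⟩, hw⟩
  subst hxx
  have hyw : y' = w := mul_left_cancel (h1.trans hg)
  subst hyw
  rw [← mem_powers_iff_mem_zpowers] at hy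
  obtain ⟨m, hm⟩ := hy
  obtain ⟨b, ω, hb, hω⟩ := Char.exists_eigenbasis ρ g (isOfFinOrder_of_finite g)
  have hbm : ∀ i, ρ y' (b i) = ω i ^ m • b i := by
    intro i
    rw [← hm, map_pow]
    clear hm
    induction m with
    | zero => simp
    | succ n ih => rw [pow_succ', Module.End.mul_apply, ih, map_smul, hb, smul_smul, pow_succ]
  rw [Representation.character, Representation.character, Char.trace_of_eigenbasis _ b ω hb,
    Char.trace_of_eigenbasis _ b _ hbm, ← Finset.sum_sub_distrib]
  refine li_sum hM _ fun i _ => ?_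
  have hint : IsIntegral ℤ (ω i) := Char.isIntegral_rootOfUnity (orderOf_pos g) (hω i)
  have hωr : ω i ∈ locRing hM := algInt_mem_locRing hM hint
  set a : locRing hM := ⟨ω i, hωr⟩
  have hord : g ^ (m * p ^ k) = g ^ (p ^ k) := by
    have hm' : g ^ m = y' := hm
    rw [pow_mul, hm', hg, hxw.mul_pow, pow_pow_eq_one_of_orderOf hx, one_mul]
  have h5 : ω i ^ (m * p ^ k) = ω i ^ (p ^ k) := by
    have hcomp : ∀ n : ℕ, ρ (g ^ n) (b i) = ω i ^ n • b i := by
      intro n
      rw [map_pow]
      induction n with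
      | zero => simp
      | succ n ih => rw [pow_succ', Module.End.mul_apply, ih, map_smul, hb, smul_smul, pow_succ]
    have h6 := hcomp (m * p ^ k)
    rw [hord, hcomp] at h6
    exact (smul_left_injective ℂ (b.ne_zero i) h6).symm
  have hmk : Ideal.Quotient.mk (locIdeal hM) (a - a ^ m) = 0 := by
    have h7 : (Ideal.Quotient.mk (locIdeal hM) (a - a ^ m)) ^ (p ^ k) = 0 := by
      rw [map_sub, sub_pow_char_pow, ← map_pow, ← map_pow, ← pow_mul,
        show a ^ (m * p ^ k) = a ^ (p ^ k) from Subtype.ext (by push_cast; exact h5), sub_self]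
    exact pow_eq_zero_iff (pow_ne_zero k hM.1.ne_zero) |>.1 h7
  have := (mem_locIdeal hM).1 (Ideal.Quotient.eq_zero_iff_mem.1 hmk)
  simpa [a] using this

theorem centralizer_mul_le {x w : G} {k : ℕ} (hp : p.Prime) (hx : orderOf x = p ^ k)
    (hw : ¬ p ∣ orderOf w) (hxw : Commute x w) :
    Subgroup.centralizer ({x * w} : Set G) ≤ Subgroup.centralizer ({w} : Set G) := by
  intro c hc
  have h1 : c * (x * w) = x * w * c := Subgroup.mem_centralizer_singleton_iff.1 hc
  have h2 := isPPart_conj (p := p) (g := x * w) (x := x) ⟨w, rfl, hxw, ⟨k, hx⟩, hw⟩ c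
  rw [show c * (x * w) * c⁻¹ = x * w by rw [h1, mul_inv_cancel_right]] at h2
  have h3 := eq_of_isPPart hp h2 ⟨w, rfl, hxw, ⟨k, hx⟩, hw⟩
  have h4 : c * x = x * c := by
    calc c * x = c * x * c⁻¹ * c := by group
      _ = x * c := by rw [h3]
  refine Subgroup.mem_centralizer_singleton_iff.2 (mul_left_cancel (a := x) ?_)
  rw [← mul_assoc, ← h4, mul_assoc, h1, mul_assoc]

theorem blockHeight_zero_iff {B : Set (Cfsg.IrrCharacter G)} (hM : Cfsg.IsPModular p M)
    (hB : Cfsg.IsPBlock M B) {w : G} (hw : Cfsg.IsDefectClass M B w) {χ : Cfsg.IrrCharacter G}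
    (hχ : χ ∈ B) : Cfsg.blockHeight p B (χ : G → ℂ) = 0 ↔
      (Cfsg.charDegree (χ : G → ℂ)).factorization p = (Nat.card G).factorization p
        - (Nat.card (Subgroup.centralizer ({w} : Set G))).factorization p := by
  obtain ⟨χ₀, hχ₀, hle⟩ := exists_degree_factorization_le hM hB hw
  have h1 := le_degree_factorization hM hw hχ₀
  have hinf : sInf ((fun χ : Cfsg.IrrCharacter G => (Cfsg.charDegree (χ : G → ℂ)).factorization p) '' B)
      = (Nat.card G).factorization p
        - (Nat.card (Subgroup.centralizer ({w} : Set G))).factorization p := by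
    refine le_antisymm (le_trans (Nat.sInf_le ⟨χ₀, hχ₀, rfl⟩) hle) (le_csInf ⟨_, χ₀, hχ₀, rfl⟩ ?_)
    rintro _ ⟨ψ, hψ, rfl⟩
    exact le_degree_factorization hM hw hψ
  have := le_degree_factorization hM hw hχ
  rw [Cfsg.blockHeight, hinf]
  omega

theorem index_factorization (H : Subgroup G) (p : ℕ) :
    (Nat.card G).factorization p = (Nat.card H).factorization p + H.index.factorization p := by
  rw [← H.card_mul_index, Nat.factorization_mul Nat.card_pos.ne' H.index_ne_zero_of_finite,
    Finsupp.add_apply]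

/-- Height zero characters do not vanish modulo the local ideal on the section of a defect class. -/
theorem not_li_apply_mul_defectClass (hM : Cfsg.IsPModular p M) {B : Set (Cfsg.IrrCharacter G)}
    (hB : Cfsg.IsPBlock M B) {w : G} (hw : Cfsg.IsDefectClass M B w) {x : G} {k : ℕ}
    (hx : orderOf x = p ^ k) (hxw : Commute x w) {χ : Cfsg.IrrCharacter G} (hχ : χ ∈ B)
    (h0 : Cfsg.blockHeight p B (χ : G → ℂ) = 0) :
    ¬ Cfsg.MemLocalIdeal M ((χ : G → ℂ) (x * w)) := by
  intro hl
  have hwr := not_dvd_orderOf_of_blockCoeff hM hB hw.2.1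
  have hχw : Cfsg.MemLocalIdeal M ((χ : G → ℂ) w) := by
    have h1 := li_sub hM hl (li_char_pPart_sub hM (Char.isCharacter_of_isIrrCharacter χ.2) hx hwr hxw)
    rwa [sub_sub_cancel] at h1
  refine hw.2.2 χ hχ ?_
  rw [Cfsg.centralChar, mul_div_right_comm]
  refine li_mul_left hM ?_ hχw
  rw [(irr_charDegree χ).1]
  refine natCast_div_lr hM (Subgroup.index_ne_zero_of_finite) (irr_charDegree χ).2 ?_
  have h2 := (blockHeight_zero_iff hM hB hw hχ).1 h0
  have h3 := index_factorization (Subgroup.centralizer ({w} : Set G)) p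
  omega

/-- For `x` central in a defect group, the central character at `x * w` is a unit. -/
theorem not_li_centralChar_mul_defectClass (hM : Cfsg.IsPModular p M)
    {B : Set (Cfsg.IrrCharacter G)} (hB : Cfsg.IsPBlock M B) {w : G}
    (hw : Cfsg.IsDefectClass M B w) {P : Subgroup G} (hP : MaxP p P w) {x : G} (hxP : x ∈ P)
    (hxc : ∀ z ∈ P, x * z = z * x) {χ : Cfsg.IrrCharacter G} (hχ : χ ∈ B) :
    ¬ Cfsg.MemLocalIdeal M (Cfsg.centralChar (χ : G → ℂ) (x * w)) := by
  haveI : Fact p.Prime := ⟨hM.1⟩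
  obtain ⟨χ₀, hχ₀, hle⟩ := exists_degree_factorization_le hM hB hw
  refine not_li_centralChar_of_mem hM hB hχ₀ hχ fun hl => ?_
  have hwr := not_dvd_orderOf_of_blockCoeff hM hB hw.2.1
  have hxw : Commute x w := Subgroup.mem_centralizer_singleton_iff.1 (hP.1 hxP)
  obtain ⟨k, hk⟩ := IsPGroup.iff_orderOf.1 hP.2.1 ⟨x, hxP⟩
  rw [Subgroup.orderOf_mk] at hk
  have h0 : Cfsg.blockHeight p B (χ₀ : G → ℂ) = 0 :=
    (blockHeight_zero_iff hM hB hw hχ₀).2 (le_antisymm hle (le_degree_factorization hM hw hχ₀))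
  refine not_li_apply_mul_defectClass hM hB hw hk hxw hχ₀ h0 ?_
  set C := Subgroup.centralizer ({x * w} : Set G) with hC
  have hPC : P ≤ C := fun z hz => Subgroup.mem_centralizer_singleton_iff.2 (by
    have h1 : z * x = x * z := (hxc z hz).symm
    have h2 : z * w = w * z := Subgroup.mem_centralizer_singleton_iff.1 (hP.1 hz)
    rw [← mul_assoc, h1, mul_assoc, h2, mul_assoc])
  have h1 : (Nat.card C).factorization p
      = (Nat.card (Subgroup.centralizer ({w} : Set G))).factorization p := by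
    refine le_antisymm ((Nat.factorization_le_iff_dvd Nat.card_pos.ne' Nat.card_pos.ne').2
      (Subgroup.card_dvd_of_le (centralizer_mul_le hM.1 hk hwr hxw)) p) ?_
    have h2 := (Nat.factorization_le_iff_dvd Nat.card_pos.ne' Nat.card_pos.ne').2
      (Subgroup.card_dvd_of_le hPC) p
    rwa [maxP_card_eq hP, hM.1.factorization_pow, Finsupp.single_eq_same] at h2
  have h2 := (blockHeight_zero_iff hM hB hw hχ₀).1 h0
  have h3 := index_factorization (Subgroup.centralizer ({w} : Set G)) p
  have h4 := index_factorization C p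
  have hne : (C.index : ℂ) ≠ 0 := by exact_mod_cast C.index_ne_zero_of_finite
  have hne2 : (Cfsg.charDegree (χ₀ : G → ℂ) : ℂ) ≠ 0 := by exact_mod_cast (irr_charDegree χ₀).2
  rw [Cfsg.centralChar, ← hC, mul_div_right_comm, (irr_charDegree χ₀).1] at hl
  have hu := natCast_div_lr (p := p) hM (irr_charDegree χ₀).2 C.index_ne_zero_of_finite (by omega)
  have h5 := li_mul_left hM hu hl
  rwa [← mul_assoc, div_mul_div_cancel₀ hne, div_self hne2, one_mul] at h5

end Cfsg.Agent.Blocks
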