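import Cfsg.Agent.Blocks.Covering
import Cfsg.Agent.Blocks.Height
import Cfsg.Agent.Char.Irr

/-!
Kernels of blocks, existence of modular ideals.
-/

set_option autoImplicit false
set_option linter.all false

open scoped ComplexConjugate

namespace Cfsg.Agent.Blocks

universe u

variable {p : ℕ} {M : Ideal Cfsg.AlgInt} {G : Type u} [Group G] [Finite G]

theorem exists_modularIdeal {p : ℕ} (hp : p.Prime) : ∃ M : Ideal Cfsg.AlgInt, Cfsg.IsPModular p M := by
  have hne : Ideal.span {(p : Cfsg.AlgInt)} ≠ ⊤ := by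
    intro h
    obtain ⟨a, ha⟩ := Ideal.mem_span_singleton'.1 (h ▸ Submodule.mem_top : (1 : Cfsg.AlgInt) ∈ _)
    have h1 : IsIntegral ℤ ((1 : ℕ) / (p : ℕ) : ℂ) := by
      have h2 : (a : ℂ) * (p : ℂ) = 1 := by exact_mod_cast congrArg Subtype.val ha
      rw [Nat.cast_one, ← eq_one_div_of_mul_eq_one_left h2]
      exact a.2
    exact hp.ne_one (Nat.dvd_one.1 (Char.nat_dvd_of_isIntegral hp.ne_zero h1))
  obtain ⟨M, hM, hle⟩ := Ideal.exists_le_maximal _ hne
  exact ⟨M, hp, hM, hle (Ideal.mem_span_singleton_self _)⟩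

/-- Averages over a normal subgroup. -/
theorem omega_normal_average [Fintype G] (N : Subgroup G) [N.Normal] [Fintype N]
    (χ : Cfsg.IrrCharacter G) :
    omega (χ : G → ℂ) (emb N (ga fun _ => (Nat.card N : ℂ)⁻¹))
      = (Nat.card N : ℂ)⁻¹ * (∑ n : N, (χ : G → ℂ) n) / (χ : G → ℂ) 1 := by
  rw [omega, ev, sum_emb_mul, Finset.mul_sum]
  simp only [coeff_ga]

theorem normal_average_invariant (N : Subgroup G) [N.Normal] :
    Invariant N (ga fun _ : N => (Nat.card N : ℂ)⁻¹) := fun _ _ => rfl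

theorem normal_average_sq (N : Subgroup G) [N.Normal] :
    emb N (ga fun _ : N => (Nat.card N : ℂ)⁻¹) * emb N (ga fun _ : N => (Nat.card N : ℂ)⁻¹)
      = emb N (ga fun _ : N => (Nat.card N : ℂ)⁻¹) := by
  haveI := Fintype.ofFinite N
  rw [← emb_mul]
  congr 1
  refine ext_coeff fun z => ?_
  rw [coeff_mul_sum]
  simp only [coeff_ga, Finset.sum_const, Finset.card_univ, ← Nat.card_eq_fintype_card, nsmul_eq_mul]
  rw [← mul_assoc, mul_inv_cancel₀ (by exact_mod_cast Nat.card_pos.ne'), one_mul]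

theorem trivial_on_of_average [Fintype G] (N : Subgroup G) [N.Normal] [Fintype N]
    (χ : Cfsg.IrrCharacter G)
    (h : omega (χ : G → ℂ) (emb N (ga fun _ => (Nat.card N : ℂ)⁻¹)) = 1) {g : G} (hg : g ∈ N) :
    (χ : G → ℂ) g = (χ : G → ℂ) 1 := by
  have hc := Char.isCharacter_of_isIrrCharacter χ.2
  rw [omega_normal_average, div_eq_iff (Char.irr_one_ne_zero χ), one_mul,
    inv_mul_eq_iff_eq_mul₀ (by exact_mod_cast Nat.card_pos.ne')] at h
  have h1 := congrArg Complex.re h
  rw [Complex.re_sum, Complex.mul_re, Complex.natCast_re, Complex.natCast_im, zero_mul, sub_zero] at h1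
  refine Char.eq_apply_one_of_re_eq hc g ?_
  by_contra hne
  have hlt : ∑ n : N, ((χ : G → ℂ) n).re < ∑ n : N, ((χ : G → ℂ) 1).re := by
    refine Finset.sum_lt_sum (fun n _ => Char.re_isCharacter_le hc _)
      ⟨⟨g, hg⟩, Finset.mem_univ _, lt_of_le_of_ne (Char.re_isCharacter_le hc g) hne⟩
  rw [Finset.sum_const, Finset.card_univ, ← Nat.card_eq_fintype_card, nsmul_eq_mul] at hlt
  linarith

theorem average_eq_one [Fintype G] (N : Subgroup G) [N.Normal] [Fintype N]
    (χ : Cfsg.IrrCharacter G) (h : ∀ g ∈ N, (χ : G → ℂ) g = (χ : G → ℂ) 1) :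
    omega (χ : G → ℂ) (emb N (ga fun _ => (Nat.card N : ℂ)⁻¹)) = 1 := by
  rw [omega_normal_average]
  have hs : ∑ n : N, (χ : G → ℂ) n = (Nat.card N : ℂ) * (χ : G → ℂ) 1 := by
    rw [Finset.sum_congr rfl (fun (n : N) _ => h (n : G) n.2), Finset.sum_const, Finset.card_univ,
      ← Nat.card_eq_fintype_card, nsmul_eq_mul]
  rw [hs, inv_mul_cancel_left₀ (by exact_mod_cast Nat.card_pos.ne'), div_self (Char.irr_one_ne_zero χ)]

/-- Characters trivial on a normal `p'`-subgroup form a union of blocks. -/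
theorem trivial_on_of_sameBlock (hM : Cfsg.IsPModular p M) [Fintype G] (N : Subgroup G) [N.Normal]
    (hN : ¬ p ∣ Nat.card N) {χ ψ : Cfsg.IrrCharacter G}
    (h : Cfsg.SameBlock M (χ : G → ℂ) (ψ : G → ℂ)) (hχ : ∀ g ∈ N, (χ : G → ℂ) g = (χ : G → ℂ) 1)
    {g : G} (hg : g ∈ N) : (ψ : G → ℂ) g = (ψ : G → ℂ) 1 := by
  haveI := Fintype.ofFinite N
  refine trivial_on_of_average N ψ ?_ hg
  have hc := isCentral_emb_of_invariant N (normal_average_invariant N)
  have hi : emb N (ga fun _ : N => (Nat.card N : ℂ)⁻¹) ∈ intAlg hM G :=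
    emb_mem hM N (fun n => by rw [coeff_ga]; exact inv_natCast_lr hM hN)
  have h1 := li_omega_sub hM h hc hi
  rw [average_eq_one N χ hχ] at h1
  have h2 := omega_mul ψ hc (emb N (ga fun _ : N => (Nat.card N : ℂ)⁻¹))
  rw [normal_average_sq] at h2
  rcases mul_eq_zero.1 (show omega (ψ : G → ℂ) (emb N (ga fun _ : N => (Nat.card N : ℂ)⁻¹))
      * (omega (ψ : G → ℂ) (emb N (ga fun _ : N => (Nat.card N : ℂ)⁻¹)) - 1) = 0 by
    rw [mul_sub, ← h2, mul_one, sub_self]) with h3 | h3
  · rw [h3, sub_zero] at h1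
    exact absurd h1 (not_li_one hM)
  · exact sub_eq_zero.1 h3

/-- The kernel of a block. -/
theorem exists_blockKer (hM : Cfsg.IsPModular p M) {B : Set (Cfsg.IrrCharacter G)}
    (hB : Cfsg.IsPBlock M B) :
    ∃ K : Subgroup G, K.Normal ∧ (K : Set G) = Cfsg.blockKer B ∧ ¬ p ∣ Nat.card K := by
  classical
  haveI := Fintype.ofFinite G
  haveI : Fact p.Prime := ⟨hM.1⟩
  have hker : ∀ χ : Cfsg.IrrCharacter G, ∃ K : Subgroup G,
      K.Normal ∧ ∀ g, g ∈ K ↔ (χ : G → ℂ) g = (χ : G → ℂ) 1 := by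
    intro χ
    obtain ⟨d, ρ, hρ⟩ := Char.isCharacter_of_isIrrCharacter χ.2
    refine ⟨MonoidHom.ker ρ.toHomUnits, inferInstance, fun g => ?_⟩
    rw [MonoidHom.mem_ker, Units.ext_iff, ← hρ]
    constructor
    · intro h
      have h' : ρ g = 1 := h
      show LinearMap.trace ℂ _ (ρ g) = LinearMap.trace ℂ _ (ρ 1)
      rw [h', ρ.map_one]
    · intro h
      obtain ⟨b, ω, hb, hω⟩ := Char.exists_eigenbasis ρ g (isOfFinOrder_of_finite g)
      have hall : ∀ i, ω i = 1 := by
        have h1 : ((∑ i, ω i).re) = ((Module.finrank ℂ (Fin d → ℂ) : ℕ) : ℝ) := by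
          rw [← Char.trace_of_eigenbasis _ b ω hb]
          rw [← Representation.character, h, ρ.char_one, Complex.natCast_re]
        intro i
        have hn : ∀ j, ‖ω j‖ = 1 := fun j =>
          Complex.norm_eq_one_of_pow_eq_one (hω j) (orderOf_pos g).ne'
        have hle : ∀ j, (ω j).re ≤ 1 := fun j => (Complex.re_le_norm _).trans_eq (hn j)
        rw [Complex.re_sum] at h1
        have h2 : (ω i).re = 1 := by
          by_contra hne
          have := Finset.sum_lt_sum (fun j _ => hle j)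
            ⟨i, Finset.mem_univ _, lt_of_le_of_ne (hle i) hne⟩
          rw [h1] at this
          simp at this
        have h3 := hn i
        rw [Complex.norm_def, Real.sqrt_eq_one, Complex.normSq_apply, h2] at h3
        have h4 : (ω i).im = 0 := by nlinarith
        exact Complex.ext h2 h4
      show ρ g = 1
      exact b.ext fun i => by rw [hb, hall, one_smul]; rfl
  choose K hKn hK using hker
  refine ⟨⨅ χ ∈ B, K χ, ?_, ?_, ?_⟩
  · exact Subgroup.normal_iInf_normal fun χ => Subgroup.normal_iInf_normal fun _ => hKn χ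
  · ext g
    simp only [SetLike.mem_coe, Subgroup.mem_iInf, Cfsg.blockKer, Set.mem_setOf_eq, hK]
  · intro hd
    obtain ⟨⟨g, hg⟩, hord⟩ := exists_prime_orderOf_dvd_card' p hd
    rw [Subgroup.orderOf_mk] at hord
    obtain ⟨χ, hχ⟩ := block_nonempty hM hB
    have h0 := sum_eq_zero_of_singular hM (idem_block_mem hM hB) (g := g) (t := 1)
      (hord ▸ dvd_rfl) (by rw [orderOf_one]; exact hM.1.not_dvd_one)
    simp only [Subgroup.mem_iInf] at hg
    have h1 : ∀ η ∈ B.toFinite.toFinset, (η : G → ℂ) g * conj ((η : G → ℂ) 1)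
        = ((Cfsg.charDegree (η : G → ℂ) * Cfsg.charDegree (η : G → ℂ) : ℕ) : ℂ) := by
      intro η hη
      rw [(hK η g).1 (hg η (B.toFinite.mem_toFinset.1 hη)), (irr_charDegree η).1, Complex.conj_natCast]
      push_cast; ring
    rw [Finset.sum_congr rfl h1, ← Nat.cast_sum, Nat.cast_eq_zero] at h0
    have := Finset.sum_eq_zero_iff.1 h0 χ (B.toFinite.mem_toFinset.2 hχ)
    exact (irr_charDegree χ).2 (mul_self_eq_zero.1 this)

end Cfsg.Agent.Blocks
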