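import Cfsg.Agent.Blocks.Nilpotent

/-!
Restriction and truncation maps, modular homomorphisms on central elements, induced blocks.
-/

set_option autoImplicit false
set_option linter.all false

open scoped ComplexConjugate
open Polynomial Module

namespace Cfsg.Agent.Blocks

universe u

variable {p : ℕ} {M : Ideal Cfsg.AlgInt} {G : Type u} [Group G] [Finite G]

local notation "ℂG" => MonoidAlgebra ℂ G

/-- Coefficientwise congruence modulo the local ideal. -/
def LiEq (M : Ideal Cfsg.AlgInt) (a b : ℂG) : Prop :=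
  ∀ g, Cfsg.MemLocalIdeal M (a.coeff g - b.coeff g)

theorem LiEq.refl (hM : Cfsg.IsPModular p M) (a : ℂG) : LiEq M a a :=
  fun g => by rw [sub_self]; exact li_zero hM

theorem LiEq.trans (hM : Cfsg.IsPModular p M) {a b c : ℂG} (h : LiEq M a b) (h' : LiEq M b c) :
    LiEq M a c := fun g => by simpa using li_add hM (h g) (h' g)

omit [Finite G] in
theorem LiEq.symm {a b : ℂG} (h : LiEq M a b) : LiEq M b a :=
  fun g => by simpa using li_neg (h g)

theorem li_omega (hM : Cfsg.IsPModular p M) [Fintype G] (χ : Cfsg.IrrCharacter G) {a : ℂG}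
    (ha : IsCentral a) (h : ∀ g, Cfsg.MemLocalIdeal M (a.coeff g)) :
    Cfsg.MemLocalIdeal M (omega (χ : G → ℂ) a) := by
  classical
  haveI := Fintype.ofFinite (ConjClasses G)
  rw [omega, ev, ha.sum_mul_eq, Finset.sum_div]
  refine li_sum hM _ fun C _ => ?_
  rw [mul_div_assoc]
  refine li_mul hM (h _) ?_
  exact omega_lr hM χ (isCentral_classSum C.out) (classSum_mem hM _)

theorem LiEq.omega (hM : Cfsg.IsPModular p M) [Fintype G] (χ : Cfsg.IrrCharacter G) {a b : ℂG}
    (ha : IsCentral a) (hb : IsCentral b) (h : LiEq M a b) :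
    Cfsg.MemLocalIdeal M (omega (χ : G → ℂ) a - omega (χ : G → ℂ) b) := by
  rw [← omega_sub]
  exact li_omega hM χ (ha.sub hb) fun g => by simpa using h g

theorem LiEq.mul (hM : Cfsg.IsPModular p M) {a a' b b' : ℂG} (h : LiEq M a a') (h' : LiEq M b b')
    (ha : a ∈ intAlg hM G) (hb' : b' ∈ intAlg hM G) : LiEq M (a * b) (a' * b') := by
  haveI := Fintype.ofFinite G
  intro g
  rw [coeff_mul_sum, coeff_mul_sum, ← Finset.sum_sub_distrib]
  refine li_sum hM _ fun x _ => ?_
  have := li_add hM (li_mul_left hM (ha x) (h' (x⁻¹ * g))) (li_mul hM (h x) (hb' (x⁻¹ * g)))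
  convert this using 1
  ring

/-- Restriction of a group algebra element to the part lying in `H` and in `C`. -/
noncomputable def trunc (H : Subgroup G) (C : Set G) (a : MonoidAlgebra ℂ G) : MonoidAlgebra ℂ H :=
  ga fun h => by classical exact if (h : G) ∈ C then a.coeff h else 0

theorem trunc_coeff (H : Subgroup G) (C : Set G) (a : ℂG) (h : H) [Decidable ((h : G) ∈ C)] :
    (trunc H C a).coeff h = if (h : G) ∈ C then a.coeff h else 0 := by
  simp only [trunc, coeff_ga]
  congr

theorem trunc_add (H : Subgroup G) (C : Set G) (a b : ℂG) :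
    trunc H C (a + b) = trunc H C a + trunc H C b := by
  classical
  refine ext_coeff fun h => ?_
  simp only [MonoidAlgebra.coeff_add, Finsupp.add_apply, trunc_coeff]
  split_ifs <;> simp

theorem trunc_smul (H : Subgroup G) (C : Set G) (c : ℂ) (a : ℂG) :
    trunc H C (c • a) = c • trunc H C a := by
  classical
  refine ext_coeff fun h => ?_
  simp only [MonoidAlgebra.coeff_smul_apply, trunc_coeff]
  split_ifs <;> simp

theorem trunc_mem (hM : Cfsg.IsPModular p M) (H : Subgroup G) (C : Set G) {a : ℂG}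
    (ha : a ∈ intAlg hM G) : trunc H C a ∈ intAlg hM H := by
  classical
  intro h
  rw [trunc_coeff]
  split_ifs
  · exact ha _
  · exact lr_zero hM

theorem trunc_one (H : Subgroup G) {C : Set G} (h1 : (1 : G) ∈ C) :
    trunc H C (1 : ℂG) = 1 := by
  classical
  refine ext_coeff fun h => ?_
  simp only [trunc_coeff, MonoidAlgebra.one_def, MonoidAlgebra.coeff_single, Finsupp.single_apply]
  by_cases hh : h = 1
  · subst hh; simp [h1]
  · have : ¬ (1 : G) = (h : G) := fun h' => hh (Subtype.ext h'.symm)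
    rw [if_neg this, if_neg (Ne.symm hh), ite_self]

theorem isCentral_trunc {H : Subgroup G} {C : Set G}
    (hC : ∀ x ∈ H, ∀ c ∈ C, x * c * x⁻¹ ∈ C) {a : ℂG} (ha : IsCentral a) :
    IsCentral (trunc H C a) := by
  classical
  intro h x
  simp only [trunc_coeff, Subgroup.coe_mul, Subgroup.coe_inv]
  have hiff : (x : G) * h * (x : G)⁻¹ ∈ C ↔ (h : G) ∈ C := by
    refine ⟨fun h' => ?_, hC _ x.2 _⟩
    simpa [mul_assoc] using hC _ (H.inv_mem x.2) _ h'
  by_cases hh : (h : G) ∈ C
  · rw [if_pos hh, if_pos (hiff.2 hh), ha]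
  · rw [if_neg hh, if_neg (mt hiff.1 hh)]

omit [Finite G] in
/-- Invariance of coefficients under conjugation by `P`. -/
def PInvariant (P : Subgroup G) (a : ℂG) : Prop :=
  ∀ x ∈ P, ∀ g, a.coeff (x * g * x⁻¹) = a.coeff g

omit [Finite G] in
theorem IsCentral.pInvariant {a : ℂG} (ha : IsCentral a) (P : Subgroup G) : PInvariant P a :=
  fun x _ g => ha g x

/-- The Brauer map is multiplicative modulo the local ideal. -/
theorem trunc_mul (hM : Cfsg.IsPModular p M) {P : Subgroup G} (hP : IsPGroup p P)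
    {H : Subgroup G} (hH : Subgroup.centralizer (P : Set G) ≤ H) {a b : ℂG}
    (ha : a ∈ intAlg hM G) (hb : b ∈ intAlg hM G) (hPa : PInvariant P a) (hPb : PInvariant P b) :
    LiEq M (trunc H (Subgroup.centralizer (P : Set G) : Set G) (a * b))
      (trunc H (Subgroup.centralizer (P : Set G) : Set G) a
        * trunc H (Subgroup.centralizer (P : Set G) : Set G) b) := by
  classical
  haveI := Fintype.ofFinite G
  haveI := Fintype.ofFinite H
  intro c
  set C : Set G := (Subgroup.centralizer (P : Set G) : Set G)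
  rw [coeff_mul_sum (G := H)]
  simp only [trunc_coeff, Subgroup.coe_mul, Subgroup.coe_inv]
  by_cases hc : (c : G) ∈ C
  · rw [if_pos hc, coeff_mul_sum]
    letI : MulAction P G := MulAction.compHom G (ConjAct.toConjAct.toMonoidHom.comp P.subtype)
    have hsmul : ∀ (x : P) (g : G), x • g = (x : G) * g * (x : G)⁻¹ := fun x g => rfl
    have hfix : ∀ g : G, g ∈ MulAction.fixedPoints P G ↔ g ∈ C := by
      intro g
      simp only [C, SetLike.mem_coe, Subgroup.mem_centralizer_iff, MulAction.mem_fixedPoints, hsmul]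
      exact ⟨fun h x hx => mul_inv_eq_iff_eq_mul.1 (h ⟨x, hx⟩),
        fun h x => mul_inv_eq_iff_eq_mul.2 (h x x.2)⟩
    have hinv : ∀ (x : P) (g : G), a.coeff (x • g) * b.coeff ((x • g)⁻¹ * c)
        = a.coeff g * b.coeff (g⁻¹ * c) := by
      intro x g
      rw [hsmul, hPa x x.2 g]
      congr 1
      have hxc : (x : G) * c = c * x := Subgroup.mem_centralizer_iff.1 hc x x.2
      have hxc' : (x : G)⁻¹ * c = c * (x : G)⁻¹ := (Commute.inv_left hxc).eq
      rw [show ((x : G) * g * (x : G)⁻¹)⁻¹ * c = (x : G) * (g⁻¹ * c) * (x : G)⁻¹ by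
        simp only [mul_inv_rev, inv_inv, mul_assoc, hxc'], hPb x x.2]
    have h1 := li_sum_sub_sum_fixed hM hP (fun g => a.coeff g * b.coeff (g⁻¹ * c))
      (fun g => lr_mul hM (ha g) (hb _)) hinv
    convert h1 using 2
    rw [Finset.filter_congr (fun g _ => hfix g), Finset.sum_filter]
    symm
    have hzero : ∀ g ∈ (Finset.univ : Finset G),
        g ∉ Finset.univ.map (Function.Embedding.subtype (· ∈ H)) →
        (if g ∈ C then a.coeff g * b.coeff (g⁻¹ * c) else 0) = 0 :=
      fun g _ hg => if_neg fun hgC => hg (Finset.mem_map.2 ⟨⟨g, hH hgC⟩, Finset.mem_univ _, rfl⟩)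
    rw [← Finset.sum_subset (Finset.subset_univ _) hzero, Finset.sum_map]
    refine Finset.sum_congr rfl fun x _ => ?_
    simp only [Function.Embedding.coe_subtype]
    by_cases hx : (x : G) ∈ C
    · have hxc : (x : G)⁻¹ * c ∈ C := by
        exact (Subgroup.centralizer (P : Set G)).mul_mem ((Subgroup.centralizer (P : Set G)).inv_mem hx) hc
      simp [hx, hxc]
    · simp [hx]
  · rw [if_neg hc, Finset.sum_eq_zero, sub_zero]
    · exact li_zero hM
    intro x _
    by_cases hx : (x : G) ∈ C
    · have hxc : ¬ (x : G)⁻¹ * c ∈ C := fun hxc => hc (by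
        have := (Subgroup.centralizer (P : Set G)).mul_mem hx hxc
        rwa [mul_inv_cancel_left] at this)
      rw [if_neg hxc, mul_zero]
    · rw [if_neg hx, zero_mul]

theorem omega_trunc_classSum (H : Subgroup G) [Fintype H] (C : Set G) (ξ : H → ℂ) (g : G) :
    omega ξ (trunc H C (classSum g))
      = ∑ᶠ h ∈ {h : H | IsConj g (h : G) ∧ (h : G) ∈ C}, ξ h / ξ 1 := by
  classical
  rw [finsum_mem_eq_finite_toFinset_sum _ (Set.toFinite _), omega, ev, Finset.sum_div]
  symm
  refine Finset.sum_subset_zero_on_sdiff (Finset.subset_univ _) (fun h hh => ?_) fun h hh => ?_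
  · simp only [Finset.mem_sdiff, Finset.mem_univ, true_and, Set.Finite.mem_toFinset,
      Set.mem_setOf_eq] at hh
    rw [trunc_coeff, classSum_apply]
    split_ifs with h1 h2
    · exact absurd ⟨h2, h1⟩ hh
    · simp
    · simp
  · simp only [Set.Finite.mem_toFinset, Set.mem_setOf_eq] at hh
    rw [trunc_coeff, classSum_apply, if_pos hh.2, if_pos hh.1, one_mul]

theorem inducedCentralChar_eq (H : Subgroup G) [Fintype H] (ξ : H → ℂ) (g : G) :
    Cfsg.inducedCentralChar H ξ g = omega ξ (trunc H Set.univ (classSum g)) := by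
  rw [omega_trunc_classSum, Cfsg.inducedCentralChar]
  exact finsum_mem_congr (by ext; simp) fun _ _ => rfl

theorem brauerCentralChar_eq (P H : Subgroup G) [Fintype H] (ξ : H → ℂ) (g : G) :
    Cfsg.brauerCentralChar P H ξ g
      = omega ξ (trunc H (Subgroup.centralizer (P : Set G) : Set G) (classSum g)) := by
  rw [omega_trunc_classSum, Cfsg.brauerCentralChar]
  rfl

/-- A linear functional that is multiplicative modulo the local ideal on central integral
elements. -/
structure IsModHom (hM : Cfsg.IsPModular p M) (φ : MonoidAlgebra ℂ G → ℂ) : Prop where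
  add : ∀ a b, φ (a + b) = φ a + φ b
  smul : ∀ (c : ℂ) a, φ (c • a) = c * φ a
  one : φ 1 = 1
  lr : ∀ a, IsCentral a → a ∈ intAlg hM G → Cfsg.MemLocalRing M (φ a)
  mul : ∀ a b, IsCentral a → a ∈ intAlg hM G → IsCentral b → b ∈ intAlg hM G →
    Cfsg.MemLocalIdeal M (φ (a * b) - φ a * φ b)

theorem IsModHom.zero {hM : Cfsg.IsPModular p M} {φ : ℂG → ℂ} (hφ : IsModHom hM φ) : φ 0 = 0 := by
  have := hφ.smul 0 1
  rwa [zero_smul, zero_mul] at this

theorem IsModHom.sub {hM : Cfsg.IsPModular p M} {φ : ℂG → ℂ} (hφ : IsModHom hM φ) (a b : ℂG) :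
    φ (a - b) = φ a - φ b := by
  rw [eq_sub_iff_add_eq, ← hφ.add, sub_add_cancel]

theorem IsModHom.sum {hM : Cfsg.IsPModular p M} {φ : ℂG → ℂ} (hφ : IsModHom hM φ)
    {ι : Type*} (s : Finset ι) (f : ι → ℂG) : φ (∑ i ∈ s, f i) = ∑ i ∈ s, φ (f i) := by
  classical
  induction s using Finset.induction with
  | empty => simpa using hφ.zero
  | insert a s ha ih => rw [Finset.sum_insert ha, hφ.add, ih, Finset.sum_insert ha]

/-- Every modular homomorphism is the central character of exactly one block. -/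
theorem IsModHom.exists_block {hM : Cfsg.IsPModular p M} [Fintype G] {φ : ℂG → ℂ}
    (hφ : IsModHom hM φ) :
    ∃ B : Set (Cfsg.IrrCharacter G), Cfsg.IsPBlock M B ∧ ∀ χ ∈ B, ∀ a, IsCentral a →
      a ∈ intAlg hM G → Cfsg.MemLocalIdeal M (φ a - omega (χ : G → ℂ) a) := by
  classical
  let bl : Cfsg.IrrCharacter G → Set (Cfsg.IrrCharacter G) := fun χ => Cfsg.blockOf M (χ : G → ℂ)
  let Bs : Finset (Set (Cfsg.IrrCharacter G)) := Finset.univ.image bl
  have hone : (1 : ℂG) = ∑ B ∈ Bs, idem B := by
    refine isCentral_one.eq_of_omega ?_ fun χ => ?_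
    · exact fun g x => by
        simp only [coeff_sum']
        exact Finset.sum_congr rfl fun B _ => isCentral_idem B g x
    · rw [omega_sum, omega_one, Finset.sum_eq_single (bl χ)]
      · rw [omega_idem, if_pos (self_mem_blockOf hM χ)]
      · intro B hB hne
        obtain ⟨ψ, -, rfl⟩ := Finset.mem_image.1 hB
        have hnot : χ ∉ bl ψ := fun h => hne (blockOf_eq_of_sameBlock hM h)
        rw [omega_idem, if_neg hnot]
      · exact fun h => absurd (Finset.mem_image_of_mem bl (Finset.mem_univ χ)) h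
  obtain ⟨B, hB, hBu⟩ : ∃ B ∈ Bs, ¬ Cfsg.MemLocalIdeal M (φ (idem B)) := by
    by_contra hc
    push Not at hc
    apply not_li_one hM
    rw [← hφ.one, hone, hφ.sum]
    exact li_sum hM _ hc
  have hB' : Cfsg.IsPBlock M B := by
    obtain ⟨ψ, -, rfl⟩ := Finset.mem_image.1 hB
    exact ⟨ψ, rfl⟩
  have hec := isCentral_idem B
  have hei := idem_block_mem hM hB'
  refine ⟨B, hB', fun χ hχ a ha hai => ?_⟩
  -- `φ` is multiplicative on products killing the block
  have key : ∀ s : Finset (Cfsg.IrrCharacter G), ∃ b : ℂG, IsCentral b ∧ b ∈ intAlg hM G ∧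
      (∀ η ∈ s, omega (η : G → ℂ) b = 0) ∧
      Cfsg.MemLocalIdeal M (φ b - ∏ η ∈ s, (φ a - omega (η : G → ℂ) a)) := by
    intro s
    induction s using Finset.induction with
    | empty => exact ⟨1, isCentral_one, one_mem _, by simp, by
        rw [hφ.one, Finset.prod_empty, sub_self]; exact li_zero hM⟩
    | insert η s hη ih =>
      obtain ⟨b, hbc, hbi, hb0, hbφ⟩ := ih
      set c := a - omega (η : G → ℂ) a • (1 : ℂG) with hc
      have hcc : IsCentral c := ha.sub (isCentral_one.smul _)
      have hci : c ∈ intAlg hM G :=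
        Subalgebra.sub_mem _ hai (Subalgebra.smul_mem (intAlg hM G) (one_mem _)
          (⟨_, omega_lr hM η ha hai⟩ : locRing hM))
      refine ⟨c * b, hcc.mul hbc, mul_mem hci hbi, fun θ hθ => ?_, ?_⟩
      · rw [omega_mul θ hcc]
        rcases Finset.mem_insert.1 hθ with rfl | hθ
        · rw [hc, omega_sub, omega_smul, omega_one, mul_one, sub_self, zero_mul]
        · rw [hb0 θ hθ, mul_zero]
      · have hφc : φ c = φ a - omega (η : G → ℂ) a := by
          rw [hc, hφ.sub, hφ.smul, hφ.one, mul_one]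
        rw [Finset.prod_insert hη, ← hφc]
        have h1 := hφ.mul c b hcc hci hbc hbi
        have h2 := li_mul_left hM (hφ.lr c hcc hci) hbφ
        convert li_add hM h1 h2 using 1
        ring
  obtain ⟨b, hbc, hbi, hb0, hbφ⟩ := key B.toFinite.toFinset
  have hbe : b * idem B = 0 := (hbc.mul hec).eq_zero fun η => by
    rw [omega_mul η hbc, omega_idem]
    split_ifs with h
    · rw [hb0 η ((Set.Finite.mem_toFinset _).2 h), zero_mul]
    · rw [mul_zero]
  have hbli : Cfsg.MemLocalIdeal M (φ b) := by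
    have h1 := hφ.mul b (idem B) hbc hbi hec hei
    rw [hbe, hφ.zero, zero_sub] at h1
    exact (li_or_li_of_mul hM (hφ.lr b hbc hbi) (hφ.lr _ hec hei)
      (by simpa using li_neg h1)).resolve_right hBu
  have hprod : Cfsg.MemLocalIdeal M (∏ η ∈ B.toFinite.toFinset, (φ a - omega (η : G → ℂ) a)) := by
    simpa using li_sub hM hbli hbφ
  have hprime : ∀ s : Finset (Cfsg.IrrCharacter G),
      Cfsg.MemLocalIdeal M (∏ η ∈ s, (φ a - omega (η : G → ℂ) a)) →
      ∃ η ∈ s, Cfsg.MemLocalIdeal M (φ a - omega (η : G → ℂ) a) := by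
    intro s
    induction s using Finset.induction with
    | empty => intro h; rw [Finset.prod_empty] at h; exact absurd h (not_li_one hM)
    | insert η s hη ih =>
      intro h
      rw [Finset.prod_insert hη] at h
      have hlr : ∀ θ : Cfsg.IrrCharacter G, (φ a - omega (θ : G → ℂ) a) ∈ locRing hM := fun θ =>
        sub_mem (hφ.lr a ha hai) (omega_lr hM θ ha hai)
      rcases li_or_li_of_mul hM (hlr η) ((locRing hM).prod_mem fun θ _ => hlr θ) h with h1 | h1
      · exact ⟨η, Finset.mem_insert_self _ _, h1⟩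
      · obtain ⟨θ, hθ, h2⟩ := ih h1
        exact ⟨θ, Finset.mem_insert_of_mem hθ, h2⟩
  obtain ⟨η, hη, hηli⟩ := hprime _ hprod
  have h3 := li_omega_sub hM (sameBlock_of_mem hM hB' ((Set.Finite.mem_toFinset _).1 hη) hχ) ha hai
  simpa using li_add hM hηli h3

/-- The block of a modular homomorphism is unique. -/
theorem block_unique (hM : Cfsg.IsPModular p M) [Fintype G] {B B' : Set (Cfsg.IrrCharacter G)}
    (hB : Cfsg.IsPBlock M B) (hB' : Cfsg.IsPBlock M B') {χ χ' : Cfsg.IrrCharacter G} (hχ : χ ∈ B)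
    (hχ' : χ' ∈ B')
    (h : ∀ g, Cfsg.MemLocalIdeal M (omega (χ : G → ℂ) (classSum g) - omega (χ' : G → ℂ) (classSum g))) :
    B = B' := by
  rw [block_eq_blockOf hM hB hχ, block_eq_blockOf hM hB' hχ']
  refine blockOf_eq_of_sameBlock hM fun g => ?_
  rw [← omega_classSum (Char.irr_isClassFunction χ), ← omega_classSum (Char.irr_isClassFunction χ')]
  exact h g

theorem li_of_classSum (hM : Cfsg.IsPModular p M) [Fintype G] (φ : ℂG → ℂ)
    (hadd : ∀ a b, φ (a + b) = φ a + φ b) (hsmul : ∀ (c : ℂ) a, φ (c • a) = c * φ a)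
    (h : ∀ g, Cfsg.MemLocalIdeal M (φ (classSum g))) {a : ℂG} (ha : IsCentral a)
    (hai : a ∈ intAlg hM G) : Cfsg.MemLocalIdeal M (φ a) := by
  classical
  haveI := Fintype.ofFinite (ConjClasses G)
  have hdec : a = ∑ C : ConjClasses G, a.coeff C.out • classSum C.out := by
    refine ext_coeff fun g => ?_
    rw [coeff_sum', Finset.sum_eq_single (ConjClasses.mk g)]
    · rw [MonoidAlgebra.coeff_smul_apply, classSum_apply]
      have hc : IsConj (ConjClasses.mk g).out g :=
        ConjClasses.mk_eq_mk_iff_isConj.1 (Quotient.out_eq (ConjClasses.mk g))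
      rw [if_pos hc, smul_eq_mul, mul_one]
      obtain ⟨y, hy⟩ := isConj_iff.1 hc
      conv_lhs => rw [← hy, ha]
    · intro C _ hne
      rw [MonoidAlgebra.coeff_smul_apply, classSum_apply, if_neg, smul_zero]
      intro hc
      apply hne
      have h2 := ConjClasses.mk_eq_mk_iff_isConj.2 hc
      have h3 : ConjClasses.mk C.out = C := Quotient.out_eq C
      rw [h3] at h2
      exact h2
    · simp
  have hzero : φ 0 = 0 := by
    have := hsmul 0 1
    rwa [zero_smul, zero_mul] at this
  have hsum : ∀ s : Finset (ConjClasses G),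
      Cfsg.MemLocalIdeal M (φ (∑ C ∈ s, a.coeff C.out • classSum C.out)) := by
    intro s
    induction s using Finset.induction with
    | empty => rw [Finset.sum_empty, hzero]; exact li_zero hM
    | insert C s hC ih =>
      rw [Finset.sum_insert hC, hadd, hsmul]
      exact li_add hM (li_mul_left hM (hai _) (h _)) ih
  rw [hdec]
  exact hsum _

/-- An induced block is induced on every central integral element. -/
theorem li_trunc_sub_omega (hM : Cfsg.IsPModular p M) [Fintype G] {H : Subgroup G} [Fintype H]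
    {b : Set (Cfsg.IrrCharacter H)} {B : Set (Cfsg.IrrCharacter G)}
    (hind : Cfsg.IsInducedBlock M H b B) {ξ : Cfsg.IrrCharacter H} (hξ : ξ ∈ b)
    {χ : Cfsg.IrrCharacter G} (hχ : χ ∈ B) {a : ℂG} (ha : IsCentral a) (hai : a ∈ intAlg hM G) :
    Cfsg.MemLocalIdeal M (omega (ξ : H → ℂ) (trunc H Set.univ a) - omega (χ : G → ℂ) a) := by
  refine li_of_classSum hM (fun a => omega (ξ : H → ℂ) (trunc H Set.univ a) - omega (χ : G → ℂ) a)
    (fun a b => ?_) (fun c a => ?_) (fun g => ?_) ha hai
  · rw [trunc_add, omega_add, omega_add]; ring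
  · rw [trunc_smul, omega_smul, omega_smul]; ring
  · rw [← inducedCentralChar_eq, omega_classSum (Char.irr_isClassFunction χ)]
    exact hind.2.2 ξ hξ χ hχ g

/-- The modular homomorphism given by a Brauer map. -/
theorem isModHom_trunc (hM : Cfsg.IsPModular p M) {P H : Subgroup G} [Fintype H]
    (hP : IsPGroup p P) (hH : Subgroup.centralizer (P : Set G) ≤ H)
    (hHN : ∀ x ∈ H, ∀ c ∈ Subgroup.centralizer (P : Set G), x * c * x⁻¹ ∈ Subgroup.centralizer (P : Set G))
    (ξ : Cfsg.IrrCharacter H) :
    IsModHom hM (fun a => omega (ξ : H → ℂ) (trunc H (Subgroup.centralizer (P : Set G) : Set G) a)) where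
  add a b := by rw [trunc_add, omega_add]
  smul c a := by rw [trunc_smul, omega_smul]
  one := by rw [trunc_one H (Subgroup.one_mem _), omega_one]
  lr a ha hai := omega_lr hM ξ (isCentral_trunc hHN ha) (trunc_mem hM H _ hai)
  mul a b ha hai hb hbi := by
    have hca := isCentral_trunc hHN ha
    rw [← omega_mul ξ hca]
    exact LiEq.omega hM ξ (isCentral_trunc hHN (ha.mul hb)) (hca.mul (isCentral_trunc hHN hb))
      (trunc_mul hM hP hH hai hbi (ha.pInvariant P) (hb.pInvariant P))

/-- The residue field of the local ring has characteristic `p`. -/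
theorem charP_residue (hM : Cfsg.IsPModular p M) : CharP (locRing hM ⧸ locIdeal hM) p := by
  constructor
  intro n
  rw [← map_natCast (Ideal.Quotient.mk (locIdeal hM)), Ideal.Quotient.eq_zero_iff_mem, mem_locIdeal]
  push_cast
  exact li_natCast_iff hM n

/-- Central elements supported off the centralizer of a normal `p`-subgroup have central
character in the local ideal. -/
theorem li_omega_of_vanish (hM : Cfsg.IsPModular p M) [Fintype G] {P : Subgroup G} [P.Normal]
    (hP : IsPGroup p P) (χ : Cfsg.IrrCharacter G) {z : ℂG} (hz : IsCentral z)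
    (hzi : z ∈ intAlg hM G)
    (h0 : ∀ g ∈ Subgroup.centralizer (P : Set G), Cfsg.MemLocalIdeal M (z.coeff g)) :
    Cfsg.MemLocalIdeal M (omega (χ : G → ℂ) z) := by
  classical
  haveI : Fact p.Prime := ⟨hM.1⟩
  haveI := locIdeal_isMaximal hM
  let k := locRing hM ⧸ locIdeal hM
  letI : Field k := Ideal.Quotient.field _
  haveI : CharP k p := charP_residue hM
  let res : locRing hM →+* k := Ideal.Quotient.mk (locIdeal hM)
  let red : (a : ℂG) → a ∈ intAlg hM G → MonoidAlgebra k G := fun a ha =>
    MonoidAlgebra.ofCoeff (Finsupp.equivFunOnFinite.symm fun g => res ⟨a.coeff g, ha g⟩)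
  have hred : ∀ (a : ℂG) (ha : a ∈ intAlg hM G) (g : G),
      (red a ha).coeff g = res ⟨a.coeff g, ha g⟩ := fun _ _ _ => rfl
  have hres0 : ∀ w : locRing hM, res w = 0 ↔ Cfsg.MemLocalIdeal M (w : ℂ) := fun w =>
    Ideal.Quotient.eq_zero_iff_mem
  have hnil : IsNilpotent (red z hzi) := by
    refine isNilpotent_of_vanish_centralizer P hP _ (fun g x => ?_) fun g hg => ?_
    · rw [hred, hred]
      exact congrArg res (Subtype.ext (hz g x))
    · rw [hred, hres0]; exact h0 g hg
  obtain ⟨n, hn⟩ := hnil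
  have hmul : ∀ (a b : ℂG) (ha : a ∈ intAlg hM G) (hb : b ∈ intAlg hM G),
      red (a * b) (mul_mem ha hb) = red a ha * red b hb := by
    intro a b ha hb
    refine MonoidAlgebra.coeffEquiv.injective (Finsupp.ext fun g => ?_)
    show (red _ _).coeff g = (red a ha * red b hb).coeff g
    rw [MonoidAlgebra.coeff_mul_apply_left, Finsupp.sum_fintype _ _ (fun _ => zero_mul _), hred]
    simp only [hred, ← map_mul, ← map_sum]
    refine congrArg res (Subtype.ext ?_)
    simp [coeff_mul_sum]
  have hpow : ∀ (m : ℕ) (h : z ^ m ∈ intAlg hM G), red (z ^ m) h = red z hzi ^ m := by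
    intro m
    induction m with
    | zero =>
      intro h
      refine MonoidAlgebra.coeffEquiv.injective (Finsupp.ext fun g => ?_)
      show (red _ h).coeff g = (red z hzi ^ 0).coeff g
      rw [hred, pow_zero (red z hzi), MonoidAlgebra.one_def, MonoidAlgebra.coeff_single,
        Finsupp.single_apply]
      have h1 : (⟨(z ^ 0).coeff g, h g⟩ : locRing hM) = if (1 : G) = g then 1 else 0 := by
        refine Subtype.ext ?_
        split_ifs with hg <;>
          simp [pow_zero, MonoidAlgebra.one_def, Finsupp.single_apply, hg]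
      rw [h1]
      split_ifs <;> rfl
    | succ m ih =>
      intro h
      rw [pow_succ (red z hzi), ← ih (pow_mem hzi m), ← hmul]
      congr 1
  have hz' : ∀ g, Cfsg.MemLocalIdeal M ((z ^ n).coeff g) := fun g => by
    have := congrArg (fun c : MonoidAlgebra k G => c.coeff g) (hpow n (pow_mem hzi n))
    simp only [hn, hred, MonoidAlgebra.coeff_zero, Finsupp.coe_zero, Pi.zero_apply] at this
    exact (hres0 _).1 this
  have hzn : IsCentral (z ^ n) := by
    clear hn hz' hpow
    induction n with
    | zero => rw [pow_zero]; exact isCentral_one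
    | succ m ih => rw [pow_succ]; exact ih.mul hz
  have h1 := li_omega hM χ hzn hz'
  rw [omega_pow χ hz] at h1
  have hw : (⟨omega (χ : G → ℂ) z, omega_lr hM χ hz hzi⟩ : locRing hM) ^ n ∈ locIdeal hM := h1
  exact (locIdeal_isMaximal hM).isPrime.mem_of_pow_mem n hw

end Cfsg.Agent.Blocks
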