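import Cfsg.Agent.Blocks.SecondMain

/-!
Blocks and normal subgroups.
-/

set_option autoImplicit false
set_option linter.all false

open scoped ComplexConjugate

namespace Cfsg.Agent.Blocks

universe u

variable {p : ℕ} {M : Ideal Cfsg.AlgInt} {G : Type u} [Group G] [Finite G]
  (N : Subgroup G) [hN : N.Normal]

/-- Invariance of an element of the subgroup algebra under the ambient group. -/
def Invariant (t : MonoidAlgebra ℂ N) : Prop :=
  ∀ (g : G) (n : N), t.coeff (Char.conjEquiv N g n) = t.coeff n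

theorem isCentral_emb_of_invariant {t : MonoidAlgebra ℂ N} (ht : Invariant N t) :
    IsCentral (emb N t) := by
  intro h x
  by_cases hh : h ∈ N
  · rw [emb_of_mem N t hh, emb_of_mem N t (hN.conj_mem h hh x)]
    exact ht x ⟨h, hh⟩
  · have h1 : x * h * x⁻¹ ∉ N := fun h1 => hh (by
      have h2 := hN.conj_mem _ h1 x⁻¹
      simpa [mul_assoc] using h2)
    rw [emb_of_not_mem N t hh, emb_of_not_mem N t h1]

theorem invariant_isCentral {t : MonoidAlgebra ℂ N} (ht : Invariant N t) : IsCentral t :=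
  fun h x => ht (x : G) h

theorem invariant_trunc {a : MonoidAlgebra ℂ G} (ha : IsCentral a) :
    Invariant N (trunc N Set.univ a) := by
  classical
  intro g n
  rw [trunc_coeff, trunc_coeff, if_pos (Set.mem_univ _), if_pos (Set.mem_univ _)]
  exact ha (n : G) g

/-- A set of characters of `N` closed under conjugation. -/
def ConjClosed (A : Set (Cfsg.IrrCharacter N)) : Prop :=
  ∀ η ∈ A, ∀ g : G, Char.conjIrr N η g ∈ A

theorem conjIrr_apply (η : Cfsg.IrrCharacter N) (g : G) (n : N) :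
    (Char.conjIrr N η g : N → ℂ) n = (η : N → ℂ) (Char.conjEquiv N g n) := rfl

theorem conjIrr_conjIrr (η : Cfsg.IrrCharacter N) (g h : G) :
    Char.conjIrr N (Char.conjIrr N η g) h = Char.conjIrr N η (g * h) :=
  Subtype.ext (Char.conjFn_mul N (η : N → ℂ) g h).symm

theorem conjIrr_one (η : Cfsg.IrrCharacter N) : Char.conjIrr N η 1 = η :=
  Subtype.ext (Char.conjFn_one N (η : N → ℂ))

theorem invariant_idem {A : Set (Cfsg.IrrCharacter N)} (hA : ConjClosed N A) :
    Invariant N (idem A) := by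
  classical
  intro g n
  show Cfsg.blockCoeff A _ = Cfsg.blockCoeff A n
  rw [Cfsg.blockCoeff, Cfsg.blockCoeff, finsum_mem_eq_finite_toFinset_sum _ A.toFinite,
    finsum_mem_eq_finite_toFinset_sum _ A.toFinite]
  congr 1
  refine Finset.sum_nbij' (fun η => Char.conjIrr N η g) (fun η => Char.conjIrr N η g⁻¹)
    (fun η hη => ?_) (fun η hη => ?_) (fun η _ => ?_) (fun η _ => ?_) (fun η _ => ?_)
  · exact A.toFinite.mem_toFinset.2 (hA η (A.toFinite.mem_toFinset.1 hη) g)
  · exact A.toFinite.mem_toFinset.2 (hA η (A.toFinite.mem_toFinset.1 hη) g⁻¹)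
  · rw [conjIrr_conjIrr, mul_inv_cancel, conjIrr_one]
  · rw [conjIrr_conjIrr, inv_mul_cancel, conjIrr_one]
  · rw [conjIrr_apply, conjIrr_apply, map_one]

/-- An element of the subgroup is invariant: its central character at a constituent. -/
theorem omega_emb_eq [Fintype G] [Fintype N] (χ : Cfsg.IrrCharacter G) (θ : Cfsg.IrrCharacter N)
    (hθ : Cfsg.classInner (fun n : N => (χ : G → ℂ) n) (θ : N → ℂ) ≠ 0)
    {t : MonoidAlgebra ℂ N} (ht : Invariant N t) :
    omega (χ : G → ℂ) (emb N t) = omega (θ : N → ℂ) t := by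
  classical
  have hres := Char.res_eq_smul_sum_conj N χ θ hθ
  set c := Cfsg.classInner (fun n : N => (χ : G → ℂ) n) (θ : N → ℂ)
  have hS : {ψ : N → ℂ | ∃ g : G, ψ = Char.conjFn N (θ : N → ℂ) g}.Finite :=
    Set.Finite.subset (Set.finite_range fun g : G => Char.conjFn N (θ : N → ℂ) g)
      (by rintro ψ ⟨g, rfl⟩; exact ⟨g, rfl⟩)
  rw [finsum_mem_eq_finite_toFinset_sum _ hS] at hres
  have hres' : ∀ n : N, (χ : G → ℂ) n = c * ∑ ψ ∈ hS.toFinset, ψ n := fun n => by
    have := congrFun hres n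
    simpa using this
  have h1 : (χ : G → ℂ) 1 = c * hS.toFinset.card * (θ : N → ℂ) 1 := by
    rw [← Subgroup.coe_one N, hres', mul_assoc, ← nsmul_eq_mul, ← Finset.sum_const]
    congr 1
    refine Finset.sum_congr rfl fun ψ hψ => ?_
    obtain ⟨g, rfl⟩ := hS.mem_toFinset.1 hψ
    rw [Char.conjFn_eq]
    simp
  have h2 : ev (χ : G → ℂ) (emb N t) = c * hS.toFinset.card * ev (θ : N → ℂ) t := by
    rw [ev, sum_emb_mul, mul_assoc, ← nsmul_eq_mul, ← Finset.sum_const]
    simp only [hres', Finset.mul_sum]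
    rw [Finset.sum_comm]
    refine Finset.sum_congr rfl fun ψ hψ => ?_
    obtain ⟨g, rfl⟩ := hS.mem_toFinset.1 hψ
    rw [ev, Finset.mul_sum]
    refine Fintype.sum_equiv (Char.conjEquiv N g).toEquiv _ _ fun n => ?_
    show _ = c * (t.coeff (Char.conjEquiv N g n) * (θ : N → ℂ) (Char.conjEquiv N g n))
    rw [ht g n, Char.conjFn_eq]
    ring
  have h3 : c * (hS.toFinset.card : ℂ) ≠ 0 := fun h => Char.irr_one_ne_zero χ (by rw [h1, h, zero_mul])
  rw [omega, omega, h2, h1, mul_div_mul_left _ _ h3]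

theorem exists_constituent [Fintype N] (χ : Cfsg.IrrCharacter G) :
    ∃ θ : Cfsg.IrrCharacter N, Cfsg.classInner (fun n : N => (χ : G → ℂ) n) (θ : N → ℂ) ≠ 0 := by
  by_contra hc
  push Not at hc
  have h := Char.classFunction_expand (Char.isClassFunction_of_isCharacter
    (Char.isCharacter_comp (Char.isCharacter_of_isIrrCharacter χ.2) N.subtype))
  have h1 := congrFun h 1
  have hc' : ∀ θ : Cfsg.IrrCharacter N,
      Cfsg.classInner (fun n : N => (χ : G → ℂ) (N.subtype n)) (θ : N → ℂ) = 0 := hc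
  simp only [Subgroup.coe_subtype, Subgroup.coe_one] at h1 hc'
  simp only [hc', zero_smul, Finset.sum_const_zero, Pi.zero_apply] at h1
  exact Char.irr_one_ne_zero χ h1

theorem exists_over [Fintype G] [Fintype N] (θ : Cfsg.IrrCharacter N) :
    ∃ χ : Cfsg.IrrCharacter G, Cfsg.classInner (fun n : N => (χ : G → ℂ) n) (θ : N → ℂ) ≠ 0 := by
  by_contra hc
  push Not at hc
  have h := Char.classFunction_expand (Char.indFun_isClassFunction N (θ : N → ℂ))
  have h1 := congrFun h 1
  have h2 : ∀ χ : Cfsg.IrrCharacter G, Cfsg.classInner (Cfsg.indFun N (θ : N → ℂ)) (χ : G → ℂ) = 0 := by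
    intro χ
    rw [Char.classInner_indFun N _ (Char.irr_isClassFunction χ), ← Char.classInner_conj_symm, hc χ, map_zero]
  simp only [h2, zero_smul, Finset.sum_const_zero, Pi.zero_apply, Char.indFun_apply_one] at h1
  exact mul_ne_zero (by exact_mod_cast N.index_ne_zero_of_finite) (Char.irr_one_ne_zero θ) h1

theorem omega_emb_idem [Fintype G] [Fintype N] (χ : Cfsg.IrrCharacter G) (θ : Cfsg.IrrCharacter N)
    (hθ : Cfsg.classInner (fun n : N => (χ : G → ℂ) n) (θ : N → ℂ) ≠ 0)
    {A : Set (Cfsg.IrrCharacter N)} [Decidable (θ ∈ A)] (hA : ConjClosed N A) :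
    omega (χ : G → ℂ) (emb N (idem A)) = if θ ∈ A then 1 else 0 := by
  rw [omega_emb_eq N χ θ hθ (invariant_idem N hA), omega_idem]
  congr 1

theorem centralChar_conjIrr (η : Cfsg.IrrCharacter N) (g : G) (n : N) :
    Cfsg.centralChar (Char.conjIrr N η g : N → ℂ) n
      = Cfsg.centralChar (η : N → ℂ) (Char.conjEquiv N g n) := by
  classical
  haveI := Fintype.ofFinite N
  rw [← omega_classSum (Char.irr_isClassFunction _), ← omega_classSum (Char.irr_isClassFunction η),
    omega, omega, conjIrr_apply, map_one]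
  congr 1
  refine Fintype.sum_equiv (Char.conjEquiv N g).toEquiv _ _ fun m => ?_
  show _ = (classSum (Char.conjEquiv N g n)).coeff (Char.conjEquiv N g m) * _
  rw [conjIrr_apply, classSum_apply, classSum_apply]
  have : IsConj (Char.conjEquiv N g n) (Char.conjEquiv N g m) ↔ IsConj n m := by
    refine ⟨fun h => ?_, fun h => (Char.conjEquiv N g).toMonoidHom.map_isConj h⟩
    have := (Char.conjEquiv N g).symm.toMonoidHom.map_isConj h
    simpa using this
  simp only [this]
  rfl

theorem sameBlock_conjIrr {η η' : Cfsg.IrrCharacter N}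
    (h : Cfsg.SameBlock M (η : N → ℂ) (η' : N → ℂ)) (g : G) :
    Cfsg.SameBlock M (Char.conjIrr N η g : N → ℂ) (Char.conjIrr N η' g : N → ℂ) := fun n => by
  rw [centralChar_conjIrr, centralChar_conjIrr]
  exact h _

/-- All conjugates of the members of a set. -/
def orbitSet (b : Set (Cfsg.IrrCharacter N)) : Set (Cfsg.IrrCharacter N) :=
  {η | ∃ g : G, ∃ θ ∈ b, η = Char.conjIrr N θ g}

theorem subset_orbitSet (b : Set (Cfsg.IrrCharacter N)) : b ⊆ orbitSet N b :=
  fun θ hθ => ⟨1, θ, hθ, (conjIrr_one N θ).symm⟩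

theorem conjClosed_orbitSet (b : Set (Cfsg.IrrCharacter N)) : ConjClosed N (orbitSet N b) := by
  rintro η ⟨g, θ, hθ, rfl⟩ h
  exact ⟨g * h, θ, hθ, conjIrr_conjIrr N θ g h⟩

theorem isBlockUnion_orbitSet (hM : Cfsg.IsPModular p M) {b : Set (Cfsg.IrrCharacter N)}
    (hb : IsBlockUnion M b) : IsBlockUnion M (orbitSet N b) := by
  rintro η ⟨g, θ, hθ, rfl⟩ η' hη'
  refine ⟨g, Char.conjIrr N η' g⁻¹, hb θ hθ ?_, ?_⟩
  · have h := sameBlock_conjIrr N (M := M) hη' g⁻¹
    rwa [conjIrr_conjIrr, mul_inv_cancel, conjIrr_one] at h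
  · rw [conjIrr_conjIrr, inv_mul_cancel, conjIrr_one]

theorem isBlockUnion_block (hM : Cfsg.IsPModular p M) {b : Set (Cfsg.IrrCharacter N)}
    (hb : Cfsg.IsPBlock M b) : IsBlockUnion M b := fun θ hθ θ' hθ' => by
  rw [block_eq_blockOf hM hb hθ]; exact hθ'

/-- Expansion of the difference of two central characters on classes inside the subgroup. -/
theorem omega_emb_sub [Fintype G] [Fintype N] [Fintype (ConjClasses G)] (χ : Cfsg.IrrCharacter G)
    (θ : Cfsg.IrrCharacter N) {t : MonoidAlgebra ℂ N} (ht : Invariant N t) :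
    omega (χ : G → ℂ) (emb N t) - omega (θ : N → ℂ) t = ∑ C : ConjClasses G,
      (emb N t).coeff C.out * (Cfsg.centralChar (χ : G → ℂ) C.out
        - Cfsg.inducedCentralChar N (θ : N → ℂ) C.out) := by
  classical
  have hc := isCentral_emb_of_invariant N ht
  have hθ : omega (θ : N → ℂ) t = ∑ g : G, (emb N t).coeff g * (Cfsg.extendByZero N (θ : N → ℂ) g / (θ : N → ℂ) 1) := by
    rw [omega, ev, sum_emb_mul, Finset.sum_div]
    refine Finset.sum_congr rfl fun n _ => ?_
    rw [Char.extendByZero_of_mem N _ n.2, mul_div_assoc]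
  have hχ : omega (χ : G → ℂ) (emb N t) = ∑ g : G, (emb N t).coeff g * ((χ : G → ℂ) g / (χ : G → ℂ) 1) := by
    rw [omega, ev, Finset.sum_div]
    exact Finset.sum_congr rfl fun g _ => by rw [mul_div_assoc]
  rw [hθ, hχ, hc.sum_mul_eq, hc.sum_mul_eq, ← Finset.sum_sub_distrib]
  refine Finset.sum_congr rfl fun C _ => ?_
  rw [← mul_sub]
  congr 2
  · rw [← omega_classSum (Char.irr_isClassFunction χ), omega, ev, Finset.sum_div]
    exact Finset.sum_congr rfl fun g _ => by rw [mul_div_assoc]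
  · rw [inducedCentralChar_eq, omega, ev, Finset.sum_div]
    calc ∑ g : G, (classSum C.out).coeff g * (Cfsg.extendByZero N (θ : N → ℂ) g / (θ : N → ℂ) 1)
        = ∑ g : G, Cfsg.extendByZero N (fun n : N => (θ : N → ℂ) n / (θ : N → ℂ) 1) g
            * (classSum C.out).coeff g := by
          refine Finset.sum_congr rfl fun g _ => ?_
          by_cases hg : g ∈ N
          · rw [Char.extendByZero_of_mem N _ hg, Char.extendByZero_of_mem N _ hg, mul_comm]
          · rw [Char.extendByZero_of_not_mem N _ hg, Char.extendByZero_of_not_mem N _ hg]; simp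
      _ = _ := by
          rw [Char.sum_extendByZero_mul]
          refine Finset.sum_congr rfl fun n _ => ?_
          rw [trunc_coeff, if_pos (Set.mem_univ _)]
          ring

theorem centralChar_eq_induced [Fintype G] [Fintype N] (χ : Cfsg.IrrCharacter G)
    (θ : Cfsg.IrrCharacter N)
    (hθ : Cfsg.classInner (fun n : N => (χ : G → ℂ) n) (θ : N → ℂ) ≠ 0) {g : G} (hg : g ∈ N) :
    Cfsg.centralChar (χ : G → ℂ) g = Cfsg.inducedCentralChar N (θ : N → ℂ) g := by
  classical
  rw [← omega_classSum (Char.irr_isClassFunction χ), inducedCentralChar_eq,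
    ← omega_emb_eq N χ θ hθ (invariant_trunc N (isCentral_classSum g))]
  congr 1
  refine ext_coeff fun h => ?_
  by_cases hh : h ∈ N
  · rw [emb_of_mem N _ hh, trunc_coeff, if_pos (Set.mem_univ _)]
  · rw [emb_of_not_mem N _ hh, classSum_apply, if_neg]
    intro hc
    obtain ⟨x, rfl⟩ := isConj_iff.1 hc
    exact hh (hN.conj_mem g hg x)

end Cfsg.Agent.Blocks
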