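import Cfsg.Agent.Blocks.SecondMain

/-!
Defect classes and defect groups of blocks.
-/

set_option autoImplicit false
set_option linter.all false

open scoped ComplexConjugate

namespace Cfsg.Agent.Blocks

universe u

variable {p : ℕ} {M : Ideal Cfsg.AlgInt} {G : Type u} [Group G]

/-- Conjugate of a subgroup. -/
def cj (x : G) (Q : Subgroup G) : Subgroup G := Q.map (MulAut.conj x).toMonoidHom

theorem mem_cj {x g : G} {Q : Subgroup G} : g ∈ cj x Q ↔ x⁻¹ * g * x ∈ Q := by
  simp only [cj, Subgroup.mem_map, MulEquiv.coe_toMonoidHom, MulAut.conj_apply]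
  constructor
  · rintro ⟨q, hq, rfl⟩; simpa [mul_assoc] using hq
  · exact fun h => ⟨_, h, by group⟩

theorem cj_mono (x : G) {Q R : Subgroup G} (h : Q ≤ R) : cj x Q ≤ cj x R := Subgroup.map_mono h

theorem cj_cj (x y : G) (Q : Subgroup G) : cj x (cj y Q) = cj (x * y) Q := by
  ext g; simp only [mem_cj, mul_inv_rev, mul_assoc]

theorem cj_one (Q : Subgroup G) : cj 1 Q = Q := by ext g; simp [mem_cj]

theorem cj_inv_self (x : G) (Q : Subgroup G) : cj x⁻¹ (cj x Q) = Q := by
  rw [cj_cj, inv_mul_cancel, cj_one]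

theorem card_cj (x : G) (Q : Subgroup G) : Nat.card (cj x Q) = Nat.card Q :=
  Subgroup.card_map_of_injective (MulAut.conj x).injective

theorem isPGroup_cj {Q : Subgroup G} (h : IsPGroup p Q) (x : G) : IsPGroup p (cj x Q) := h.map _

theorem cj_le_centralizer {Q : Subgroup G} {w : G} (h : Q ≤ Subgroup.centralizer ({w} : Set G))
    (x : G) : cj x Q ≤ Subgroup.centralizer ({x * w * x⁻¹} : Set G) := by
  intro g hg
  rw [mem_cj] at hg
  have h1 : (x⁻¹ * g * x) * w = w * (x⁻¹ * g * x) := Subgroup.mem_centralizer_singleton_iff.1 (h hg)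
  refine Subgroup.mem_centralizer_singleton_iff.2 ?_
  calc g * (x * w * x⁻¹) = x * ((x⁻¹ * g * x) * w) * x⁻¹ := by group
    _ = x * (w * (x⁻¹ * g * x)) * x⁻¹ := by rw [h1]
    _ = x * w * x⁻¹ * g := by group

theorem mem_centralizer_iff_le {Q : Subgroup G} {x : G} :
    x ∈ Subgroup.centralizer (Q : Set G) ↔ Q ≤ Subgroup.centralizer ({x} : Set G) :=
  ⟨fun h q hq => Subgroup.mem_centralizer_singleton_iff.2 (Subgroup.mem_centralizer_iff.1 h q hq),
    fun h => Subgroup.mem_centralizer_iff.2 fun q hq =>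
      Subgroup.mem_centralizer_singleton_iff.1 (h hq)⟩

/-- `D` is a maximal `p`-subgroup of the centralizer of `w`. -/
def MaxP (p : ℕ) (D : Subgroup G) (w : G) : Prop :=
  D ≤ Subgroup.centralizer ({w} : Set G) ∧ IsPGroup p D ∧
    ∀ Q : Subgroup G, D ≤ Q → Q ≤ Subgroup.centralizer ({w} : Set G) → IsPGroup p Q → Q = D

theorem maxP_of_sylow {w : G} (P : Sylow p (Subgroup.centralizer ({w} : Set G))) :
    MaxP p ((P : Subgroup (Subgroup.centralizer ({w} : Set G))).map
      (Subgroup.centralizer ({w} : Set G)).subtype) w := by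
  refine ⟨Subgroup.map_subtype_le _, P.2.map _, fun Q h1 h2 h3 => ?_⟩
  have h4 : (P : Subgroup (Subgroup.centralizer ({w} : Set G)))
      ≤ Q.subgroupOf (Subgroup.centralizer ({w} : Set G)) :=
    fun c hc => h1 (Subgroup.mem_map_of_mem _ hc)
  have h5 := P.3 (h3.comap_of_injective _ (Subgroup.subtype_injective _)) h4
  rw [← h5, Subgroup.map_comap_eq_self]
  rw [Subgroup.range_subtype]
  exact h2

theorem exists_sylow_of_maxP {w : G} {D : Subgroup G} (h : MaxP p D w) :
    ∃ P : Sylow p (Subgroup.centralizer ({w} : Set G)),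
      D = (P : Subgroup (Subgroup.centralizer ({w} : Set G))).map
        (Subgroup.centralizer ({w} : Set G)).subtype := by
  obtain ⟨h1, h2, h3⟩ := h
  obtain ⟨P, hP⟩ := (h2.comap_of_injective (Subgroup.centralizer ({w} : Set G)).subtype
    (Subgroup.subtype_injective _)).exists_le_sylow
  refine ⟨P, (h3 _ ?_ (Subgroup.map_subtype_le _) (P.2.map _)).symm⟩
  intro d hd
  exact ⟨⟨d, h1 hd⟩, hP (show d ∈ D from hd), rfl⟩

theorem maxP_cj {w : G} {D : Subgroup G} (h : MaxP p D w) (x : G) :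
    MaxP p (cj x D) (x * w * x⁻¹) := by
  refine ⟨cj_le_centralizer h.1 x, isPGroup_cj h.2.1 x, fun Q h1 h2 h3 => ?_⟩
  have h4 := h.2.2 (cj x⁻¹ Q) (by rw [← cj_inv_self x D]; exact cj_mono _ h1) (by
    have := cj_le_centralizer h2 x⁻¹
    rwa [show x⁻¹ * (x * w * x⁻¹) * x⁻¹⁻¹ = w by group] at this) (isPGroup_cj h3 _)
  rw [← h4, cj_cj, mul_inv_cancel, cj_one]

variable [Finite G]

theorem exists_maxP [Fact p.Prime] {w : G} {Q : Subgroup G}
    (h : Q ≤ Subgroup.centralizer ({w} : Set G)) (hQ : IsPGroup p Q) :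
    ∃ D, MaxP p D w ∧ Q ≤ D := by
  obtain ⟨P, hP⟩ := (hQ.comap_of_injective (Subgroup.centralizer ({w} : Set G)).subtype
    (Subgroup.subtype_injective _)).exists_le_sylow
  exact ⟨_, maxP_of_sylow P, fun q hq => ⟨⟨q, h hq⟩, hP (show q ∈ Q from hq), rfl⟩⟩

theorem exists_cj_le_maxP [Fact p.Prime] {w : G} {D Q : Subgroup G} (hD : MaxP p D w)
    (hQ : Q ≤ Subgroup.centralizer ({w} : Set G)) (hQp : IsPGroup p Q) :
    ∃ t ∈ Subgroup.centralizer ({w} : Set G), cj t Q ≤ D := by
  obtain ⟨P, rfl⟩ := exists_sylow_of_maxP hD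
  obtain ⟨R, hR⟩ := (hQp.comap_of_injective (Subgroup.centralizer ({w} : Set G)).subtype
    (Subgroup.subtype_injective _)).exists_le_sylow
  obtain ⟨t, ht⟩ := MulAction.exists_smul_eq (Subgroup.centralizer ({w} : Set G)) R P
  refine ⟨t, t.2, fun g hg => ?_⟩
  rw [mem_cj] at hg
  refine ⟨t * ⟨(t : G)⁻¹ * g * t, hQ hg⟩ * t⁻¹, ?_, by simp [mul_assoc]⟩
  rw [← ht, SetLike.mem_coe, Sylow.coe_subgroup_smul]
  exact Subgroup.smul_mem_pointwise_smul _ (MulAut.conj t) _
    (hR (show (t : G)⁻¹ * g * t ∈ Q from hg))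

theorem card_le_maxP [Fact p.Prime] {w : G} {D Q : Subgroup G} (hD : MaxP p D w)
    (hQ : Q ≤ Subgroup.centralizer ({w} : Set G)) (hQp : IsPGroup p Q) :
    Nat.card Q ≤ Nat.card D := by
  obtain ⟨t, -, ht⟩ := exists_cj_le_maxP hD hQ hQp
  rw [← card_cj t Q]
  exact Subgroup.card_le_of_le ht

theorem maxP_card_eq [Fact p.Prime] {w : G} {D : Subgroup G} (hD : MaxP p D w) :
    Nat.card D = p ^ (Nat.card (Subgroup.centralizer ({w} : Set G))).factorization p := by
  obtain ⟨P, rfl⟩ := exists_sylow_of_maxP hD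
  rw [Subgroup.card_map_of_injective (Subgroup.subtype_injective _), P.card_eq_multiplicity]

theorem eq_of_le_of_card_le' {D E : Subgroup G} (h : D ≤ E) (hc : Nat.card E ≤ Nat.card D) :
    D = E := Subgroup.eq_of_le_of_card_ge h hc

theorem isDefectGroup_iff {B : Set (Cfsg.IrrCharacter G)} {D : Subgroup G} :
    Cfsg.IsDefectGroup p M B D ↔ ∃ w, Cfsg.IsDefectClass M B w ∧ MaxP p D w := by
  constructor
  · rintro ⟨w, hw, P, rfl⟩; exact ⟨w, hw, maxP_of_sylow P⟩
  · rintro ⟨w, hw, hD⟩; exact ⟨w, hw, exists_sylow_of_maxP hD⟩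

omit [Finite G] in
theorem centralChar_conj [Finite G] (χ : Cfsg.IrrCharacter G) (x w : G) :
    Cfsg.centralChar (χ : G → ℂ) (x * w * x⁻¹) = Cfsg.centralChar (χ : G → ℂ) w := by
  haveI := Fintype.ofFinite G
  rw [← omega_classSum (Char.irr_isClassFunction χ), ← omega_classSum (Char.irr_isClassFunction χ)]
  congr 1
  classical
  refine ext_coeff fun h => ?_
  simp only [classSum_apply]
  exact if_congr ⟨fun e => (isConj_iff.2 ⟨x, rfl⟩).trans e,
    fun e => (isConj_iff.2 ⟨x, rfl⟩).symm.trans e⟩ rfl rfl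

theorem blockCoeff_conj (B : Set (Cfsg.IrrCharacter G)) (x w : G) :
    Cfsg.blockCoeff B (x * w * x⁻¹) = Cfsg.blockCoeff B w :=
  isCentral_idem B w x

theorem isDefectClass_conj {B : Set (Cfsg.IrrCharacter G)} {w : G}
    (hw : Cfsg.IsDefectClass M B w) (x : G) : Cfsg.IsDefectClass M B (x * w * x⁻¹) := by
  refine ⟨?_, ?_, fun χ hχ => ?_⟩
  · rw [blockCoeff_conj]; exact hw.1
  · rw [blockCoeff_conj]; exact hw.2.1
  · rw [centralChar_conj]; exact hw.2.2 χ hχ

theorem isDefectGroup_cj {B : Set (Cfsg.IrrCharacter G)} {D : Subgroup G}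
    (hD : Cfsg.IsDefectGroup p M B D) (x : G) : Cfsg.IsDefectGroup p M B (cj x D) := by
  obtain ⟨w, hw, hD⟩ := isDefectGroup_iff.1 hD
  exact isDefectGroup_iff.2 ⟨_, isDefectClass_conj hw x, maxP_cj hD x⟩

theorem not_li_centralChar_of_mem (hM : Cfsg.IsPModular p M) {B : Set (Cfsg.IrrCharacter G)}
    (hB : Cfsg.IsPBlock M B) {χ ψ : Cfsg.IrrCharacter G} (hχ : χ ∈ B) (hψ : ψ ∈ B) {g : G}
    (h : ¬ Cfsg.MemLocalIdeal M (Cfsg.centralChar (χ : G → ℂ) g)) :
    ¬ Cfsg.MemLocalIdeal M (Cfsg.centralChar (ψ : G → ℂ) g) := by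
  intro h'
  have h2 := li_add hM (sameBlock_of_mem hM hB hχ hψ g) h'
  rw [sub_add_cancel] at h2
  exact h h2

/-- Some class is a defect class. -/
theorem exists_defectClass (hM : Cfsg.IsPModular p M) {B : Set (Cfsg.IrrCharacter G)}
    (hB : Cfsg.IsPBlock M B) : ∃ g, Cfsg.IsDefectClass M B g := by
  classical
  haveI := Fintype.ofFinite G
  haveI := Fintype.ofFinite (ConjClasses G)
  obtain ⟨χ, hχ⟩ := block_nonempty hM hB
  have hfi := idem_block_mem hM hB
  by_contra hcon
  push Not at hcon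
  refine not_li_one hM ?_
  have h1 : omega (χ : G → ℂ) (idem B) = 1 := by rw [omega_idem, if_pos hχ]
  rw [← h1, omega, ev, (isCentral_idem B).sum_mul_eq, Finset.sum_div]
  refine li_sum hM _ fun C _ => ?_
  have h2 : (∑ g, (classSum C.out).coeff g * (χ : G → ℂ) g) / (χ : G → ℂ) 1
      = Cfsg.centralChar (χ : G → ℂ) C.out := omega_classSum (Char.irr_isClassFunction χ) C.out
  rw [mul_div_assoc, h2]
  by_cases hc : Cfsg.MemLocalIdeal M ((idem B).coeff C.out)
  · refine li_mul hM hc ?_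
    rw [← h2]
    exact omega_lr hM χ (isCentral_classSum _) (classSum_mem hM _)
  · refine li_mul_left hM (hfi _) ?_
    by_contra hn
    exact hcon C.out ⟨hfi _, hc, fun ψ hψ => not_li_centralChar_of_mem hM hB hχ hψ hn⟩

theorem exists_defectGroup (hM : Cfsg.IsPModular p M) {B : Set (Cfsg.IrrCharacter G)}
    (hB : Cfsg.IsPBlock M B) : ∃ D, Cfsg.IsDefectGroup p M B D := by
  haveI : Fact p.Prime := ⟨hM.1⟩
  obtain ⟨g, hg⟩ := exists_defectClass hM hB
  exact ⟨_, g, hg, Classical.arbitrary _, rfl⟩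

/-- If the truncated idempotent of a block is nonzero modulo the local ideal, some block of the
subgroup maps to it under the Brauer map. -/
theorem exists_omega_trunc (hM : Cfsg.IsPModular p M) {B : Set (Cfsg.IrrCharacter G)}
    (hB : Cfsg.IsPBlock M B) {P H : Subgroup G} [Fintype H] (hP : IsPGroup p P)
    (hH : Subgroup.centralizer (P : Set G) ≤ H)
    (hHN : ∀ x ∈ H, ∀ c ∈ Subgroup.centralizer (P : Set G),
      x * c * x⁻¹ ∈ Subgroup.centralizer (P : Set G))
    {w : G} (hw : ¬ Cfsg.MemLocalIdeal M (Cfsg.blockCoeff B w))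
    (hwP : w ∈ Subgroup.centralizer (P : Set G)) :
    ∃ ψ : Cfsg.IrrCharacter H, ¬ Cfsg.MemLocalIdeal M
      (omega (ψ : H → ℂ) (trunc H (Subgroup.centralizer (P : Set G) : Set G) (idem B))) := by
  classical
  haveI := Fintype.ofFinite G
  by_contra hcon
  push Not at hcon
  have hc := isCentral_trunc hHN (isCentral_idem B)
  have hi := trunc_mem hM H (Subgroup.centralizer (P : Set G) : Set G) (idem_block_mem hM hB)
  have h2 := trunc_mul hM hP hH (idem_block_mem hM hB) (idem_block_mem hM hB)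
    ((isCentral_idem B).pInvariant P) ((isCentral_idem B).pInvariant P)
  rw [show idem B * idem B = idem B by rw [← idem_inter, Set.inter_self]] at h2
  have h3 := li_of_idem hM hc hi h2.symm hcon ⟨w, hH hwP⟩
  rw [trunc_coeff, if_pos (show w ∈ (Subgroup.centralizer (P : Set G) : Set G) from hwP)] at h3
  exact hw h3

/-- The key support lemma: a central element not killed by the central character of a block has,
on each centralizer of a `p`-subgroup meeting the block idempotent, a nonzero coefficient. -/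
theorem exists_coeff_commute (hM : Cfsg.IsPModular p M) [Fintype G]
    {B : Set (Cfsg.IrrCharacter G)} (hB : Cfsg.IsPBlock M B)
    {χ : Cfsg.IrrCharacter G} (hχ : χ ∈ B) {a : MonoidAlgebra ℂ G} (ha : IsCentral a)
    (hai : a ∈ intAlg hM G) (hω : ¬ Cfsg.MemLocalIdeal M (omega (χ : G → ℂ) a))
    {w : G} (hw : ¬ Cfsg.MemLocalIdeal M (Cfsg.blockCoeff B w))
    {Q : Subgroup G} (hQ : IsPGroup p Q) (hwQ : w ∈ Subgroup.centralizer (Q : Set G)) :
    ∃ x ∈ Subgroup.centralizer (Q : Set G), ¬ Cfsg.MemLocalIdeal M (a.coeff x) := by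
  classical
  by_contra hcon
  push Not at hcon
  set K := Subgroup.centralizer (Q : Set G) with hK
  haveI := Fintype.ofFinite K
  obtain ⟨ψ, hψ⟩ := exists_omega_trunc hM hB hQ (H := K) le_rfl (centralizer_conj_mem K) hw hwQ
  have hφ := isModHom_trunc hM hQ (H := K) le_rfl (centralizer_conj_mem K) ψ
  obtain ⟨B', hB', hBφ⟩ := hφ.exists_block
  obtain ⟨χ', hχ'⟩ := block_nonempty hM hB'
  by_cases he : B' = B
  · subst he
    refine hω ?_
    have h1 : Cfsg.MemLocalIdeal M (omega (ψ : K → ℂ) (trunc K (K : Set G) a)) :=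
      li_omega hM ψ (isCentral_trunc (centralizer_conj_mem K) ha) (fun k => by
        rw [trunc_coeff]
        split_ifs with hk
        · exact hcon _ hk
        · exact li_zero hM)
    have h2 := li_sub hM h1 (hBφ χ hχ a ha hai)
    rwa [sub_sub_cancel] at h2
  · have h1 := hBφ χ' hχ' (idem B) (isCentral_idem B) (idem_block_mem hM hB)
    rw [omega_idem, if_neg (Set.disjoint_left.1 (disjoint_blocks hM hB' hB he) hχ'), sub_zero] at h1
    exact hψ h1

/-- A non-vanishing central character forces a class element centralizing each `p`-group which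
centralizes a point in the support of the idempotent. -/
theorem exists_conj_mem_centralizer (hM : Cfsg.IsPModular p M)
    {B : Set (Cfsg.IrrCharacter G)} (hB : Cfsg.IsPBlock M B)
    {χ : Cfsg.IrrCharacter G} (hχ : χ ∈ B) {h : G}
    (hω : ¬ Cfsg.MemLocalIdeal M (Cfsg.centralChar (χ : G → ℂ) h))
    {w : G} (hw : ¬ Cfsg.MemLocalIdeal M (Cfsg.blockCoeff B w))
    {Q : Subgroup G} (hQ : IsPGroup p Q) (hwQ : Q ≤ Subgroup.centralizer ({w} : Set G)) :
    ∃ x, IsConj h x ∧ Q ≤ Subgroup.centralizer ({x} : Set G) := by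
  classical
  haveI := Fintype.ofFinite G
  rw [← omega_classSum (Char.irr_isClassFunction χ)] at hω
  obtain ⟨x, hx, hx'⟩ := exists_coeff_commute hM hB hχ (isCentral_classSum h) (classSum_mem hM h)
    hω hw hQ (mem_centralizer_iff_le.2 hwQ)
  refine ⟨x, ?_, mem_centralizer_iff_le.1 hx⟩
  by_contra hc
  rw [classSum_apply, if_neg hc] at hx'
  exact hx' (li_zero hM)

/-- A `p`-group centralizing a point of the support of a block idempotent is conjugate into every
defect group. -/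
theorem cj_le_defect (hM : Cfsg.IsPModular p M) {B : Set (Cfsg.IrrCharacter G)}
    (hB : Cfsg.IsPBlock M B) {D : Subgroup G} (hD : Cfsg.IsDefectGroup p M B D) {h : G}
    (hh : ¬ Cfsg.MemLocalIdeal M (Cfsg.blockCoeff B h)) {Q : Subgroup G} (hQ : IsPGroup p Q)
    (hQh : Q ≤ Subgroup.centralizer ({h} : Set G)) : ∃ x, cj x Q ≤ D := by
  haveI : Fact p.Prime := ⟨hM.1⟩
  obtain ⟨w, hw, hwD⟩ := isDefectGroup_iff.1 hD
  obtain ⟨χ, hχ⟩ := block_nonempty hM hB
  obtain ⟨y, hy, hQy⟩ := exists_conj_mem_centralizer hM hB hχ (hw.2.2 χ hχ) hh hQ hQh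
  obtain ⟨a, ha⟩ := isConj_iff.1 hy.symm
  have h1 := cj_le_centralizer hQy a
  rw [ha] at h1
  obtain ⟨t, -, ht⟩ := exists_cj_le_maxP hwD h1 (isPGroup_cj hQ a)
  exact ⟨t * a, by rwa [← cj_cj]⟩

/-- A non-vanishing central character forces a class element centralizing a defect group. -/
theorem defect_le_centralizer (hM : Cfsg.IsPModular p M) {B : Set (Cfsg.IrrCharacter G)}
    (hB : Cfsg.IsPBlock M B) {D : Subgroup G} (hD : Cfsg.IsDefectGroup p M B D)
    {χ : Cfsg.IrrCharacter G} (hχ : χ ∈ B) {h : G}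
    (hω : ¬ Cfsg.MemLocalIdeal M (Cfsg.centralChar (χ : G → ℂ) h)) :
    ∃ x, IsConj h x ∧ D ≤ Subgroup.centralizer ({x} : Set G) := by
  obtain ⟨w, hw, hwD⟩ := isDefectGroup_iff.1 hD
  exact exists_conj_mem_centralizer hM hB hχ hω hw.2.1 hwD.2.1 hwD.1

theorem defectGroup_isPGroup {B : Set (Cfsg.IrrCharacter G)} {D : Subgroup G}
    (hD : Cfsg.IsDefectGroup p M B D) : IsPGroup p D := by
  obtain ⟨w, -, hwD⟩ := isDefectGroup_iff.1 hD
  exact hwD.2.1

/-- Defect groups form a single conjugacy class. -/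
theorem defectGroup_conj (hM : Cfsg.IsPModular p M) {B : Set (Cfsg.IrrCharacter G)}
    (hB : Cfsg.IsPBlock M B) {D E : Subgroup G} (hD : Cfsg.IsDefectGroup p M B D)
    (hE : Cfsg.IsDefectGroup p M B E) : ∃ x, cj x D = E := by
  obtain ⟨w, hw, hwD⟩ := isDefectGroup_iff.1 hD
  obtain ⟨v, hv, hvE⟩ := isDefectGroup_iff.1 hE
  obtain ⟨x, hx⟩ := cj_le_defect hM hB hE hw.2.1 hwD.2.1 hwD.1
  obtain ⟨y, hy⟩ := cj_le_defect hM hB hD hv.2.1 hvE.2.1 hvE.1
  refine ⟨x, eq_of_le_of_card_le' hx ?_⟩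
  rw [card_cj, ← card_cj y E]
  exact Subgroup.card_le_of_le hy

/-- Normal `p`-subgroups lie in every defect group. -/
theorem normal_le_defect (hM : Cfsg.IsPModular p M) {B : Set (Cfsg.IrrCharacter G)}
    (hB : Cfsg.IsPBlock M B) {D : Subgroup G} (hD : Cfsg.IsDefectGroup p M B D)
    {P : Subgroup G} [hPn : P.Normal] (hP : IsPGroup p P) : P ≤ D := by
  classical
  haveI := Fintype.ofFinite G
  haveI : Fact p.Prime := ⟨hM.1⟩
  obtain ⟨w, hw, hwD⟩ := isDefectGroup_iff.1 hD
  obtain ⟨χ, hχ⟩ := block_nonempty hM hB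
  obtain ⟨y, hy, hPy⟩ : ∃ y, IsConj w y ∧ y ∈ Subgroup.centralizer (P : Set G) := by
    by_contra hcon
    push Not at hcon
    refine hw.2.2 χ hχ ?_
    rw [← omega_classSum (Char.irr_isClassFunction χ)]
    refine li_omega_of_vanish hM hP χ (isCentral_classSum w) (classSum_mem hM w) fun g hg => ?_
    rw [classSum_apply, if_neg (fun h => hcon g h hg)]
    exact li_zero hM
  obtain ⟨a, ha⟩ := isConj_iff.1 hy.symm
  have h1 := cj_le_centralizer (mem_centralizer_iff_le.1 hPy) a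
  rw [ha] at h1
  have h2 : P ≤ Subgroup.centralizer ({w} : Set G) := fun q hq => h1 (mem_cj.2 (by
    have := hPn.conj_mem q hq a⁻¹
    rwa [inv_inv] at this))
  obtain ⟨t, -, ht⟩ := exists_cj_le_maxP hwD h2 hP
  intro q hq
  refine ht (mem_cj.2 ?_)
  have := hPn.conj_mem q hq t⁻¹
  rwa [inv_inv] at this

/-- A character vanishes at elements whose `p`-part lies in no defect group of its block. -/
theorem irr_eq_zero_of_pPart_not_mem (hM : Cfsg.IsPModular p M) {B : Set (Cfsg.IrrCharacter G)}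
    (hB : Cfsg.IsPBlock M B) {χ : Cfsg.IrrCharacter G} (hχ : χ ∈ B) {g x : G}
    (hx : Cfsg.IsPPart p g x) (hD : ∀ D : Subgroup G, Cfsg.IsDefectGroup p M B D → x ∉ D) :
    (χ : G → ℂ) g = 0 := by
  classical
  haveI := Fintype.ofFinite G
  obtain ⟨s, hxs, hc, ⟨k, hk⟩, hs⟩ := hx
  have hcl := Char.irr_isClassFunction χ
  have hfi := idem_block_mem hM hB
  have h0 := ev_eq_zero_of_kernel hM hcl hk hs hc hfi (by rw [← idem_inter, Set.inter_self])
    ((isCentral_idem B).comm _) ((isCentral_idem B).comm _) (fun c hcx => by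
      by_contra hn
      obtain ⟨D, hD'⟩ := exists_defectGroup hM hB
      obtain ⟨a, ha⟩ := cj_le_defect hM hB hD' hn (isPGroup_zpowers hk)
        (Subgroup.zpowers_le.2 (Subgroup.mem_centralizer_singleton_iff.2 hcx.symm.eq))
      refine hD _ (isDefectGroup_cj hD' a⁻¹) ?_
      have h2 := cj_mono a⁻¹ ha (mem_cj.2 (by
        rw [mem_cj]; simpa [mul_assoc] using Subgroup.mem_zpowers x) :
          x ∈ cj a⁻¹ (cj a (Subgroup.zpowers x)))
      exact h2)
  rw [ev_mul_comm hcl, ev_idem_mul, if_pos hχ, hxs] at h0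
  exact h0

end Cfsg.Agent.Blocks
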