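import Cfsg.Agent.Blocks.Defect
import Cfsg.Agent.Char.Irr
import Mathlib.LinearAlgebra.Matrix.Charpoly.Eigs
import Mathlib.LinearAlgebra.Charpoly.ToMatrix
import Mathlib.LinearAlgebra.Eigenspace.Charpoly

/-!
The order of a defect group.
-/

set_option autoImplicit false
set_option linter.all false

open scoped ComplexConjugate

namespace Cfsg.Agent.Blocks

universe u

variable {p : ℕ} {M : Ideal Cfsg.AlgInt} {G : Type u} [Group G] [Finite G]

local notation "⟪" g "⟫" => MonoidAlgebra.single g (1 : ℂ)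

theorem trace_isIntegral_of_pow_eq {V : Type*} [AddCommGroup V] [Module ℂ V] [FiniteDimensional ℂ V]
    (f : Module.End ℂ V) {n : ℕ} (hn : 0 < n) (h : f ^ (n + 1) = f) :
    IsIntegral ℤ (LinearMap.trace ℂ V f) := by
  classical
  let b := Module.Free.chooseBasis ℂ V
  rw [LinearMap.trace_eq_matrix_trace ℂ b, Matrix.trace_eq_sum_roots_charpoly]
  refine IsIntegral.multiset_sum fun μ hμ => ?_
  rw [LinearMap.charpoly_toMatrix, Polynomial.mem_roots (f.charpoly_monic.ne_zero),
    ← Module.End.hasEigenvalue_iff_isRoot_charpoly] at hμ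
  obtain ⟨v, hv⟩ := hμ.exists_hasEigenvector
  have h1 : μ ^ (n + 1) • v = μ • v := by
    rw [← hv.pow_apply, h, hv.apply_eq_smul]
  have h2 : μ ^ (n + 1) = μ := smul_left_injective ℂ hv.2 h1
  by_cases h0 : μ = 0
  · rw [h0]; exact isIntegral_zero
  · refine Char.isIntegral_rootOfUnity hn (mul_right_cancel₀ h0 ?_)
    rw [one_mul, ← pow_succ]; exact h2

/-- Averages of a character over a commuting coset of a subgroup are algebraic integers. -/
theorem isIntegral_coset_average (χ : Cfsg.IrrCharacter G) (P : Subgroup G) [Fintype P] {w : G}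
    (hw : ∀ z ∈ P, Commute z w) :
    IsIntegral ℤ ((Nat.card P : ℂ)⁻¹ * ∑ z : P, (χ : G → ℂ) ((z : G) * w)) := by
  classical
  haveI := Fintype.ofFinite G
  obtain ⟨d, ρ, hρ⟩ := Char.isCharacter_of_isIrrCharacter χ.2
  set e : MonoidAlgebra ℂ G := emb P (ga fun _ => (Nat.card P : ℂ)⁻¹) with he
  have he2 : e * e = e := by
    rw [he, ← emb_mul]
    congr 1
    refine ext_coeff fun z => ?_
    rw [coeff_mul_sum]
    simp only [coeff_ga, Finset.sum_const, Finset.card_univ, ← Nat.card_eq_fintype_card,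
      nsmul_eq_mul]
    rw [← mul_assoc, mul_inv_cancel₀ (by exact_mod_cast Nat.card_pos.ne'), one_mul]
  have hcomm : Commute e ⟪w⟫ := by
    rw [commute_single_iff]
    intro g
    by_cases hg : g ∈ P
    · have h1 : w * g * w⁻¹ = g := by rw [← (hw g hg).eq, mul_inv_cancel_right]
      rw [h1]
    · have h1 : w * g * w⁻¹ ∉ P := fun h => hg (by
        have h2 : w⁻¹ * (w * g * w⁻¹) * w = w * g * w⁻¹ := by
          rw [mul_assoc, (hw _ h).eq, inv_mul_cancel_left]
        rw [show g = w⁻¹ * (w * g * w⁻¹) * w by group, h2]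
        exact h)
      rw [he, emb_of_not_mem _ _ hg, emb_of_not_mem _ _ h1]
  have hpow : (e * ⟪w⟫) ^ (orderOf w + 1) = e * ⟪w⟫ := by
    rw [hcomm.mul_pow, single_pow', pow_succ w, pow_orderOf_eq_one, one_mul]
    congr 1
    induction orderOf w with
    | zero => exact pow_one e
    | succ k ih => rw [pow_succ, ih, he2]
  have h1 := trace_isIntegral_of_pow_eq (ρ.asAlgebraHom (e * ⟪w⟫)) (orderOf_pos w)
    (by rw [← map_pow, hpow])
  rw [trace_asAlgebraHom, hρ, ev_mul_single, he, sum_emb_mul] at h1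
  simpa [Finset.mul_sum] using h1

theorem dvd_of_natCast_eq_pow_mul (hM : Cfsg.IsPModular p M) {n k : ℕ} {z : ℂ}
    (hz : Cfsg.MemLocalRing M z) (h : (n : ℂ) = (p : ℂ) ^ k * z) : p ^ k ∣ n := by
  induction k generalizing n with
  | zero => simp
  | succ k ih =>
    have hp : p ∣ n := by
      rw [← li_natCast_iff hM, h, pow_succ', mul_assoc]
      refine li_mul hM ((li_natCast_iff hM p).2 dvd_rfl) (lr_mul hM ?_ hz)
      exact (mem_locRing hM).1 (algInt_mem_locRing hM
        ((isIntegral_algebraMap (R := ℤ) (A := ℂ) (x := (p : ℤ))).pow k))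
    obtain ⟨m, rfl⟩ := hp
    rw [pow_succ']
    refine mul_dvd_mul_left p (ih ?_)
    have hp0 : (p : ℂ) ≠ 0 := by exact_mod_cast hM.1.ne_zero
    refine mul_left_cancel₀ hp0 ?_
    push_cast at h
    rw [h]; ring

theorem natCast_div_lr (hM : Cfsg.IsPModular p M) {n m : ℕ} (hn : n ≠ 0) (hm : m ≠ 0)
    (h : m.factorization p ≤ n.factorization p) :
    Cfsg.MemLocalRing M ((n : ℂ) / m) := by
  have hsplit : ∀ k : ℕ, (k : ℂ) = (p : ℂ) ^ k.factorization p * ((k / p ^ k.factorization p : ℕ) : ℂ) :=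
    fun k => by exact_mod_cast (Nat.ordProj_mul_ordCompl_eq_self k p).symm
  obtain ⟨c, hc⟩ := Nat.exists_eq_add_of_le h
  have hp0 : (p : ℂ) ≠ 0 := by exact_mod_cast hM.1.ne_zero
  have hm' : ¬ p ∣ m / p ^ m.factorization p := Nat.not_dvd_ordCompl hM.1 hm
  have heq : (n : ℂ) / m = ((p ^ c * (n / p ^ n.factorization p) : ℕ) : ℂ)
      * ((m / p ^ m.factorization p : ℕ) : ℂ)⁻¹ := by
    generalize hn' : n / p ^ n.factorization p = n'
    generalize hm2 : m / p ^ m.factorization p = m'
    have e1 := hsplit n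
    have e2 := hsplit m
    rw [hn'] at e1
    rw [hm2] at e2
    rw [e1, e2, hc, pow_add, mul_assoc, mul_div_mul_left _ _ (pow_ne_zero _ hp0), div_eq_mul_inv]
    push_cast
    ring
  rw [heq]
  exact lr_mul hM ((mem_locRing hM).1 (natCast_mem (locRing hM) _)) (inv_natCast_lr hM hm')

theorem natCast_div_li (hM : Cfsg.IsPModular p M) {n m : ℕ} (hn : n ≠ 0) (hm : m ≠ 0)
    (h : m.factorization p < n.factorization p) :
    Cfsg.MemLocalIdeal M ((n : ℂ) / m) := by
  have hp0 : (p : ℂ) ≠ 0 := by exact_mod_cast hM.1.ne_zero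
  have h1 : (p * m).factorization p ≤ n.factorization p := by
    rw [Nat.factorization_mul hM.1.ne_zero hm, Finsupp.add_apply, hM.1.factorization_self]
    omega
  have h2 : (n : ℂ) / m = (p : ℂ) * ((n : ℂ) / ((p * m : ℕ) : ℂ)) := by
    push_cast
    rw [mul_div_assoc', mul_div_mul_left _ _ hp0]
  rw [h2]
  exact li_mul hM ((li_natCast_iff hM p).2 dvd_rfl)
    (natCast_div_lr hM hn (mul_ne_zero hM.1.ne_zero hm) h1)

theorem irr_charDegree (χ : Cfsg.IrrCharacter G) :
    (χ : G → ℂ) 1 = (Cfsg.charDegree (χ : G → ℂ) : ℂ) ∧ Cfsg.charDegree (χ : G → ℂ) ≠ 0 := by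
  obtain ⟨n, hn, h⟩ := Char.irr_apply_one χ
  have h2 : Cfsg.charDegree (χ : G → ℂ) = n := by
    rw [Cfsg.charDegree, h, Complex.natCast_re, Nat.floor_natCast]
  rw [h2]
  exact ⟨h, hn.ne'⟩

theorem degree_factorization_le (χ : Cfsg.IrrCharacter G) (p : ℕ) :
    (Cfsg.charDegree (χ : G → ℂ)).factorization p ≤ (Nat.card G).factorization p := by
  obtain ⟨n, _, h, hn⟩ := Char.irr_degree_dvd_card χ
  have h1 := (irr_charDegree χ).1
  rw [hn] at h1
  have : n = Cfsg.charDegree (χ : G → ℂ) := by exact_mod_cast h1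
  rw [← this]
  exact (Nat.factorization_le_iff_dvd (by
    rintro rfl; exact (irr_charDegree χ).2 this.symm) Nat.card_pos.ne').2 h p

/-- A subgroup of `p`-power order whose elements commute with a `p`-regular element: the function
`∑ χ(1) χ` of a block at the element is divisible accordingly. -/
theorem blockSum_eq_mul (hM : Cfsg.IsPModular p M) [Fintype G] {A : Set (Cfsg.IrrCharacter G)}
    (hA : idem A ∈ intAlg hM G) {P : Subgroup G} [Fintype P] (hP : IsPGroup p P) {w : G}
    (hw : ∀ z ∈ P, Commute z w) (hwr : ¬ p ∣ orderOf w) :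
    ∑ χ ∈ A.toFinite.toFinset, (χ : G → ℂ) 1 * (χ : G → ℂ) w
      = (Nat.card P : ℂ) * ∑ χ ∈ A.toFinite.toFinset, (χ : G → ℂ) 1 *
          ((Nat.card P : ℂ)⁻¹ * ∑ z : P, (χ : G → ℂ) ((z : G) * w)) := by
  classical
  haveI : Fact p.Prime := ⟨hM.1⟩
  have hsing : ∀ z : P, z ≠ 1 → ∑ χ ∈ A.toFinite.toFinset, (χ : G → ℂ) 1 * (χ : G → ℂ) ((z : G) * w) = 0 := by
    intro z hz
    obtain ⟨k, hk⟩ := IsPGroup.iff_orderOf.1 hP z
    have h1 : p ∣ orderOf ((z : G) * w) :=
      (dvd_orderOf_iff_pPart_ne_one hM.1 (x := (z : G))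
        ⟨w, rfl, hw z z.2, ⟨k, by rw [Subgroup.orderOf_coe, hk]⟩, hwr⟩).2
        fun h => hz (Subtype.ext h)
    have h2 := sum_eq_zero_of_singular hM hA h1 (t := (1 : G)) (by
      rw [orderOf_one]; exact hM.1.not_dvd_one)
    rw [← h2]
    refine Finset.sum_congr rfl fun χ _ => ?_
    rw [mul_comm, (irr_charDegree χ).1, Complex.conj_natCast]
  rw [Finset.mul_sum]
  simp only [← mul_assoc _ (_ : ℂ)⁻¹, mul_left_comm (Nat.card P : ℂ)]
  have hc : (Nat.card P : ℂ) ≠ 0 := by exact_mod_cast Nat.card_pos.ne'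
  calc ∑ χ ∈ A.toFinite.toFinset, (χ : G → ℂ) 1 * (χ : G → ℂ) w
      = ∑ z : P, ∑ χ ∈ A.toFinite.toFinset, (χ : G → ℂ) 1 * (χ : G → ℂ) ((z : G) * w) := by
        rw [Fintype.sum_eq_single (1 : P) fun z hz => hsing z hz, Subgroup.coe_one, one_mul]
    _ = _ := by
        rw [Finset.sum_comm]
        refine Finset.sum_congr rfl fun χ _ => ?_
        rw [← Finset.mul_sum]
        field_simp

/-- In a defect class the central character forces the degree to be divisible. -/
theorem le_degree_factorization (hM : Cfsg.IsPModular p M) {B : Set (Cfsg.IrrCharacter G)}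
    {w : G} (hw : Cfsg.IsDefectClass M B w) {χ : Cfsg.IrrCharacter G} (hχ : χ ∈ B) :
    (Nat.card G).factorization p
        - (Nat.card (Subgroup.centralizer ({w} : Set G))).factorization p
      ≤ (Cfsg.charDegree (χ : G → ℂ)).factorization p := by
  set C := Subgroup.centralizer ({w} : Set G) with hC
  have hidx : (Nat.card G).factorization p
      = (Nat.card C).factorization p + C.index.factorization p := by
    rw [← C.card_mul_index, Nat.factorization_mul Nat.card_pos.ne' C.index_ne_zero_of_finite,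
      Finsupp.add_apply]
  by_contra hlt
  refine hw.2.2 χ hχ ?_
  rw [Cfsg.centralChar, ← hC, (irr_charDegree χ).1, mul_div_right_comm]
  refine li_mul hM (natCast_div_li hM C.index_ne_zero_of_finite (irr_charDegree χ).2 (by omega)) ?_
  exact (mem_locRing hM).1 (algInt_mem_locRing hM
    (Char.isCharacter_isIntegral (Char.isCharacter_of_isIrrCharacter χ.2) w))

theorem not_dvd_orderOf_of_blockCoeff (hM : Cfsg.IsPModular p M) {B : Set (Cfsg.IrrCharacter G)}
    (hB : Cfsg.IsPBlock M B) {w : G} (hw : ¬ Cfsg.MemLocalIdeal M (Cfsg.blockCoeff B w)) :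
    ¬ p ∣ orderOf w := by
  classical
  haveI := Fintype.ofFinite G
  intro hd
  refine hw ?_
  have h := sum_eq_zero_of_singular hM (idem_block_mem hM hB) hd (t := (1 : G))
    (by rw [orderOf_one]; exact hM.1.not_dvd_one)
  have h2 : Cfsg.blockCoeff B w = 0 := by
    have h3 := congrArg (starRingEnd ℂ) h
    simp only [map_sum, map_mul, Complex.conj_conj, map_zero] at h3
    rw [Cfsg.blockCoeff, finsum_mem_eq_finite_toFinset_sum _ B.toFinite]
    simp only [mul_comm ((_ : Cfsg.IrrCharacter G).val 1)]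
    rw [h3, mul_zero]
  rw [h2]; exact li_zero hM

/-- Some character of the block attains the bound. -/
theorem exists_degree_factorization_le (hM : Cfsg.IsPModular p M) {B : Set (Cfsg.IrrCharacter G)}
    (hB : Cfsg.IsPBlock M B) {w : G} (hw : Cfsg.IsDefectClass M B w) :
    ∃ χ ∈ B, (Cfsg.charDegree (χ : G → ℂ)).factorization p
      ≤ (Nat.card G).factorization p
        - (Nat.card (Subgroup.centralizer ({w} : Set G))).factorization p := by
  classical
  haveI := Fintype.ofFinite G
  haveI : Fact p.Prime := ⟨hM.1⟩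
  by_contra hcon
  push Not at hcon
  obtain ⟨D, hD, -⟩ := exists_maxP (w := w) (p := p) (Q := (⊥ : Subgroup G)) bot_le (IsPGroup.of_bot)
  haveI := Fintype.ofFinite D
  have hwr := not_dvd_orderOf_of_blockCoeff hM hB hw.2.1
  refine hw.2.1 ?_
  have hcomm : ∀ z ∈ D, Commute z w⁻¹ := fun z hz =>
    Commute.inv_right (Subgroup.mem_centralizer_singleton_iff.1 (hD.1 hz))
  have h1 := blockSum_eq_mul hM (idem_block_mem hM hB) hD.2.1 hcomm (by rwa [orderOf_inv])
  rw [Cfsg.blockCoeff, finsum_mem_eq_finite_toFinset_sum _ B.toFinite]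
  simp only [← Char.irr_apply_inv]
  rw [h1, ← mul_assoc, Finset.mul_sum]
  refine li_sum hM _ fun χ hχ => ?_
  rw [(irr_charDegree χ).1, ← mul_assoc]
  refine li_mul hM ?_ ((mem_locRing hM).1 (algInt_mem_locRing hM (isIntegral_coset_average χ D hcomm)))
  have h2 : (Nat.card G : ℂ)⁻¹ * (Nat.card D : ℂ) * (Cfsg.charDegree (χ : G → ℂ) : ℂ)
      = ((Nat.card D * Cfsg.charDegree (χ : G → ℂ) : ℕ) : ℂ) / (Nat.card G : ℂ) := by
    push_cast; ring
  rw [h2]
  have hpos := (irr_charDegree χ).2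
  refine natCast_div_li hM (mul_ne_zero Nat.card_pos.ne' hpos) Nat.card_pos.ne' ?_
  rw [Nat.factorization_mul Nat.card_pos.ne' hpos, Finsupp.add_apply, maxP_card_eq hD,
    hM.1.factorization_pow, Finsupp.single_eq_same]
  have := hcon χ (B.toFinite.mem_toFinset.1 hχ)
  omega

theorem blockDefect_eq (hM : Cfsg.IsPModular p M) {B : Set (Cfsg.IrrCharacter G)}
    (hB : Cfsg.IsPBlock M B) {w : G} (hw : Cfsg.IsDefectClass M B w) :
    Cfsg.blockDefect p B = (Nat.card (Subgroup.centralizer ({w} : Set G))).factorization p := by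
  obtain ⟨χ, hχ, hle⟩ := exists_degree_factorization_le hM hB hw
  have h1 := le_degree_factorization hM hw hχ
  have hinf : sInf ((fun χ : Cfsg.IrrCharacter G => (Cfsg.charDegree (χ : G → ℂ)).factorization p) '' B)
      = (Cfsg.charDegree (χ : G → ℂ)).factorization p := by
    refine le_antisymm (Nat.sInf_le ⟨χ, hχ, rfl⟩) (le_csInf ⟨_, χ, hχ, rfl⟩ ?_)
    rintro _ ⟨ψ, hψ, rfl⟩
    have h2 := le_degree_factorization hM hw hψ
    dsimp only
    omega
  have h3 : (Nat.card (Subgroup.centralizer ({w} : Set G))).factorization p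
      ≤ (Nat.card G).factorization p :=
    (Nat.factorization_le_iff_dvd Nat.card_pos.ne' Nat.card_pos.ne').2
      (Subgroup.card_subgroup_dvd_card _) p
  rw [Cfsg.blockDefect, hinf]
  omega

theorem card_defectGroup (hM : Cfsg.IsPModular p M) {B : Set (Cfsg.IrrCharacter G)}
    (hB : Cfsg.IsPBlock M B) {D : Subgroup G} (hD : Cfsg.IsDefectGroup p M B D) :
    Nat.card D = p ^ Cfsg.blockDefect p B := by
  haveI : Fact p.Prime := ⟨hM.1⟩
  obtain ⟨w, hw, hwD⟩ := isDefectGroup_iff.1 hD
  rw [maxP_card_eq hwD, blockDefect_eq hM hB hw]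

theorem blockDefect_eq_zero_iff (hM : Cfsg.IsPModular p M) {B : Set (Cfsg.IrrCharacter G)}
    (hB : Cfsg.IsPBlock M B) {D : Subgroup G} (hD : Cfsg.IsDefectGroup p M B D) :
    Cfsg.blockDefect p B = 0 ↔ D = ⊥ := by
  rw [← Subgroup.card_eq_one, card_defectGroup hM hB hD]
  simp [hM.1.ne_one]

/-- Defect zero blocks are singletons and conversely. -/
theorem singleton_block_iff (hM : Cfsg.IsPModular p M) (χ : Cfsg.IrrCharacter G) :
    Cfsg.blockOf M (χ : G → ℂ) = {χ} ↔
      (Cfsg.charDegree (χ : G → ℂ)).factorization p = (Nat.card G).factorization p := by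
  classical
  haveI := Fintype.ofFinite G
  haveI : Fact p.Prime := ⟨hM.1⟩
  have hle := degree_factorization_le χ p
  constructor
  · intro h
    have hA := idem_block_mem hM (B := ({χ} : Set (Cfsg.IrrCharacter G))) ⟨χ, h.symm⟩
    obtain ⟨P⟩ : Nonempty (Sylow p G) := inferInstance
    haveI := Fintype.ofFinite (P : Subgroup G)
    have h1 := blockSum_eq_mul hM hA P.2 (w := 1) (fun z _ => Commute.one_right z) (by
      rw [orderOf_one]; exact hM.1.not_dvd_one)
    simp only [Set.toFinite_toFinset, Set.toFinset_singleton, Finset.sum_singleton] at h1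
    have hn0 := (irr_charDegree χ).2
    have hne : (χ : G → ℂ) 1 ≠ 0 := Char.irr_one_ne_zero χ
    rw [mul_left_comm] at h1
    have h2 := mul_left_cancel₀ hne h1
    rw [(irr_charDegree χ).1, P.card_eq_multiplicity, Nat.cast_pow] at h2
    have h3 := dvd_of_natCast_eq_pow_mul hM ((mem_locRing hM).1 (algInt_mem_locRing hM
      (by
        have h4 := isIntegral_coset_average χ (P : Subgroup G) (w := 1) (fun z _ => Commute.one_right z)
        rw [P.card_eq_multiplicity, Nat.cast_pow] at h4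
        exact h4))) h2
    have h5 := (hM.1.pow_dvd_iff_le_factorization hn0).1 h3
    omega
  · intro h
    refine Set.Subset.antisymm ?_ (Set.singleton_subset_iff.2 (self_mem_blockOf hM χ))
    have hA : idem ({χ} : Set (Cfsg.IrrCharacter G)) ∈ intAlg hM G := fun g => by
      show Cfsg.MemLocalRing M (Cfsg.blockCoeff _ g)
      rw [Cfsg.blockCoeff, finsum_mem_singleton, ← mul_assoc, (irr_charDegree χ).1]
      refine lr_mul hM ?_ ((mem_locRing hM).1 (algInt_mem_locRing hM ?_))
      · rw [mul_comm, ← div_eq_mul_inv]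
        exact natCast_div_lr hM (irr_charDegree χ).2 Nat.card_pos.ne' h.ge
      · rw [← Char.irr_apply_inv]
        exact Char.isCharacter_isIntegral (Char.isCharacter_of_isIrrCharacter χ.2) _
    exact isBlockUnion_of_mem hM hA χ rfl

end Cfsg.Agent.Blocks
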