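import Cfsg.Agent.Blocks.LocRing
import Cfsg.Agent.Char.Induced
import Cfsg.Agent.Char.Irr
import Mathlib.RepresentationTheory.Basic

/-!
The complex group algebra: central elements, central characters, idempotents.
-/

set_option autoImplicit false
set_option linter.all false

open scoped ComplexConjugate
open Polynomial Module

namespace Cfsg.Agent.Blocks

universe u

variable {G : Type u} [Group G] [Finite G]

local notation "ℂG" => MonoidAlgebra ℂ G

/-- The group algebra element with given coefficients. -/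
noncomputable def ga (f : G → ℂ) : MonoidAlgebra ℂ G :=
  MonoidAlgebra.ofCoeff (Finsupp.equivFunOnFinite.symm f)

omit [Group G] in
@[simp] theorem coeff_ga (f : G → ℂ) (g : G) : (ga f).coeff g = f g := rfl

omit [Finite G] in
theorem ext_coeff {a b : ℂG} (h : ∀ g, a.coeff g = b.coeff g) : a = b := by
  apply MonoidAlgebra.coeffEquiv.injective
  exact Finsupp.ext h

theorem ga_coeff (a : ℂG) : ga (fun g => a.coeff g) = a := ext_coeff fun g => rfl

theorem coeff_mul_sum [Fintype G] (a b : ℂG) (g : G) :
    (a * b).coeff g = ∑ x : G, a.coeff x * b.coeff (x⁻¹ * g) := by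
  rw [MonoidAlgebra.coeff_mul_apply_left, Finsupp.sum_fintype]
  simp

omit [Finite G] in
theorem coeff_sum' {ι : Type*} (s : Finset ι) (f : ι → ℂG) (g : G) :
    (∑ i ∈ s, f i).coeff g = ∑ i ∈ s, (f i).coeff g := by
  simp [Finsupp.finsetSum_apply]

theorem eq_sum_single [Fintype G] (a : ℂG) :
    a = ∑ g : G, MonoidAlgebra.single g (a.coeff g) := by
  classical
  refine ext_coeff fun g => ?_
  rw [coeff_sum']
  simp [Finsupp.single_apply]

/-- The linear functional attached to a function on the group. -/
noncomputable def ev [Fintype G] (χ : G → ℂ) (a : ℂG) : ℂ := ∑ g : G, a.coeff g * χ g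

theorem trace_asAlgebraHom [Fintype G] {V : Type*} [AddCommGroup V] [Module ℂ V]
    [FiniteDimensional ℂ V] (ρ : Representation ℂ G V) (a : ℂG) :
    LinearMap.trace ℂ V (ρ.asAlgebraHom a) = ev ρ.character a := by
  conv_lhs => rw [eq_sum_single a]
  simp [ev, Representation.character, Representation.asAlgebraHom_single]

/-- The central character of `χ` on a group algebra element. -/
noncomputable def omega [Fintype G] (χ : G → ℂ) (a : ℂG) : ℂ := ev χ a / χ 1

theorem omega_add [Fintype G] (χ : G → ℂ) (a b : ℂG) :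
    omega χ (a + b) = omega χ a + omega χ b := by
  simp [omega, ev, add_mul, Finset.sum_add_distrib, add_div]

theorem omega_smul [Fintype G] (χ : G → ℂ) (c : ℂ) (a : ℂG) :
    omega χ (c • a) = c * omega χ a := by
  simp only [omega, ev, MonoidAlgebra.coeff_smul_apply, smul_eq_mul, mul_assoc, ← Finset.mul_sum,
    mul_div_assoc]

theorem omega_zero [Fintype G] (χ : G → ℂ) : omega χ (0 : ℂG) = 0 := by simp [omega, ev]

theorem omega_sub [Fintype G] (χ : G → ℂ) (a b : ℂG) :
    omega χ (a - b) = omega χ a - omega χ b := by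
  simp [omega, ev, sub_mul, Finset.sum_sub_distrib, sub_div]

theorem omega_one [Fintype G] (χ : Cfsg.IrrCharacter G) : omega (χ : G → ℂ) (1 : ℂG) = 1 := by
  classical
  rw [omega, ev, Finset.sum_eq_single 1]
  · simp [MonoidAlgebra.one_def, Char.irr_one_ne_zero χ]
  · intro g _ hg; simp [MonoidAlgebra.one_def, Finsupp.single_apply, Ne.symm hg]
  · simp

omit [Finite G] in
/-- Central elements. -/
def IsCentral (a : ℂG) : Prop := ∀ g x : G, a.coeff (x * g * x⁻¹) = a.coeff g

theorem IsCentral.comm {a : ℂG} (ha : IsCentral a) (b : ℂG) : a * b = b * a := by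
  classical
  haveI := Fintype.ofFinite G
  refine ext_coeff fun g => ?_
  rw [coeff_mul_sum, coeff_mul_sum]
  refine Fintype.sum_equiv ((Equiv.inv G).trans (Equiv.mulRight g)) _ _ fun x => ?_
  simp only [Equiv.trans_apply, Equiv.inv_apply, Equiv.coe_mulRight, mul_inv_rev, inv_inv]
  rw [mul_comm]
  congr 1
  rw [show g⁻¹ * x * g = g⁻¹ * x * g⁻¹⁻¹ by rw [inv_inv], ha]

theorem isCentral_of_comm {a : ℂG} (h : ∀ b : ℂG, a * b = b * a) : IsCentral a := by
  intro g x
  have h1 := congrArg (fun c : ℂG => c.coeff (x * g)) (h (MonoidAlgebra.single x 1))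
  simp only [MonoidAlgebra.coeff_mul_single_apply, MonoidAlgebra.coeff_single_mul_apply,
    inv_mul_cancel_left, mul_one, one_mul] at h1
  exact h1

theorem IsCentral.mul {a b : ℂG} (ha : IsCentral a) (hb : IsCentral b) : IsCentral (a * b) :=
  isCentral_of_comm fun c => by rw [mul_assoc, hb.comm, ← mul_assoc, ha.comm, mul_assoc]

omit [Finite G] in
theorem isCentral_zero : IsCentral (0 : ℂG) := fun _ _ => by simp

omit [Finite G] in
theorem IsCentral.add {a b : ℂG} (ha : IsCentral a) (hb : IsCentral b) : IsCentral (a + b) :=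
  fun g x => by simp [ha g x, hb g x]

omit [Finite G] in
theorem IsCentral.sub {a b : ℂG} (ha : IsCentral a) (hb : IsCentral b) : IsCentral (a - b) :=
  fun g x => by simp [ha g x, hb g x]

omit [Finite G] in
theorem IsCentral.smul {a : ℂG} (ha : IsCentral a) (c : ℂ) : IsCentral (c • a) :=
  fun g x => by simp [ha g x]

theorem isCentral_one : IsCentral (1 : ℂG) := isCentral_of_comm fun b => by simp

/-- Central elements act by scalars. -/
theorem omega_mul [Fintype G] (χ : Cfsg.IrrCharacter G) {a : ℂG} (ha : IsCentral a) (b : ℂG) :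
    omega (χ : G → ℂ) (a * b) = omega (χ : G → ℂ) a * omega (χ : G → ℂ) b := by
  obtain ⟨χ, hχ⟩ := χ
  obtain ⟨n, ρ, hρ, rfl⟩ := hχ
  haveI := hρ
  have hcomm : ∀ g, ρ.asAlgebraHom a * ρ g = ρ g * ρ.asAlgebraHom a := by
    intro g
    have := congrArg ρ.asAlgebraHom (ha.comm (MonoidAlgebra.single g 1))
    simpa [Representation.asAlgebraHom_single] using this
  obtain ⟨c, hc⟩ := Char.exists_smul_id_of_commute ρ _ hcomm
  have hd : (finrank ℂ (Fin n → ℂ) : ℂ) ≠ 0 := by
    exact_mod_cast (Char.finrank_pos_of_isIrreducible ρ).ne'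
  simp only [omega, ← trace_asAlgebraHom, map_mul, hc, ρ.char_one]
  rw [show (c • LinearMap.id : Module.End ℂ (Fin n → ℂ)) * ρ.asAlgebraHom b = c • ρ.asAlgebraHom b by
    ext; simp, map_smul, map_smul, LinearMap.trace_id, smul_eq_mul, smul_eq_mul]
  field_simp

theorem omega_pow [Fintype G] (χ : Cfsg.IrrCharacter G) {a : ℂG} (ha : IsCentral a) (k : ℕ) :
    omega (χ : G → ℂ) (a ^ k) = omega (χ : G → ℂ) a ^ k := by
  induction k with
  | zero => simp [omega_one]
  | succ k ih => rw [pow_succ', omega_mul χ ha, ih, pow_succ']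

theorem omega_sum [Fintype G] (χ : G → ℂ) {ι : Type*} (s : Finset ι) (f : ι → ℂG) :
    omega χ (∑ i ∈ s, f i) = ∑ i ∈ s, omega χ (f i) := by
  classical
  induction s using Finset.induction with
  | empty => simp [omega_zero]
  | insert a s ha ih => simp [ha, omega_add, ih]

theorem IsCentral.eq_zero [Fintype G] {a : ℂG} (ha : IsCentral a)
    (h : ∀ χ : Cfsg.IrrCharacter G, omega (χ : G → ℂ) a = 0) : a = 0 := by
  have hf : (fun g => a.coeff g) = 0 := Char.eq_zero_of_inner_irr_eq_zero (fun g x => ha g x)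
    fun χ => by
      have h1 := h (Char.irrConj χ)
      rw [omega, div_eq_zero_iff] at h1
      have h2 := h1.resolve_right (Char.irr_one_ne_zero _)
      simp only [ev, Char.irrConj] at h2
      rw [Cfsg.classInner, h2, mul_zero]
  exact ext_coeff fun g => by simpa using congrFun hf g

theorem IsCentral.eq_of_omega [Fintype G] {a b : ℂG} (ha : IsCentral a) (hb : IsCentral b)
    (h : ∀ χ : Cfsg.IrrCharacter G, omega (χ : G → ℂ) a = omega (χ : G → ℂ) b) : a = b :=
  sub_eq_zero.1 ((ha.sub hb).eq_zero fun χ => by rw [omega_sub, h, sub_self])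

/-- The sum of the elements conjugate to `g`. -/
noncomputable def classSum (g : G) : ℂG :=
  ga fun x => by classical exact if IsConj g x then 1 else 0

theorem classSum_apply (g x : G) [Decidable (IsConj g x)] :
    (classSum g).coeff x = if IsConj g x then 1 else 0 := by
  simp only [classSum, coeff_ga]
  congr

theorem isCentral_classSum (g : G) : IsCentral (classSum g) := by
  classical
  intro h x
  simp only [classSum_apply]
  have hc : IsConj h (x * h * x⁻¹) := isConj_iff.2 ⟨x, rfl⟩
  have : IsConj g (x * h * x⁻¹) ↔ IsConj g h := ⟨fun h' => h'.trans hc.symm, fun h' => h'.trans hc⟩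
  by_cases h' : IsConj g h
  · rw [if_pos h', if_pos (this.2 h')]
  · rw [if_neg h', if_neg (mt this.1 h')]

theorem omega_classSum [Fintype G] {χ : G → ℂ} (hχ : Cfsg.IsClassFunction G χ) (g : G) :
    omega χ (classSum g) = Cfsg.centralChar χ g := by
  classical
  rw [omega, ev, Cfsg.centralChar]
  congr 1
  simp only [classSum_apply, ite_mul, one_mul, zero_mul, ← Finset.sum_filter]
  rw [Finset.sum_congr rfl (fun x hx => ?_), Finset.sum_const, nsmul_eq_mul, Char.card_conj_set g]
  obtain ⟨y, rfl⟩ := isConj_iff.1 (Finset.mem_filter.1 hx).2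
  exact hχ g y

theorem isIntegral_centralChar (χ : Cfsg.IrrCharacter G) (g : G) :
    IsIntegral ℤ (Cfsg.centralChar (χ : G → ℂ) g) := by
  obtain ⟨χ, hχ⟩ := χ
  obtain ⟨n, ρ, hρ, rfl⟩ := hχ
  haveI := hρ
  simp only [Cfsg.centralChar, ρ.char_one]
  exact Char.isIntegral_centralValue ρ g

/-- A central element is a combination of class sums. -/
theorem IsCentral.sum_mul_eq [Fintype G] [Fintype (ConjClasses G)] {a : ℂG} (ha : IsCentral a)
    (f : G → ℂ) : ∑ g : G, a.coeff g * f g
      = ∑ C : ConjClasses G, a.coeff C.out * ∑ g : G, (classSum C.out).coeff g * f g := by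
  classical
  rw [← Finset.sum_fiberwise Finset.univ ConjClasses.mk]
  refine Finset.sum_congr rfl fun C _ => ?_
  simp only [classSum_apply, ite_mul, one_mul, zero_mul, ← Finset.sum_filter, Finset.mul_sum]
  have hout : ConjClasses.mk C.out = C := Quotient.out_eq C
  refine Finset.sum_congr (Finset.filter_congr fun x _ => ?_) fun x hx => ?_
  · rw [← ConjClasses.mk_eq_mk_iff_isConj, hout]
    exact eq_comm
  · obtain ⟨y, rfl⟩ := isConj_iff.1 (Finset.mem_filter.1 hx).2
    rw [ha]

end Cfsg.Agent.Blocks
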