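import Cfsg.Agent.Blocks.BlockInd
import Cfsg.Agent.Blocks.BlockKernel

/-!
Height zero characters on `p`-regular elements; the third main theorem.
-/

set_option autoImplicit false
set_option linter.all false

open scoped ComplexConjugate

namespace Cfsg.Agent.Blocks

universe u

variable {p : ℕ} {M : Ideal Cfsg.AlgInt} {G : Type u} [Group G] [Finite G]

theorem liEq_of_omega_congr (hM : Cfsg.IsPModular p M) [Fintype G] {t e : MonoidAlgebra ℂ G}
    (ht : IsCentral t) (hti : t ∈ intAlg hM G) (ht2 : LiEq M (t * t) t)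
    (he : IsCentral e) (hei : e ∈ intAlg hM G) (he2 : e * e = e)
    (h : ∀ ψ : Cfsg.IrrCharacter G,
      Cfsg.MemLocalIdeal M (omega (ψ : G → ℂ) t - omega (ψ : G → ℂ) e)) : LiEq M t e := by
  have key : ∀ ψ : Cfsg.IrrCharacter G, omega (ψ : G → ℂ) e = 0 ∨ omega (ψ : G → ℂ) e = 1 := by
    intro ψ
    have h2 := omega_mul ψ he e
    rw [he2] at h2
    rcases mul_eq_zero.1 (show omega (ψ : G → ℂ) e * (omega (ψ : G → ℂ) e - 1) = 0 by
      rw [mul_sub, ← h2, mul_one, sub_self]) with h3 | h3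
    · exact Or.inl h3
    · exact Or.inr (sub_eq_zero.1 h3)
  have hA := li_of_idem hM (ht.mul (isCentral_one.sub he))
    (mul_mem hti (sub_mem (one_mem _) hei)) (by
      rw [show t * (1 - e) * (t * (1 - e)) = t * t * ((1 - e) * (1 - e)) by
        rw [mul_assoc, ← mul_assoc (1 - e) t, ← ht.comm (1 - e)]; simp only [mul_assoc],
        show (1 - e) * (1 - e) = (1 - e : MonoidAlgebra ℂ G) by noncomm_ring; rw [he2]; abel]
      exact LiEq.mul hM ht2 (LiEq.refl hM _) (mul_mem hti hti) (sub_mem (one_mem _) hei))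
    (fun ψ => by
      rw [omega_mul ψ ht, omega_sub, omega_one]
      rcases key ψ with h3 | h3
      · have h4 := h ψ
        rw [h3, sub_zero] at h4
        rw [h3, sub_zero, mul_one]; exact h4
      · rw [h3, sub_self, mul_zero]; exact li_zero hM)
  have hB := li_of_idem hM (he.mul (isCentral_one.sub ht))
    (mul_mem hei (sub_mem (one_mem _) hti)) (by
      rw [show e * (1 - t) * (e * (1 - t)) = e * e * ((1 - t) * (1 - t)) by
        rw [mul_assoc, ← mul_assoc (1 - t) e, ← he.comm (1 - t)]; simp only [mul_assoc], he2]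
      refine LiEq.mul hM (LiEq.refl hM _) ?_ hei (sub_mem (one_mem _) hti)
      intro g
      rw [show (1 - t) * (1 - t) = 1 - t + (t * t - t) by noncomm_ring]
      simpa [MonoidAlgebra.coeff_add, MonoidAlgebra.coeff_sub] using ht2 g)
    (fun ψ => by
      rw [omega_mul ψ he, omega_sub, omega_one]
      rcases key ψ with h3 | h3
      · rw [h3, zero_mul]; exact li_zero hM
      · have h4 := h ψ
        rw [h3] at h4
        rw [h3, one_mul]
        simpa using li_neg h4)
  intro g
  have h5 := li_sub hM (hA g) (hB g)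
  rw [mul_sub, mul_sub, mul_one, mul_one, he.comm t] at h5
  simpa [MonoidAlgebra.coeff_sub] using h5

/-- An element supported on `p`-regular elements inside a block with all central characters in the
local ideal vanishes at defect classes. -/
theorem li_coeff_of_omega_li (hM : Cfsg.IsPModular p M) [Fintype G]
    {B : Set (Cfsg.IrrCharacter G)} (hB : Cfsg.IsPBlock M B) {D : Subgroup G}
    (hD : Cfsg.IsDefectGroup p M B D) {x : MonoidAlgebra ℂ G} (hxc : IsCentral x)
    (hxi : x ∈ intAlg hM G) (hxr : ∀ g, p ∣ orderOf g → x.coeff g = 0) (hxf : x * idem B = x)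
    (hω : ∀ χ : Cfsg.IrrCharacter G, Cfsg.MemLocalIdeal M (omega (χ : G → ℂ) x))
    {w : G} (hw : w ∈ Subgroup.centralizer (D : Set G)) (hwr : ¬ p ∣ orderOf w) :
    Cfsg.MemLocalIdeal M (x.coeff w) := by
  classical
  haveI : Fact p.Prime := ⟨hM.1⟩
  have hDp := defectGroup_isPGroup hD
  set C := Subgroup.centralizer (D : Set G) with hC
  haveI := Fintype.ofFinite C
  set Z := D.subgroupOf C with hZ
  haveI : Z.Normal := ⟨fun z hz c => by
    have h1 : c * z * c⁻¹ = z := by
      have h2 : (z : G) * c = c * z := Subgroup.mem_centralizer_iff.1 c.2 z hz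
      refine Subtype.ext ?_
      push_cast
      rw [← h2, mul_inv_cancel_right]
    rw [h1]; exact hz⟩
  haveI := Fintype.ofFinite Z
  have hZp : IsPGroup p Z := hDp.comap_of_injective _ (Subgroup.subtype_injective _)
  -- the blocks of the centralizer over `B`
  let 𝔅 : Set (Cfsg.IrrCharacter C) :=
    {ψ | ¬ Cfsg.MemLocalIdeal M (omega (ψ : C → ℂ) (trunc C (C : Set G) (idem B)))}
  have hfi := idem_block_mem hM hB
  have htc := isCentral_trunc (centralizer_conj_mem C) (isCentral_idem B)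
  have hti : trunc C (C : Set G) (idem B) ∈ intAlg hM C := trunc_mem hM C (C : Set G) hfi
  have hunion : IsBlockUnion M 𝔅 := fun ψ hψ ψ' hψ' hl => hψ (by
    have h := li_omega_sub hM hψ' htc hti
    have h2 := li_add hM h hl
    simpa using h2)
  have hEi := idem_union_mem hM hunion
  have ht2 : LiEq M (trunc C (C : Set G) (idem B) * trunc C (C : Set G) (idem B))
      (trunc C (C : Set G) (idem B)) := by
    have := trunc_mul hM hDp (le_refl C) hfi hfi ((isCentral_idem B).pInvariant D) ((isCentral_idem B).pInvariant D)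
    rw [show idem B * idem B = idem B by rw [← idem_inter, Set.inter_self]] at this
    exact this.symm
  have hTE : LiEq M (trunc C (C : Set G) (idem B)) (idem 𝔅) := by
    refine liEq_of_omega_congr hM htc hti ht2 (isCentral_idem 𝔅) hEi
      (by rw [← idem_inter, Set.inter_self]) fun ψ => ?_
    rw [omega_idem]
    split_ifs with hψ
    · have hφ := isModHom_trunc hM hDp (H := C) le_rfl (centralizer_conj_mem C) ψ
      obtain ⟨B', hB', hBφ⟩ := hφ.exists_block
      obtain ⟨χ', hχ'⟩ := block_nonempty hM hB'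
      have h1 := hBφ χ' hχ' (idem B) (isCentral_idem B) hfi
      by_cases he : B' = B
      · rwa [omega_idem, if_pos (he ▸ hχ')] at h1
      · rw [omega_idem, if_neg (Set.disjoint_left.1 (disjoint_blocks hM hB' hB he) hχ'), sub_zero] at h1
        exact absurd h1 hψ
    · rw [sub_zero]; exact not_not.1 hψ
  set x' := trunc C (C : Set G) x with hx'
  have hx'c : IsCentral x' := isCentral_trunc (centralizer_conj_mem C) hxc
  have hx'i : x' ∈ intAlg hM C := trunc_mem hM C _ hxi
  have hxE : LiEq M x' (x' * idem 𝔅) := by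
    have h1 := trunc_mul hM hDp (le_refl C) hxi hfi (hxc.pInvariant D) ((isCentral_idem B).pInvariant D)
    rw [hxf] at h1
    exact LiEq.trans hM h1 (LiEq.mul hM (LiEq.refl hM x') hTE hx'i hEi)
  -- the central characters of `x'`
  have hωx' : ∀ ψ : Cfsg.IrrCharacter C, Cfsg.MemLocalIdeal M (omega (ψ : C → ℂ) x') := by
    intro ψ
    obtain ⟨B', hB', hBφ⟩ := (isModHom_trunc hM hDp (H := C) le_rfl (centralizer_conj_mem C) ψ).exists_block
    obtain ⟨χ', hχ'⟩ := block_nonempty hM hB'
    have h1 := li_add hM (hBφ χ' hχ' x hxc hxi) (hω χ')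
    rw [sub_add_cancel] at h1
    exact h1
  set S : MonoidAlgebra ℂ C := (Nat.card Z : ℂ) • emb Z (ga fun _ : Z => (Nat.card Z : ℂ)⁻¹) with hS
  have hSc : IsCentral S := (isCentral_emb_of_invariant Z (normal_average_invariant Z)).smul _
  have hScoeff : ∀ c : C, S.coeff c = if c ∈ Z then 1 else 0 := by
    intro c
    rw [hS, MonoidAlgebra.coeff_smul_apply, smul_eq_mul]
    split_ifs with hc
    · rw [emb_of_mem Z _ hc, coeff_ga, mul_inv_cancel₀ (by exact_mod_cast Nat.card_pos.ne')]
    · rw [emb_of_not_mem Z _ hc, mul_zero]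
  have hSi : S ∈ intAlg hM C := fun c => by
    rw [hScoeff]
    split_ifs
    · exact (mem_locRing hM).1 (one_mem _)
    · exact lr_zero hM
  -- evaluate at `w`
  have hkey : ∀ c, Cfsg.MemLocalIdeal M ((x' * idem 𝔅 * S).coeff c) := by
    intro c
    have hexp : x' * idem 𝔅 * S = ∑ ψ ∈ 𝔅.toFinite.toFinset,
        (omega (ψ : C → ℂ) x' * omega (ψ : C → ℂ) S) • idem ({ψ} : Set (Cfsg.IrrCharacter C)) := by
      refine ((hx'c.mul (isCentral_idem 𝔅)).mul hSc).eq_of_omega (fun g y => ?_) fun η => ?_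
      · simp only [coeff_sum', MonoidAlgebra.coeff_smul_apply]
        exact Finset.sum_congr rfl fun ψ _ => by
          rw [isCentral_idem ({ψ} : Set (Cfsg.IrrCharacter C)) g y]
      · rw [omega_mul η (hx'c.mul (isCentral_idem 𝔅)), omega_mul η hx'c, omega_idem, omega_sum]
        simp only [omega_smul, omega_idem, Set.mem_singleton_iff, mul_ite, mul_one, mul_zero]
        rw [Finset.sum_ite_eq]
        simp only [Set.Finite.mem_toFinset]
        split_ifs <;> simp
    rw [hexp, coeff_sum']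
    refine li_sum hM _ fun ψ hψ => ?_
    rw [Set.Finite.mem_toFinset] at hψ
    rw [MonoidAlgebra.coeff_smul_apply, smul_eq_mul, mul_assoc]
    refine li_mul hM (hωx' ψ) ?_
    have hidem : emb Z (ga fun _ : Z => (Nat.card Z : ℂ)⁻¹) * emb Z (ga fun _ : Z => (Nat.card Z : ℂ)⁻¹)
        = emb Z (ga fun _ : Z => (Nat.card Z : ℂ)⁻¹) := normal_average_sq Z
    have h2 := omega_mul ψ (isCentral_emb_of_invariant Z (normal_average_invariant Z))
      (emb Z (ga fun _ : Z => (Nat.card Z : ℂ)⁻¹))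
    rw [hidem] at h2
    rw [hS, omega_smul]
    rcases mul_eq_zero.1 (show omega (ψ : C → ℂ) (emb Z (ga fun _ : Z => (Nat.card Z : ℂ)⁻¹))
        * (omega (ψ : C → ℂ) (emb Z (ga fun _ : Z => (Nat.card Z : ℂ)⁻¹)) - 1) = 0 by
      rw [mul_sub, ← h2, mul_one, sub_self]) with h3 | h3
    · rw [h3, mul_zero, zero_mul]; exact lr_zero hM
    rw [sub_eq_zero.1 h3, mul_one]
    -- the defect group of the block of `ψ` lies in `Z`
    have hbψ : Cfsg.IsPBlock M (Cfsg.blockOf M (ψ : C → ℂ)) := ⟨ψ, rfl⟩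
    obtain ⟨Db, hDb⟩ := exists_defectGroup hM hbψ
    obtain ⟨v, hv, hvD⟩ := isDefectGroup_iff.1 hDb
    obtain ⟨c', hc', hc''⟩ := exists_coeff_commute hM hbψ (self_mem_blockOf hM ψ) htc hti hψ
      hv.2.1 hvD.2.1 (mem_centralizer_iff_le.2 hvD.1)
    rw [trunc_coeff, if_pos (SetLike.mem_coe.2 c'.2)] at hc''
    have hnorm : Db.map C.subtype ≤ Subgroup.normalizer (D : Set G) :=
      (Subgroup.map_subtype_le Db).trans (Subgroup.centralizer_le_normalizer (D : Set G))
    have hR : IsPGroup p (Db.map C.subtype ⊔ D : Subgroup G) :=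
      (hvD.2.1.map _).to_sup_of_normal_right' hDp hnorm
    have hRc : (Db.map C.subtype ⊔ D : Subgroup G) ≤ Subgroup.centralizer ({(c' : G)} : Set G) := by
      refine sup_le ?_ fun q hq => Subgroup.mem_centralizer_singleton_iff.2
        (Subgroup.mem_centralizer_iff.1 c'.2 q hq)
      rintro _ ⟨d, hd, rfl⟩
      exact Subgroup.mem_centralizer_singleton_iff.2
        (congrArg Subtype.val (Subgroup.mem_centralizer_iff.1 hc' d hd))
    obtain ⟨y, hy⟩ := cj_le_defect hM hB hD hc'' hR hRc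
    have h4 := eq_of_le_of_card_le' (show D ≤ Db.map C.subtype ⊔ D from le_sup_right)
      (by rw [← card_cj y]; exact Subgroup.card_le_of_le hy)
    have hle : Db ≤ Z := fun d hd =>
      h4.ge ((le_sup_left : Db.map C.subtype ≤ _) (Subgroup.mem_map_of_mem _ hd))
    have h5 := le_degree_factorization hM hv (self_mem_blockOf hM ψ)
    have h6 : (Nat.card (Subgroup.centralizer ({v} : Set C))).factorization p
        ≤ (Nat.card Z).factorization p := by
      have h7 : Nat.card Db ∣ Nat.card Z := Subgroup.card_dvd_of_le hle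
      rw [maxP_card_eq hvD] at h7
      exact (hM.1.pow_dvd_iff_le_factorization Nat.card_pos.ne').1 h7
    show Cfsg.MemLocalRing M ((Nat.card Z : ℂ) * Cfsg.blockCoeff _ c)
    rw [Cfsg.blockCoeff, finsum_mem_singleton, (irr_charDegree ψ).1, ← mul_assoc, ← mul_assoc]
    refine lr_mul hM ?_ ((mem_locRing hM).1 (algInt_mem_locRing hM ?_))
    · have h8 : (Nat.card Z : ℂ) * (Nat.card C : ℂ)⁻¹ * (Cfsg.charDegree (ψ : C → ℂ) : ℂ)
          = ((Nat.card Z * Cfsg.charDegree (ψ : C → ℂ) : ℕ) : ℂ) / (Nat.card C : ℂ) := by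
        push_cast; ring
      rw [h8]
      refine natCast_div_lr hM (mul_ne_zero Nat.card_pos.ne' (irr_charDegree ψ).2) Nat.card_pos.ne' ?_
      rw [Nat.factorization_mul Nat.card_pos.ne' (irr_charDegree ψ).2, Finsupp.add_apply]
      omega
    · rw [← Char.irr_apply_inv]
      exact Char.isCharacter_isIntegral (Char.isCharacter_of_isIrrCharacter ψ.2) _
  have h1 := li_add hM (LiEq.mul hM hxE (LiEq.refl hM S) hx'i hSi ⟨w, hw⟩) (hkey ⟨w, hw⟩)
  rw [sub_add_cancel] at h1
  have h9 : (x' * S).coeff ⟨w, hw⟩ = x.coeff w := by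
    rw [coeff_mul_sum, Finset.sum_eq_single (⟨w, hw⟩ : C)]
    · rw [inv_mul_cancel, hScoeff, if_pos (Subgroup.one_mem _), mul_one, hx', trunc_coeff,
        if_pos (SetLike.mem_coe.2 hw)]
    · intro g _ hg
      rw [hScoeff]
      split_ifs with hgz
      · rw [mul_one, hx', trunc_coeff, if_pos (SetLike.mem_coe.2 g.2), hxr]
        have hzD : (g : G)⁻¹ * w ∈ D := hgz
        obtain ⟨k, hk⟩ := IsPGroup.iff_orderOf.1 hDp ⟨_, D.inv_mem hzD⟩
        rw [Subgroup.orderOf_mk] at hk
        have hcz : Commute ((g : G)⁻¹ * w)⁻¹ w :=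
          Commute.inv_left (Subgroup.mem_centralizer_iff.1 hw _ hzD)
        refine (dvd_orderOf_iff_pPart_ne_one hM.1 (x := ((g : G)⁻¹ * w)⁻¹)
          ⟨w, ?_, hcz, ⟨k, hk⟩, hwr⟩).2 ?_
        · rw [hcz.eq]; group
        · intro h
          refine hg (Subtype.ext ?_)
          exact inv_mul_eq_one.1 (inv_eq_one.1 h)
      · rw [mul_zero]
    · intro h; exact absurd (Finset.mem_univ _) h
  rwa [h9] at h1

/-- The conjugate of a character restricted to `p`-regular elements. -/
noncomputable def regElt (p : ℕ) (η : G → ℂ) : MonoidAlgebra ℂ G :=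
  ga fun g => if p ∣ orderOf g then 0 else η g⁻¹

theorem isCentral_regElt (p : ℕ) {η : G → ℂ} (hη : Cfsg.IsClassFunction G η) :
    IsCentral (regElt p η) := by
  intro g x
  simp only [regElt, coeff_ga]
  have h1 : orderOf (x * g * x⁻¹) = orderOf g := by
    rw [← orderOf_injective (MulAut.conj x).toMonoidHom (MulAut.conj x).injective g]; simp
  rw [h1, show (x * g * x⁻¹)⁻¹ = x * g⁻¹ * x⁻¹ by group, hη g⁻¹ x]

theorem regElt_mem (hM : Cfsg.IsPModular p M) {η : G → ℂ} (hη : Cfsg.IsCharacter G η) :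
    regElt p η ∈ intAlg hM G := by
  intro g
  simp only [regElt, coeff_ga]
  split_ifs
  · exact lr_zero hM
  · exact (mem_locRing hM).1 (algInt_mem_locRing hM (Char.isCharacter_isIntegral hη _))

theorem ev_regElt_symm [Fintype G] (p : ℕ) (η ξ : G → ℂ) :
    ev ξ (regElt p η) = ev η (regElt p ξ) := by
  simp only [ev, regElt, coeff_ga]
  refine Fintype.sum_equiv (Equiv.inv G) _ _ fun g => ?_
  simp only [Equiv.inv_apply, orderOf_inv, inv_inv]
  split_ifs <;> ring

theorem omega_regElt_eq_zero (hM : Cfsg.IsPModular p M) [Fintype G] {η ξ : Cfsg.IrrCharacter G}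
    (h : ¬ Cfsg.SameBlock M (η : G → ℂ) (ξ : G → ℂ)) :
    omega (ξ : G → ℂ) (regElt p (η : G → ℂ)) = 0 := by
  classical
  let B : Set (Cfsg.IrrCharacter G) := Cfsg.blockOf M (η : G → ℂ)
  have hB : Cfsg.IsPBlock M B := ⟨η, rfl⟩
  let R : Finset G := Finset.univ.filter fun x => ¬ p ∣ orderOf x
  let c : Cfsg.IrrCharacter G → ℂ := fun θ => ∑ x ∈ R, (ξ : G → ℂ) x * conj ((θ : G → ℂ) x)
  have horth : ∀ θ ∈ B, ∑ x, (θ : G → ℂ) x * conj ((ξ : G → ℂ) x) = 0 := by
    intro θ hθ
    have h1 := Char.classInner_irr θ ξ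
    rw [if_neg (fun e : θ = ξ => h (show Cfsg.SameBlock M _ _ from e ▸ hθ)), Cfsg.classInner, mul_eq_zero] at h1
    exact h1.resolve_left (inv_ne_zero (by exact_mod_cast Nat.card_pos.ne'))
  have hzero : ∀ s ∈ R, ∑ θ ∈ B.toFinite.toFinset, conj (c θ) * conj ((θ : G → ℂ) s) = 0 := by
    intro s hs
    have hsum : ∀ θ : Cfsg.IrrCharacter G, conj (c θ) * conj ((θ : G → ℂ) s)
        = ∑ x ∈ R, conj ((ξ : G → ℂ) x) * ((θ : G → ℂ) x * conj ((θ : G → ℂ) s)) := fun θ => by
      simp only [c, map_sum, map_mul, Complex.conj_conj, Finset.sum_mul, mul_assoc]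
    simp only [hsum]
    rw [Finset.sum_comm]
    calc ∑ x ∈ R, ∑ θ ∈ B.toFinite.toFinset,
          conj ((ξ : G → ℂ) x) * ((θ : G → ℂ) x * conj ((θ : G → ℂ) s))
        = ∑ x, ∑ θ ∈ B.toFinite.toFinset,
          conj ((ξ : G → ℂ) x) * ((θ : G → ℂ) x * conj ((θ : G → ℂ) s)) := by
          refine Finset.sum_subset (Finset.subset_univ _) fun x _ hx => ?_
          rw [← Finset.mul_sum, sum_eq_zero_of_singular hM (idem_block_mem hM hB) (by
            simpa [R] using hx) (by simpa [R] using hs), mul_zero]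
      _ = ∑ θ ∈ B.toFinite.toFinset, conj ((θ : G → ℂ) s) *
          ∑ x, (θ : G → ℂ) x * conj ((ξ : G → ℂ) x) := by
          rw [Finset.sum_comm]
          refine Finset.sum_congr rfl fun θ _ => ?_
          rw [Finset.mul_sum]
          exact Finset.sum_congr rfl fun x _ => by ring
      _ = 0 := Finset.sum_eq_zero fun θ hθ => by
          rw [horth θ (B.toFinite.mem_toFinset.1 hθ), mul_zero]
  have hsq : ∑ θ ∈ B.toFinite.toFinset, conj (c θ) * c θ = 0 := by
    calc ∑ θ ∈ B.toFinite.toFinset, conj (c θ) * c θ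
        = ∑ s ∈ R, (ξ : G → ℂ) s *
            ∑ θ ∈ B.toFinite.toFinset, conj (c θ) * conj ((θ : G → ℂ) s) := by
          simp only [Finset.mul_sum]
          rw [Finset.sum_comm]
          refine Finset.sum_congr rfl fun θ _ => ?_
          rw [show c θ = ∑ s ∈ R, (ξ : G → ℂ) s * conj ((θ : G → ℂ) s) from rfl, Finset.mul_sum]
          exact Finset.sum_congr rfl fun x _ => by ring
      _ = 0 := Finset.sum_eq_zero fun s hs => by rw [hzero s hs, mul_zero]
  have hreal : ∑ θ ∈ B.toFinite.toFinset, Complex.normSq (c θ) = 0 := by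
    have h1 : ((∑ θ ∈ B.toFinite.toFinset, Complex.normSq (c θ) : ℝ) : ℂ) = 0 := by
      push_cast [Complex.normSq_eq_conj_mul_self]
      exact hsq
    exact_mod_cast h1
  have hcη : c η = 0 := Complex.normSq_eq_zero.1
    ((Finset.sum_eq_zero_iff_of_nonneg fun θ _ => Complex.normSq_nonneg _).1 hreal η
      (B.toFinite.mem_toFinset.2 (self_mem_blockOf hM η)))
  have h2 : ev (ξ : G → ℂ) (regElt p (η : G → ℂ)) = c η := by
    simp only [ev, regElt, coeff_ga, c, R, Finset.sum_filter]
    refine Finset.sum_congr rfl fun x _ => ?_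
    by_cases hx : p ∣ orderOf x
    · simp [hx]
    · simp [hx, Char.irr_apply_inv, mul_comm]
  rw [omega, h2, hcη, zero_div]

theorem regElt_mul_idem (hM : Cfsg.IsPModular p M) [Fintype G] {B : Set (Cfsg.IrrCharacter G)}
    (hB : Cfsg.IsPBlock M B) {η : Cfsg.IrrCharacter G} (hη : η ∈ B) :
    regElt p (η : G → ℂ) * idem B = regElt p (η : G → ℂ) := by
  classical
  have hc := isCentral_regElt p (Char.irr_isClassFunction η)
  refine (hc.mul (isCentral_idem B)).eq_of_omega hc fun θ => ?_
  rw [omega_mul θ hc, omega_idem]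
  split_ifs with hθ
  · rw [mul_one]
  · rw [mul_zero, omega_regElt_eq_zero hM fun h => hθ (by
      rw [block_eq_blockOf hM hB hη]; exact h)]

/-- The pairing of a height zero character with its block is a unit. -/
theorem not_li_omega_regElt (hM : Cfsg.IsPModular p M) [Fintype G]
    {B : Set (Cfsg.IrrCharacter G)} (hB : Cfsg.IsPBlock M B) {χ : Cfsg.IrrCharacter G}
    (hχ : χ ∈ B) (h0 : Cfsg.blockHeight p B (χ : G → ℂ) = 0) {ξ : Cfsg.IrrCharacter G}
    (hξ : ξ ∈ B) : ¬ Cfsg.MemLocalIdeal M (omega (ξ : G → ℂ) (regElt p (χ : G → ℂ))) := by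
  classical
  intro hl
  obtain ⟨D, hD⟩ := exists_defectGroup hM hB
  obtain ⟨w, hw, hwD⟩ := isDefectGroup_iff.1 hD
  have hc := isCentral_regElt p (Char.irr_isClassFunction χ)
  have hi := regElt_mem hM (Char.isCharacter_of_isIrrCharacter χ.2)
  have hall : ∀ θ : Cfsg.IrrCharacter G,
      Cfsg.MemLocalIdeal M (omega (θ : G → ℂ) (regElt p (χ : G → ℂ))) := by
    intro θ
    by_cases hθ : θ ∈ B
    · have h1 := li_add hM (li_omega_sub hM (sameBlock_of_mem hM hB hθ hξ) hc hi) hl
      rwa [sub_add_cancel] at h1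
    · rw [omega_regElt_eq_zero hM fun h => hθ (by rw [block_eq_blockOf hM hB hχ]; exact h)]
      exact li_zero hM
  have hwr := not_dvd_orderOf_of_blockCoeff hM hB hw.2.1
  have h2 := li_coeff_of_omega_li hM hB hD hc hi
    (fun g hg => by simp [regElt, hg]) (regElt_mul_idem hM hB hχ) hall
    ((Subgroup.centralizer (D : Set G)).inv_mem (mem_centralizer_iff_le.2 hwD.1))
    (by rwa [orderOf_inv])
  simp only [regElt, coeff_ga, orderOf_inv, if_neg hwr, inv_inv] at h2
  refine not_li_apply_mul_defectClass hM hB hw (x := (1 : G)) (k := 0) (by simp)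
    (Commute.one_left w) hχ h0 ?_
  rwa [one_mul]

/-- Positive height characters pair into the local ideal. -/
theorem li_omega_regElt_of_height (hM : Cfsg.IsPModular p M) [Fintype G]
    {B : Set (Cfsg.IrrCharacter G)} (hB : Cfsg.IsPBlock M B) {η : Cfsg.IrrCharacter G}
    (hη : η ∈ B) (h0 : Cfsg.blockHeight p B (η : G → ℂ) ≠ 0) {ξ : Cfsg.IrrCharacter G}
    (hξ : ξ ∈ B) : Cfsg.MemLocalIdeal M (omega (ξ : G → ℂ) (regElt p (η : G → ℂ))) := by
  obtain ⟨w, hw⟩ := exists_defectClass hM hB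
  obtain ⟨χ, hχ, hle⟩ := exists_degree_factorization_le hM hB hw
  have hη' := le_degree_factorization hM hw hη
  have hne : (Cfsg.charDegree (η : G → ℂ)).factorization p ≠ (Nat.card G).factorization p
      - (Nat.card (Subgroup.centralizer ({w} : Set G))).factorization p :=
    fun h => h0 ((blockHeight_zero_iff hM hB hw hη).2 h)
  have hc := isCentral_regElt p (Char.irr_isClassFunction η)
  have hi := regElt_mem hM (Char.isCharacter_of_isIrrCharacter η.2)
  have h1 : Cfsg.MemLocalIdeal M (omega (χ : G → ℂ) (regElt p (η : G → ℂ))) := by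
    have h2 : omega (χ : G → ℂ) (regElt p (η : G → ℂ))
        = ((Cfsg.charDegree (η : G → ℂ) : ℂ) / (Cfsg.charDegree (χ : G → ℂ) : ℂ))
          * omega (η : G → ℂ) (regElt p (χ : G → ℂ)) := by
      rw [omega, omega, ev_regElt_symm, ← (irr_charDegree η).1, ← (irr_charDegree χ).1]
      field_simp [Char.irr_one_ne_zero η, Char.irr_one_ne_zero χ]
    rw [h2]
    refine li_mul hM (natCast_div_li hM (irr_charDegree η).2 (irr_charDegree χ).2 (by omega)) ?_
    exact omega_lr hM η (isCentral_regElt p (Char.irr_isClassFunction χ))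
      (regElt_mem hM (Char.isCharacter_of_isIrrCharacter χ.2))
  have h3 := li_add hM (li_omega_sub hM (sameBlock_of_mem hM hB hξ hχ) hc hi) h1
  rwa [sub_add_cancel] at h3

theorem trunc_regElt (H : Subgroup G) [Fintype H] (η : G → ℂ) :
    trunc H Set.univ (regElt p η) = regElt p (fun h : H => η h) := by
  classical
  refine ext_coeff fun h => ?_
  rw [trunc_coeff, if_pos (Set.mem_univ _)]
  simp only [regElt, coeff_ga, Subgroup.coe_inv, Subgroup.orderOf_coe]

/-- The induced central character agrees on all central elements. -/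
theorem li_induced_sub (hM : Cfsg.IsPModular p M) [Fintype G] {H : Subgroup G} [Fintype H]
    {b : Set (Cfsg.IrrCharacter H)} {B : Set (Cfsg.IrrCharacter G)}
    (hind : Cfsg.IsInducedBlock M H b B) {ξ : Cfsg.IrrCharacter H} (hξ : ξ ∈ b)
    {χ : Cfsg.IrrCharacter G} (hχ : χ ∈ B) {a : MonoidAlgebra ℂ G} (ha : IsCentral a)
    (hai : a ∈ intAlg hM G) : Cfsg.MemLocalIdeal M
      (omega (ξ : H → ℂ) (trunc H Set.univ a) - omega (χ : G → ℂ) a) :=
  li_trunc_sub_omega hM hind hξ hχ ha hai

/-- Okuyama's criterion. -/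
theorem okuyama (hM : Cfsg.IsPModular p M) [Fintype G] {H : Subgroup G} [Fintype H]
    {χ : Cfsg.IrrCharacter G} {ψ : Cfsg.IrrCharacter H}
    (hψ : (ψ : H → ℂ) = fun h : H => (χ : G → ℂ) h)
    (hχ0 : ¬ Cfsg.MemLocalIdeal M (omega (χ : G → ℂ) (regElt p (χ : G → ℂ))))
    (hψ0 : ¬ Cfsg.MemLocalIdeal M (omega (ψ : H → ℂ) (regElt p (ψ : H → ℂ))))
    {e : Set (Cfsg.IrrCharacter H)} (he : Cfsg.InducedBlockDefined M H e) :
    Cfsg.IsInducedBlock M H e (Cfsg.blockOf M (χ : G → ℂ))
      ↔ e = Cfsg.blockOf M (ψ : H → ℂ) := by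
  have hc := isCentral_regElt p (Char.irr_isClassFunction χ)
  have hi := regElt_mem hM (p := p) (Char.isCharacter_of_isIrrCharacter χ.2)
  have htr : trunc H Set.univ (regElt p (χ : G → ℂ)) = regElt p (ψ : H → ℂ) := by
    rw [trunc_regElt, hψ]
  constructor
  · intro h
    obtain ⟨ξ, hξ⟩ := block_nonempty hM h.1
    have h1 := li_induced_sub hM h hξ (self_mem_blockOf hM χ) hc hi
    rw [htr] at h1
    by_cases hb : Cfsg.SameBlock M (ψ : H → ℂ) (ξ : H → ℂ)
    · rw [block_eq_blockOf hM h.1 hξ]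
      exact (blockOf_eq_of_sameBlock hM hb).symm
    · rw [omega_regElt_eq_zero hM hb, zero_sub] at h1
      exact absurd (by simpa using li_neg h1) hχ0
  · rintro rfl
    obtain ⟨B, hB⟩ := he
    obtain ⟨χ', hχ'⟩ := block_nonempty hM hB.2.1
    have h1 := li_induced_sub hM hB (self_mem_blockOf hM ψ) hχ' hc hi
    rw [htr] at h1
    by_cases hb : Cfsg.SameBlock M (χ : G → ℂ) (χ' : G → ℂ)
    · rw [blockOf_eq_of_sameBlock hM hb, ← block_eq_blockOf hM hB.2.1 hχ']
      exact hB
    · rw [omega_regElt_eq_zero hM hb, sub_zero] at h1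
      exact absurd h1 hψ0

end Cfsg.Agent.Blocks
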