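import Cfsg.Agent.Blocks.GroupAlgebra

/-!
Block idempotents over the local ring.
-/

set_option autoImplicit false
set_option linter.all false

open scoped ComplexConjugate
open Polynomial Module

namespace Cfsg.Agent.Blocks

universe u

variable {p : ℕ} {M : Ideal Cfsg.AlgInt} {G : Type u} [Group G]

local notation "ℂG" => MonoidAlgebra ℂ G

/-- Idempotents separating roots lying in different residue classes. -/
theorem exists_idem_poly {R : Type*} [CommRing R] {A : Type*} [Ring A] [Algebra R A] {ι : Type*}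
    (s t : Finset ι) (r : ι → R) (hu : ∀ i ∈ s, ∀ j ∈ t, IsUnit (r i - r j)) (a : A)
    (ha : aeval a ((∏ i ∈ s, (X - C (r i))) * ∏ i ∈ t, (X - C (r i))) = 0) :
    ∃ q : R[X], aeval a q * aeval a q = aeval a q ∧ (∀ i ∈ s, q.eval (r i) = 1) ∧
      ∀ j ∈ t, q.eval (r j) = 0 := by
  have hco : IsCoprime (∏ i ∈ s, (X - C (r i))) (∏ i ∈ t, (X - C (r i))) :=
    IsCoprime.prod_left fun i hi => IsCoprime.prod_right fun j hj =>
      Polynomial.isCoprime_X_sub_C_of_isUnit_sub (hu i hi j hj)
  obtain ⟨u, v, huv⟩ := hco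
  set F := ∏ i ∈ s, (X - C (r i)) with hF
  set T := ∏ i ∈ t, (X - C (r i)) with hT
  refine ⟨v * T, ?_, fun i hi => ?_, fun j hj => ?_⟩
  · have h0 : (v * T) * (v * T) - v * T = -((u * v) * (F * T)) := by
      linear_combination (v * T) * huv
    rw [← map_mul, ← sub_eq_zero, ← map_sub, h0, map_neg, map_mul, ha, mul_zero, neg_zero]
  · have h1 := congrArg (Polynomial.eval (r i)) huv
    have h0 : F.eval (r i) = 0 := by
      rw [hF, eval_prod]; exact Finset.prod_eq_zero hi (by simp)
    simp only [eval_add, eval_mul, eval_one, h0, mul_zero, zero_add] at h1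
    rw [eval_mul, h1]
  · rw [eval_mul, hT, eval_prod, Finset.prod_eq_zero hj (by simp), mul_zero]

variable [Finite G]

instance finite_conjClasses : Finite (ConjClasses G) :=
  Finite.of_surjective _ ConjClasses.mk_surjective

/-- Elements with coefficients in the local ring. -/
def intAlg (hM : Cfsg.IsPModular p M) (G : Type u) [Group G] [Finite G] :
    Subalgebra (locRing hM) (MonoidAlgebra ℂ G) where
  carrier := {a | ∀ g, Cfsg.MemLocalRing M (a.coeff g)}
  mul_mem' := by
    intro a b ha hb g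
    haveI := Fintype.ofFinite G
    rw [coeff_mul_sum]
    exact lr_sum hM _ fun x _ => lr_mul hM (ha x) (hb _)
  one_mem' := by
    classical
    intro g
    simp only [MonoidAlgebra.one_def, MonoidAlgebra.coeff_single, Finsupp.single_apply]
    split_ifs
    · exact lr_one hM
    · exact lr_zero hM
  add_mem' := fun ha hb g => by simpa using lr_add hM (ha g) (hb g)
  zero_mem' := fun g => by simpa using lr_zero hM
  algebraMap_mem' := by
    classical
    intro r g
    rw [Algebra.algebraMap_eq_smul_one]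
    rw [MonoidAlgebra.coeff_smul_apply, MonoidAlgebra.one_def, MonoidAlgebra.coeff_single,
      Finsupp.single_apply, Subring.smul_def, smul_eq_mul]
    split_ifs
    · rw [mul_one]; exact r.2
    · rw [mul_zero]; exact lr_zero hM

theorem mem_intAlg (hM : Cfsg.IsPModular p M) {a : ℂG} :
    a ∈ intAlg hM G ↔ ∀ g, Cfsg.MemLocalRing M (a.coeff g) := Iff.rfl

theorem classSum_mem (hM : Cfsg.IsPModular p M) (g : G) : classSum g ∈ intAlg hM G := by
  classical
  intro x
  rw [classSum_apply]
  split_ifs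
  · exact lr_one hM
  · exact lr_zero hM

theorem omega_lr (hM : Cfsg.IsPModular p M) [Fintype G] (χ : Cfsg.IrrCharacter G) {a : ℂG}
    (ha : IsCentral a) (hai : a ∈ intAlg hM G) : Cfsg.MemLocalRing M (omega (χ : G → ℂ) a) := by
  classical
  haveI := Fintype.ofFinite (ConjClasses G)
  rw [omega, ev, ha.sum_mul_eq, Finset.sum_div]
  refine lr_sum hM _ fun C _ => ?_
  rw [mul_div_assoc]
  refine lr_mul hM (hai _) ?_
  rw [show (∑ g : G, (classSum C.out).coeff g * (χ : G → ℂ) g) / (χ : G → ℂ) 1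
      = omega (χ : G → ℂ) (classSum C.out) from rfl, omega_classSum (Char.irr_isClassFunction χ)]
  exact algInt_mem_locRing hM (isIntegral_centralChar χ _)

theorem li_omega_sub (hM : Cfsg.IsPModular p M) [Fintype G] {χ ψ : Cfsg.IrrCharacter G}
    (h : Cfsg.SameBlock M (χ : G → ℂ) (ψ : G → ℂ)) {a : ℂG}
    (ha : IsCentral a) (hai : a ∈ intAlg hM G) :
    Cfsg.MemLocalIdeal M (omega (χ : G → ℂ) a - omega (ψ : G → ℂ) a) := by
  classical
  haveI := Fintype.ofFinite (ConjClasses G)
  simp only [omega, ev, ha.sum_mul_eq, Finset.sum_div, ← Finset.sum_sub_distrib]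
  refine li_sum hM _ fun C _ => ?_
  rw [mul_div_assoc, mul_div_assoc, ← mul_sub]
  refine li_mul_left hM (hai _) ?_
  have h1 := h C.out
  rw [← omega_classSum (Char.irr_isClassFunction χ), ← omega_classSum (Char.irr_isClassFunction ψ)] at h1
  exact h1

theorem aeval_isCentral {R : Type*} [CommRing R] [Algebra R ℂ] [Algebra R ℂG]
    [IsScalarTower R ℂ ℂG] {a : ℂG} (ha : IsCentral a) (q : R[X]) : IsCentral (aeval a q) := by
  induction q using Polynomial.induction_on' with
  | add f g hf hg => rw [map_add]; exact hf.add hg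
  | monomial n r =>
    rw [aeval_monomial]
    have hpow : IsCentral (a ^ n) := by
      induction n with
      | zero => rw [pow_zero]; exact isCentral_one
      | succ n ih => rw [pow_succ]; exact ih.mul ha
    rw [IsScalarTower.algebraMap_apply R ℂ ℂG, ← Algebra.smul_def]
    exact hpow.smul _

theorem omega_aeval {R : Type*} [CommRing R] [Algebra R ℂ] [Algebra R ℂG]
    [IsScalarTower R ℂ ℂG] [Fintype G] (χ : Cfsg.IrrCharacter G) {a : ℂG} (ha : IsCentral a)
    (q : R[X]) : omega (χ : G → ℂ) (aeval a q) = aeval (omega (χ : G → ℂ) a) q := by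
  induction q using Polynomial.induction_on' with
  | add f g hf hg => rw [map_add, omega_add, hf, hg, map_add]
  | monomial n r =>
    rw [aeval_monomial, aeval_monomial, IsScalarTower.algebraMap_apply R ℂ ℂG, ← Algebra.smul_def,
      omega_smul, omega_pow χ ha]

/-- The idempotent of a set of irreducible characters. -/
noncomputable def idem (B : Set (Cfsg.IrrCharacter G)) : MonoidAlgebra ℂ G := ga (Cfsg.blockCoeff B)

theorem isCentral_idem (B : Set (Cfsg.IrrCharacter G)) : IsCentral (idem B) := by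
  intro g x
  simp only [idem, coeff_ga, Cfsg.blockCoeff]
  congr 1
  exact finsum_mem_congr rfl fun χ _ => by rw [Char.irr_isClassFunction χ g x]

open scoped Classical in
theorem omega_idem [Fintype G] (B : Set (Cfsg.IrrCharacter G)) (χ : Cfsg.IrrCharacter G) :
    omega (χ : G → ℂ) (idem B) = if χ ∈ B then 1 else 0 := by
  have h1 : ev (χ : G → ℂ) (idem B) = ∑ ψ ∈ B.toFinite.toFinset,
      (ψ : G → ℂ) 1 * Cfsg.classInner (χ : G → ℂ) (ψ : G → ℂ) := by
    simp only [ev, idem, coeff_ga, Cfsg.blockCoeff, finsum_mem_eq_finite_toFinset_sum _ B.toFinite,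
      Finset.mul_sum, Finset.sum_mul, Cfsg.classInner]
    rw [Finset.sum_comm]
    refine Finset.sum_congr rfl fun ψ _ => Finset.sum_congr rfl fun g _ => by ring
  rw [omega, h1]
  simp only [Char.classInner_irr, mul_ite, mul_one, mul_zero, Finset.sum_ite_eq,
    Set.Finite.mem_toFinset]
  split_ifs with h
  · exact div_self (Char.irr_one_ne_zero χ)
  · exact zero_div _

theorem idem_univ [Fintype G] : idem (Set.univ : Set (Cfsg.IrrCharacter G)) = 1 :=
  (isCentral_idem _).eq_of_omega isCentral_one fun χ => by classical simp [omega_idem, omega_one]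

theorem idem_inter [Fintype G] (A B : Set (Cfsg.IrrCharacter G)) :
    idem (A ∩ B) = idem A * idem B :=
  (isCentral_idem _).eq_of_omega ((isCentral_idem A).mul (isCentral_idem B)) fun χ => by
    classical
    rw [omega_mul χ (isCentral_idem A), omega_idem, omega_idem, omega_idem]
    by_cases hA : χ ∈ A <;> by_cases hB : χ ∈ B <;> simp [hA, hB]

theorem idem_union [Fintype G] {A B : Set (Cfsg.IrrCharacter G)} (h : Disjoint A B) :
    idem (A ∪ B) = idem A + idem B :=
  (isCentral_idem _).eq_of_omega ((isCentral_idem A).add (isCentral_idem B)) fun χ => by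
    classical
    rw [omega_add, omega_idem, omega_idem, omega_idem]
    by_cases hA : χ ∈ A
    · simp [hA, Set.disjoint_left.1 h hA]
    · by_cases hB : χ ∈ B <;> simp [hA, hB]

/-- Splitting off the characters whose value on a central integral element has given residue. -/
theorem idem_residue_mem (hM : Cfsg.IsPModular p M) [Fintype G] {a : ℂG} (ha : IsCentral a)
    (hai : a ∈ intAlg hM G) (c : ℂ) (hc : Cfsg.MemLocalRing M c) :
    idem {χ : Cfsg.IrrCharacter G | Cfsg.MemLocalIdeal M (c - omega (χ : G → ℂ) a)}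
      ∈ intAlg hM G := by
  classical
  set S : Set (Cfsg.IrrCharacter G) :=
    {χ | Cfsg.MemLocalIdeal M (c - omega (χ : G → ℂ) a)}
  let r : Cfsg.IrrCharacter G → locRing hM := fun χ => ⟨omega (χ : G → ℂ) a, omega_lr hM χ ha hai⟩
  have hu : ∀ i ∈ S.toFinite.toFinset, ∀ j ∈ (Sᶜ).toFinite.toFinset, IsUnit (r i - r j) := by
    intro i hi j hj
    rw [Set.Finite.mem_toFinset] at hi hj
    refine isUnit_of_not_li hM _ fun hlt => hj ?_
    have := li_add hM hi hlt
    simpa [r, S] using this
  have hz : aeval a ((∏ i ∈ S.toFinite.toFinset, (X - C (r i))) *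
      ∏ i ∈ (Sᶜ).toFinite.toFinset, (X - C (r i))) = 0 := by
    refine (aeval_isCentral ha _).eq_zero fun χ => ?_
    rw [omega_aeval χ ha, map_mul, map_prod, map_prod]
    by_cases hχ : χ ∈ S
    · rw [Finset.prod_eq_zero (Set.Finite.mem_toFinset _ |>.2 hχ), zero_mul]
      rw [map_sub, aeval_X, aeval_C]; exact sub_self _
    · rw [mul_comm, Finset.prod_eq_zero (Set.Finite.mem_toFinset _ |>.2 hχ), zero_mul]
      rw [map_sub, aeval_X, aeval_C]; exact sub_self _
  obtain ⟨q, -, hq1, hq0⟩ := exists_idem_poly _ _ r hu a hz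
  have heq : idem S = aeval a q := by
    refine (isCentral_idem S).eq_of_omega (aeval_isCentral ha q) fun χ => ?_
    rw [omega_aeval χ ha, omega_idem]
    have h2 : aeval (omega (χ : G → ℂ) a) q = ((q.eval (r χ) : locRing hM) : ℂ) :=
      Polynomial.aeval_algebraMap_apply ℂ (r χ) q
    rw [h2]
    by_cases hχ : χ ∈ S
    · rw [if_pos hχ, hq1 χ ((Set.Finite.mem_toFinset _).2 hχ)]; rfl
    · rw [if_neg hχ, hq0 χ ((Set.Finite.mem_toFinset _).2 hχ)]; rfl
  rw [heq]
  exact Algebra.adjoin_le (Set.singleton_subset_iff.2 hai) (Polynomial.aeval_mem_adjoin_singleton _ _)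

theorem sameBlock_refl (hM : Cfsg.IsPModular p M) (χ : G → ℂ) : Cfsg.SameBlock M χ χ :=
  fun g => by rw [sub_self]; exact li_zero hM

omit [Finite G] in
theorem sameBlock_symm {χ ψ : G → ℂ} (h : Cfsg.SameBlock M χ ψ) : Cfsg.SameBlock M ψ χ :=
  fun g => by simpa using li_neg (h g)

theorem sameBlock_trans (hM : Cfsg.IsPModular p M) {χ ψ θ : G → ℂ} (h : Cfsg.SameBlock M χ ψ)
    (h' : Cfsg.SameBlock M ψ θ) : Cfsg.SameBlock M χ θ :=
  fun g => by simpa using li_add hM (h g) (h' g)

theorem self_mem_blockOf (hM : Cfsg.IsPModular p M) (χ : Cfsg.IrrCharacter G) :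
    χ ∈ Cfsg.blockOf M (χ : G → ℂ) := sameBlock_refl hM _

theorem blockOf_eq_of_sameBlock (hM : Cfsg.IsPModular p M) {χ ψ : G → ℂ}
    (h : Cfsg.SameBlock M χ ψ) : Cfsg.blockOf M χ = Cfsg.blockOf M ψ :=
  Set.ext fun η => ⟨fun h' => sameBlock_trans hM (sameBlock_symm h) h',
    fun h' => sameBlock_trans hM h h'⟩

theorem block_eq_blockOf (hM : Cfsg.IsPModular p M) {B : Set (Cfsg.IrrCharacter G)}
    (hB : Cfsg.IsPBlock M B) {χ : Cfsg.IrrCharacter G} (hχ : χ ∈ B) :
    B = Cfsg.blockOf M (χ : G → ℂ) := by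
  obtain ⟨ψ, rfl⟩ := hB
  exact blockOf_eq_of_sameBlock hM hχ

theorem block_nonempty (hM : Cfsg.IsPModular p M) {B : Set (Cfsg.IrrCharacter G)}
    (hB : Cfsg.IsPBlock M B) : ∃ χ : Cfsg.IrrCharacter G, χ ∈ B := by
  obtain ⟨ψ, rfl⟩ := hB
  exact ⟨ψ, self_mem_blockOf hM ψ⟩

theorem sameBlock_of_mem (hM : Cfsg.IsPModular p M) {B : Set (Cfsg.IrrCharacter G)}
    (hB : Cfsg.IsPBlock M B) {χ ψ : Cfsg.IrrCharacter G} (hχ : χ ∈ B) (hψ : ψ ∈ B) :
    Cfsg.SameBlock M (χ : G → ℂ) (ψ : G → ℂ) := by
  rw [block_eq_blockOf hM hB hχ] at hψ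
  exact hψ

theorem disjoint_blocks (hM : Cfsg.IsPModular p M) {B B' : Set (Cfsg.IrrCharacter G)}
    (hB : Cfsg.IsPBlock M B) (hB' : Cfsg.IsPBlock M B') (hne : B ≠ B') : Disjoint B B' :=
  Set.disjoint_left.2 fun χ h h' => hne ((block_eq_blockOf hM hB h).trans (block_eq_blockOf hM hB' h').symm)

theorem idem_block_mem (hM : Cfsg.IsPModular p M) {B : Set (Cfsg.IrrCharacter G)}
    (hB : Cfsg.IsPBlock M B) : idem B ∈ intAlg hM G := by
  classical
  haveI := Fintype.ofFinite G
  obtain ⟨χ, rfl⟩ := hB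
  let S : G → Set (Cfsg.IrrCharacter G) := fun g =>
    {ψ | Cfsg.MemLocalIdeal M (Cfsg.centralChar (χ : G → ℂ) g - omega (ψ : G → ℂ) (classSum g))}
  have hS : ∀ g, idem (S g) ∈ intAlg hM G := fun g =>
    idem_residue_mem hM (isCentral_classSum g) (classSum_mem hM g) _
      (algInt_mem_locRing hM (isIntegral_centralChar χ g))
  have key : ∀ s : Finset G, idem {ψ | ∀ g ∈ s, ψ ∈ S g} ∈ intAlg hM G := by
    intro s
    induction s using Finset.induction with
    | empty =>
      simp only [Finset.notMem_empty, IsEmpty.forall_iff, implies_true, Set.setOf_true, idem_univ]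
      exact one_mem _
    | insert g s hg ih =>
      have : {ψ | ∀ x ∈ insert g s, ψ ∈ S x} = S g ∩ {ψ | ∀ x ∈ s, ψ ∈ S x} := by
        ext ψ; simp
      rw [this, idem_inter]
      exact mul_mem (hS g) ih
  have : Cfsg.blockOf M (χ : G → ℂ) = {ψ | ∀ g ∈ (Finset.univ : Finset G), ψ ∈ S g} := by
    ext ψ
    simp only [S, omega_classSum (Char.irr_isClassFunction _), Finset.mem_univ, forall_const]
    exact Iff.rfl
  rw [this]
  exact key _

/-- A union of blocks. -/
def IsBlockUnion (M : Ideal Cfsg.AlgInt) (A : Set (Cfsg.IrrCharacter G)) : Prop :=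
  ∀ χ ∈ A, Cfsg.blockOf M (χ : G → ℂ) ⊆ A

theorem idem_union_mem (hM : Cfsg.IsPModular p M) {A : Set (Cfsg.IrrCharacter G)}
    (hA : IsBlockUnion M A) : idem A ∈ intAlg hM G := by
  classical
  haveI := Fintype.ofFinite G
  suffices key : ∀ n, ∀ A : Set (Cfsg.IrrCharacter G), A.ncard = n → IsBlockUnion M A →
      idem A ∈ intAlg hM G from key _ A rfl hA
  intro n
  induction n using Nat.strong_induction_on with
  | _ n ih =>
    intro A hn hA
    rcases A.eq_empty_or_nonempty with rfl | ⟨χ, hχ⟩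
    · have : idem (∅ : Set (Cfsg.IrrCharacter G)) = 0 :=
        (isCentral_idem _).eq_of_omega isCentral_zero fun ψ => by simp [omega_idem, omega_zero]
      rw [this]; exact zero_mem _
    · set B := Cfsg.blockOf M (χ : G → ℂ)
      have hAB : A = B ∪ (A \ B) := (Set.union_diff_cancel (hA χ hχ)).symm
      rw [hAB, idem_union Set.disjoint_sdiff_right]
      refine add_mem (idem_block_mem hM ⟨χ, rfl⟩) (ih _ ?_ _ rfl ?_)
      · rw [← hn]
        exact Set.ncard_lt_ncard ⟨Set.diff_subset, fun h => (h hχ).2 (self_mem_blockOf hM χ)⟩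
          A.toFinite
      · intro ψ hψ η hη
        exact ⟨hA ψ hψ.1 hη, fun hηB => hψ.2 (sameBlock_trans hM hηB (sameBlock_symm hη))⟩

/-- A set whose idempotent is integral is a union of blocks. -/
theorem isBlockUnion_of_mem (hM : Cfsg.IsPModular p M) {A : Set (Cfsg.IrrCharacter G)}
    (hA : idem A ∈ intAlg hM G) : IsBlockUnion M A := by
  classical
  haveI := Fintype.ofFinite G
  intro χ hχ ψ hψ
  by_contra hc
  have := li_omega_sub hM hψ (isCentral_idem A) hA
  rw [omega_idem, omega_idem, if_pos hχ, if_neg hc, sub_zero] at this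
  exact not_li_one hM this

end Cfsg.Agent.Blocks
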