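import Cfsg.Agent.Blocks.WeakOrth

/-!
Idempotents killed by a Brauer map, and embeddings of subgroup algebras.
-/

set_option autoImplicit false
set_option linter.all false

open scoped ComplexConjugate

namespace Cfsg.Agent.Blocks

universe u

variable {p : ℕ} {M : Ideal Cfsg.AlgInt} {G : Type u} [Group G] [Finite G]

local notation "ℂG" => MonoidAlgebra ℂ G

local notation "⟪" g "⟫" => MonoidAlgebra.single g (1 : ℂ)

/-- Extension of an element of a subgroup algebra to the whole group. -/
noncomputable def emb (H : Subgroup G) (a : MonoidAlgebra ℂ H) : MonoidAlgebra ℂ G :=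
  ga (Cfsg.extendByZero H fun h => a.coeff h)

theorem emb_coe (H : Subgroup G) (a : MonoidAlgebra ℂ H) (h : H) :
    (emb H a).coeff (h : G) = a.coeff h := by
  simp only [emb, coeff_ga, Cfsg.extendByZero]
  exact Subtype.val_injective.extend_apply _ _ h

theorem emb_of_mem (H : Subgroup G) (a : MonoidAlgebra ℂ H) {g : G} (hg : g ∈ H) :
    (emb H a).coeff g = a.coeff ⟨g, hg⟩ :=
  emb_coe H a ⟨g, hg⟩

theorem emb_of_not_mem (H : Subgroup G) (a : MonoidAlgebra ℂ H) {g : G} (hg : g ∉ H) :
    (emb H a).coeff g = 0 := by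
  simp only [emb, coeff_ga, Cfsg.extendByZero]
  exact Function.extend_apply' _ _ _ (by rintro ⟨a, rfl⟩; exact hg a.2)

theorem sum_emb_mul [Fintype G] (H : Subgroup G) [Fintype H] (a : MonoidAlgebra ℂ H) (φ : G → ℂ) :
    ∑ g : G, (emb H a).coeff g * φ g = ∑ h : H, a.coeff h * φ h :=
  Char.sum_extendByZero_mul H (fun h => a.coeff h) φ

theorem emb_add (H : Subgroup G) (a b : MonoidAlgebra ℂ H) :
    emb H (a + b) = emb H a + emb H b := by
  refine ext_coeff fun g => ?_
  by_cases hg : g ∈ H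
  · simp [emb_of_mem, hg]
  · simp [emb_of_not_mem, hg]

theorem emb_smul (H : Subgroup G) (c : ℂ) (a : MonoidAlgebra ℂ H) :
    emb H (c • a) = c • emb H a := by
  refine ext_coeff fun g => ?_
  by_cases hg : g ∈ H
  · simp [emb_of_mem, hg]
  · simp [emb_of_not_mem, hg]

theorem emb_one (H : Subgroup G) : emb H (1 : MonoidAlgebra ℂ H) = 1 := by
  classical
  refine ext_coeff fun g => ?_
  by_cases hg : g ∈ H
  · simp only [emb_of_mem H _ hg, MonoidAlgebra.one_def, MonoidAlgebra.coeff_single,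
      Finsupp.single_apply]
    by_cases h1 : (1 : G) = g
    · subst h1; rw [if_pos rfl]; exact if_pos (Subtype.ext rfl)
    · rw [if_neg h1, if_neg fun h => h1 (congrArg Subtype.val h)]
  · have h1 : ¬ (1 : G) = g := fun h => hg (h ▸ H.one_mem)
    simp [emb_of_not_mem, hg, MonoidAlgebra.one_def, Finsupp.single_apply, h1]

theorem emb_mul (H : Subgroup G) (a b : MonoidAlgebra ℂ H) :
    emb H (a * b) = emb H a * emb H b := by
  haveI := Fintype.ofFinite G
  haveI := Fintype.ofFinite H
  refine ext_coeff fun g => ?_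
  rw [coeff_mul_sum, sum_emb_mul]
  by_cases hg : g ∈ H
  · rw [emb_of_mem H _ hg, coeff_mul_sum]
    refine Finset.sum_congr rfl fun h _ => ?_
    congr 1
    rw [emb_of_mem H b (H.mul_mem (H.inv_mem h.2) hg)]
    exact congrArg b.coeff (Subtype.ext rfl)
  · rw [emb_of_not_mem H _ hg, Finset.sum_eq_zero]
    intro h _
    rw [emb_of_not_mem H b, mul_zero]
    intro hh
    have := H.mul_mem h.2 hh
    rw [mul_inv_cancel_left] at this
    exact hg this

theorem emb_mem (hM : Cfsg.IsPModular p M) (H : Subgroup G) {a : MonoidAlgebra ℂ H}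
    (ha : a ∈ intAlg hM H) : emb H a ∈ intAlg hM G := by
  intro g
  by_cases hg : g ∈ H
  · rw [emb_of_mem H a hg]; exact ha _
  · rw [emb_of_not_mem H a hg]; exact lr_zero hM

theorem emb_conj_invariant {H : Subgroup G} {a : MonoidAlgebra ℂ H} (ha : IsCentral a) {x : G}
    (hx : x ∈ H) (g : G) : (emb H a).coeff (x * g * x⁻¹) = (emb H a).coeff g := by
  have hiff : x * g * x⁻¹ ∈ H ↔ g ∈ H :=
    ⟨fun h => by simpa [mul_assoc] using H.mul_mem (H.mul_mem (H.inv_mem hx) h) hx,
      fun h => H.mul_mem (H.mul_mem hx h) (H.inv_mem hx)⟩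
  by_cases hg : g ∈ H
  · rw [emb_of_mem H a hg, emb_of_mem H a (hiff.2 hg)]
    exact ha ⟨g, hg⟩ ⟨x, hx⟩
  · rw [emb_of_not_mem H a hg, emb_of_not_mem H a (mt hiff.1 hg)]

omit [Finite G] in
theorem commute_single_iff {a : ℂG} {u : G} :
    Commute a ⟪u⟫ ↔ ∀ g, a.coeff (u * g * u⁻¹) = a.coeff g := by
  constructor
  · intro h g
    have h1 := congrArg (fun c : ℂG => c.coeff (u * g)) h.eq
    simp only [MonoidAlgebra.coeff_mul_single_apply, MonoidAlgebra.coeff_single_mul_apply,
      inv_mul_cancel_left, mul_one, one_mul] at h1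
    exact h1
  · intro h
    refine MonoidAlgebra.coeffEquiv.injective (Finsupp.ext fun g => ?_)
    show (a * ⟪u⟫).coeff g = (⟪u⟫ * a).coeff g
    simp only [MonoidAlgebra.coeff_mul_single_apply, MonoidAlgebra.coeff_single_mul_apply, mul_one,
      one_mul]
    have := h (u⁻¹ * g)
    simpa [mul_assoc] using this

theorem emb_commute {H : Subgroup G} {a : MonoidAlgebra ℂ H} (ha : IsCentral a) {x : G}
    (hx : x ∈ H) : Commute (emb H a) ⟪x⟫ :=
  commute_single_iff.2 (emb_conj_invariant ha hx)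

theorem li_mul_coeff (hM : Cfsg.IsPModular p M) {a b : ℂG} (ha : a ∈ intAlg hM G)
    (hb : ∀ g, Cfsg.MemLocalIdeal M (b.coeff g)) (g : G) :
    Cfsg.MemLocalIdeal M ((a * b).coeff g) := by
  haveI := Fintype.ofFinite G
  rw [coeff_mul_sum]
  exact li_sum hM _ fun x _ => li_mul_left hM (ha x) (hb _)

theorem li_mul_coeff' (hM : Cfsg.IsPModular p M) {a b : ℂG}
    (ha : ∀ g, Cfsg.MemLocalIdeal M (a.coeff g)) (hb : b ∈ intAlg hM G) (g : G) :
    Cfsg.MemLocalIdeal M ((a * b).coeff g) := by
  haveI := Fintype.ofFinite G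
  rw [coeff_mul_sum]
  exact li_sum hM _ fun x _ => li_mul hM (ha x) (hb _)

/-- A central element which is idempotent modulo the local ideal and has all central characters
there vanishes modulo the local ideal. -/
theorem li_of_idem (hM : Cfsg.IsPModular p M) [Fintype G] {z : ℂG} (hz : IsCentral z)
    (hzi : z ∈ intAlg hM G) (hz2 : LiEq M (z * z) z)
    (h : ∀ ψ : Cfsg.IrrCharacter G, Cfsg.MemLocalIdeal M (omega (ψ : G → ℂ) z)) (g : G) :
    Cfsg.MemLocalIdeal M (z.coeff g) := by
  classical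
  have key : ∀ s : Finset (Cfsg.IrrCharacter G), ∃ b : ℂG, IsCentral b ∧ b ∈ intAlg hM G ∧
      (∀ η ∈ s, omega (η : G → ℂ) b = 0) ∧ (s = ∅ → b = 1) ∧ (s.Nonempty → LiEq M b z) := by
    intro s
    induction s using Finset.induction with
    | empty => exact ⟨1, isCentral_one, one_mem _, by simp, fun _ => rfl, by simp⟩
    | insert η s hη ih =>
      obtain ⟨b, hbc, hbi, hb0, hb1, hbz⟩ := ih
      set c := z - omega (η : G → ℂ) z • (1 : ℂG) with hc
      have hcc : IsCentral c := hz.sub (isCentral_one.smul _)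
      have hci : c ∈ intAlg hM G :=
        Subalgebra.sub_mem _ hzi (Subalgebra.smul_mem (intAlg hM G) (one_mem _)
          (⟨_, li_lr (h η)⟩ : locRing hM))
      have hcz : LiEq M c z := fun x => by
        rw [hc]
        simp only [MonoidAlgebra.coeff_sub, MonoidAlgebra.coeff_smul, Finsupp.sub_apply,
          Finsupp.smul_apply, smul_eq_mul, sub_sub_cancel_left]
        exact li_neg (li_mul hM (h η) (one_mem (intAlg hM G) x))
      refine ⟨c * b, hcc.mul hbc, mul_mem hci hbi, fun θ hθ => ?_,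
        fun he => absurd he (Finset.insert_ne_empty _ _), fun _ => ?_⟩
      · rw [omega_mul θ hcc]
        rcases Finset.mem_insert.1 hθ with rfl | hθ
        · rw [hc, omega_sub, omega_smul, omega_one, mul_one, sub_self, zero_mul]
        · rw [hb0 θ hθ, mul_zero]
      · rcases s.eq_empty_or_nonempty with hse | hse
        · rw [hb1 hse, mul_one]; exact hcz
        · exact LiEq.trans hM (LiEq.mul hM hcz (hbz hse) hci hzi) hz2
  obtain ⟨b, hbc, -, hb0, -, hbz⟩ := key Finset.univ
  have hb : b = 0 := hbc.eq_zero fun χ => hb0 χ (Finset.mem_univ _)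
  have h1 := hbz ⟨Char.oneIrr G, Finset.mem_univ _⟩ g
  rw [hb] at h1
  simpa using li_neg h1

/-- Products of idempotents killed by all central characters of a centralizer. -/
theorem li_mul_emb_of_omega (hM : Cfsg.IsPModular p M) [Fintype G] {P H : Subgroup G}
    (hP : IsPGroup p P) (hPH : P ≤ H) (hKH : Subgroup.centralizer (P : Set G) ≤ H)
    [Fintype ↥(Subgroup.centralizer (P : Set G))]
    {a : ℂG} (ha : IsCentral a) (hai : a ∈ intAlg hM G) (ha2 : a * a = a)
    {b : MonoidAlgebra ℂ H} (hb : IsCentral b) (hbi : b ∈ intAlg hM H) (hb2 : b * b = b)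
    (h : ∀ ψ : Cfsg.IrrCharacter ↥(Subgroup.centralizer (P : Set G)),
      Cfsg.MemLocalIdeal M
        (omega (ψ : ↥(Subgroup.centralizer (P : Set G)) → ℂ)
            (trunc _ (Subgroup.centralizer (P : Set G) : Set G) a)
          * omega (ψ : ↥(Subgroup.centralizer (P : Set G)) → ℂ)
            (trunc _ (Subgroup.centralizer (P : Set G) : Set G) (emb H b))))
    {g : G} (hg : g ∈ Subgroup.centralizer (P : Set G)) :
    Cfsg.MemLocalIdeal M ((a * emb H b).coeff g) := by
  classical
  have hPa := ha.pInvariant P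
  have hPb : PInvariant P (emb H b) := fun x hx g => emb_conj_invariant hb (hPH hx) g
  have hbG := emb_mem hM H hbi
  set ta := trunc (Subgroup.centralizer (P : Set G)) ((Subgroup.centralizer (P : Set G)) : Set G) a
  set tb := trunc (Subgroup.centralizer (P : Set G)) ((Subgroup.centralizer (P : Set G)) : Set G) (emb H b)
  have htac : IsCentral ta :=
    isCentral_trunc (fun x hx c hc => (Subgroup.centralizer (P : Set G)).mul_mem ((Subgroup.centralizer (P : Set G)).mul_mem hx hc) ((Subgroup.centralizer (P : Set G)).inv_mem hx)) ha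
  have htbc : IsCentral tb := by
    intro k y
    simp only [tb, trunc_coeff, SetLike.mem_coe, Subgroup.coe_mul, Subgroup.coe_inv]
    rw [if_pos k.2, if_pos ((Subgroup.centralizer (P : Set G)).mul_mem ((Subgroup.centralizer (P : Set G)).mul_mem y.2 k.2) ((Subgroup.centralizer (P : Set G)).inv_mem y.2)),
      emb_conj_invariant hb (hKH y.2)]
  have htai : ta ∈ intAlg hM (Subgroup.centralizer (P : Set G)) := trunc_mem hM (Subgroup.centralizer (P : Set G)) _ hai
  have htbi : tb ∈ intAlg hM (Subgroup.centralizer (P : Set G)) := trunc_mem hM (Subgroup.centralizer (P : Set G)) _ hbG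
  have hta2 : LiEq M (ta * ta) ta := by
    have := trunc_mul hM hP (le_refl (Subgroup.centralizer (P : Set G))) hai hai hPa hPa
    rw [ha2] at this
    exact this.symm
  have htb2 : LiEq M (tb * tb) tb := by
    have := trunc_mul hM hP (le_refl (Subgroup.centralizer (P : Set G))) hbG hbG hPb hPb
    rw [← emb_mul, hb2] at this
    exact this.symm
  have hz2 : LiEq M (ta * tb * (ta * tb)) (ta * tb) := by
    rw [show ta * tb * (ta * tb) = ta * ta * (tb * tb) by
      rw [mul_assoc ta tb, ← mul_assoc tb ta, htbc.comm ta]; simp only [mul_assoc]]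
    exact LiEq.mul hM hta2 htb2 (mul_mem htai htai) htbi
  have hz := li_of_idem hM (htac.mul htbc) (mul_mem htai htbi) hz2 (fun ψ => by
    rw [omega_mul ψ htac]; exact h ψ) ⟨g, hg⟩
  have hmul := trunc_mul hM hP (le_refl (Subgroup.centralizer (P : Set G))) hai hbG hPa hPb ⟨g, hg⟩
  rw [trunc_coeff, if_pos (show ((⟨g, hg⟩ : (Subgroup.centralizer (P : Set G))) : G) ∈ ((Subgroup.centralizer (P : Set G)) : Set G) from hg)] at hmul
  have h3 := li_add hM hmul hz
  erw [sub_add_cancel] at h3
  exact h3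

/-- An idempotent killed by the Brauer map at a `p`-element kills its `p`-section. -/
theorem ev_eq_zero_of_kernel (hM : Cfsg.IsPModular p M) [Fintype G] {θ : G → ℂ}
    (hθ : Cfsg.IsClassFunction G θ) {x s : G} {k : ℕ} (hx : orderOf x = p ^ k)
    (hs : ¬ p ∣ orderOf s) (hxs : Commute x s) {e : ℂG} (hei : e ∈ intAlg hM G) (he : e * e = e)
    (hex : Commute e ⟪x⟫) (hes : Commute e ⟪s⟫)
    (hker : ∀ g, Commute g x → Cfsg.MemLocalIdeal M (e.coeff g)) :
    ev θ (⟪x * s⟫ * e) = 0 := by
  classical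
  haveI : Fact p.Prime := ⟨hM.1⟩
  letI act : MulAction (Subgroup.zpowers x) G :=
    MulAction.compHom G (ConjAct.toConjAct.toMonoidHom.comp (Subgroup.zpowers x).subtype)
  have hsmul : ∀ (z : Subgroup.zpowers x) (g : G), z • g = (z : G) * g * (z : G)⁻¹ := fun z g => rfl
  let rep : G → G := fun g => (Quotient.mk (MulAction.orbitRel (Subgroup.zpowers x) G) g).out
  have hrep : ∀ g, ∃ n : ℤ, g = x ^ n * rep g * x ^ (-n) := by
    intro g
    have h1 : rep g ∈ MulAction.orbit (Subgroup.zpowers x) g :=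
      MulAction.orbitRel_apply.1 (Quotient.exact (Quotient.out_eq _))
    obtain ⟨⟨z, n, rfl⟩, hz⟩ := MulAction.mem_orbit_symm.1 h1
    refine ⟨n, ?_⟩
    conv_lhs => rw [← hz]
    beta_reduce
    rw [hsmul]
    show x ^ n * rep g * (x ^ n)⁻¹ = _
    rw [zpow_neg]
  have hrepx : ∀ (n : ℤ) g, rep (x ^ n * g * x ^ (-n)) = rep g := by
    intro n g
    refine congrArg Quotient.out (Quotient.sound (MulAction.orbitRel_apply.2 ?_))
    refine ⟨⟨_, zpow_mem (Subgroup.mem_zpowers x) n⟩, ?_⟩
    show x ^ n * g * (x ^ n)⁻¹ = _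
    rw [zpow_neg]
  have hcz : ∀ (n : ℤ) (g : G), Commute (x ^ n * g * x ^ (-n)) x ↔ Commute g x := by
    intro n g
    have hxn : ∀ m : ℤ, Commute (x ^ m) x := fun m => (Commute.refl x).zpow_left m
    refine ⟨fun h => ?_, fun h => ((hxn n).mul_left h).mul_left (hxn (-n))⟩
    have h2 := ((hxn (-n)).mul_left h).mul_left (hxn n)
    rwa [show x ^ (-n) * (x ^ n * g * x ^ (-n)) * x ^ n = g by group] at h2
  have heinv : ∀ (n : ℤ) (g : G), e.coeff (x ^ n * g * x ^ (-n)) = e.coeff g := by
    intro n g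
    have h1 := commute_single_iff.1 hex
    induction n using Int.induction_on with
    | zero => simp
    | succ n ih =>
      rw [show x ^ ((n : ℤ) + 1) * g * x ^ (-((n : ℤ) + 1))
        = x * (x ^ (n : ℤ) * g * x ^ (-(n : ℤ))) * x⁻¹ by group, h1, ih]
    | pred n ih =>
      rw [← h1, show x * (x ^ (-(n : ℤ) - 1) * g * x ^ (-(-(n : ℤ) - 1))) * x⁻¹
        = x ^ (-(n : ℤ)) * g * x ^ (-(-(n : ℤ))) by group, ih]
  have hesinv := commute_single_iff.1 hes
  let c0 : ℂG := ga fun g => if Commute g x then 0 else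
    if ∃ a : ℤ, g = x ^ ((p : ℤ) * a) * rep g * x ^ (-((p : ℤ) * a)) then e.coeff g else 0
  let d : ℂG := ga fun g => if Commute g x then e.coeff g else 0
  have hconjc : ∀ (a : ℂG) (u g : G), (⟪u⟫ * a * ⟪u⁻¹⟫).coeff g = a.coeff (u⁻¹ * g * u) := by
    intro a u g
    simp [MonoidAlgebra.coeff_mul_single_apply, MonoidAlgebra.coeff_single_mul_apply, mul_assoc]
  have hTr0 : ∑ i ∈ Finset.range p, ⟪x ^ i⟫ * c0 * ⟪x⁻¹ ^ i⟫ = e - d := by
    refine ext_coeff fun g => ?_
    rw [coeff_sum', MonoidAlgebra.coeff_sub, Finsupp.sub_apply]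
    simp only [inv_pow, hconjc]
    have hcoe : ∀ i : ℕ, (x ^ i)⁻¹ * g * x ^ i = x ^ (-(i : ℤ)) * g * x ^ (-(-(i : ℤ))) := by
      intro i; simp
    simp only [c0, d, coeff_ga, hcoe, hrepx, hcz, heinv]
    by_cases hgx : Commute g x
    · simp [hgx]
    · simp only [if_neg hgx, sub_zero]
      obtain ⟨n, hn⟩ := hrep g
      have hp0 : (p : ℤ) ≠ 0 := by exact_mod_cast hM.1.ne_zero
      have hnn := Int.emod_nonneg n hp0
      rw [Finset.sum_eq_single (n % p).toNat]
      · rw [if_pos]
        refine ⟨n / p, ?_⟩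
        rw [Int.toNat_of_nonneg hnn]
        conv_lhs => rw [hn]
        have h1 : (p : ℤ) * (n / p) = -(n % (p : ℤ)) + n := by
          have := Int.emod_add_mul_ediv n p; omega
        rw [h1]
        group
      · intro i hi hne
        rw [if_neg]
        rintro ⟨a, ha⟩
        have hA : g = x ^ ((i : ℤ) + p * a) * rep g * x ^ (-((i : ℤ) + p * a)) := by
          have h2 : g = x ^ (i : ℤ) * (x ^ (-(i : ℤ)) * g * x ^ (-(-(i : ℤ)))) * x ^ (-(i : ℤ)) := by
            group
          rw [ha] at h2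
          conv_lhs => rw [h2]
          group
        have hcomm : Commute (x ^ ((i : ℤ) + p * a - n)) (rep g) := by
          have h3 := hA.symm.trans hn
          show _ * _ = _ * _
          calc x ^ ((i : ℤ) + p * a - n) * rep g
              = x ^ (-n) * (x ^ ((i : ℤ) + p * a) * rep g * x ^ (-((i : ℤ) + p * a)))
                * x ^ ((i : ℤ) + p * a) := by group
            _ = x ^ (-n) * (x ^ n * rep g * x ^ (-n)) * x ^ ((i : ℤ) + p * a) := by rw [h3]
            _ = rep g * x ^ ((i : ℤ) + p * a - n) := by group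
        by_cases hdvd : (p : ℤ) ∣ (i : ℤ) + p * a - n
        · apply hne
          have hi' := Finset.mem_range.1 hi
          have h4 : (p : ℤ) ∣ (i : ℤ) - n % p := by
            have h5 : (i : ℤ) - n % p = ((i : ℤ) + p * a - n) + (p : ℤ) * (n / p - a) := by
              have := Int.emod_add_mul_ediv n p
              rw [mul_sub]; omega
            rw [h5]; exact dvd_add hdvd (dvd_mul_right _ _)
          have hlt := Int.emod_lt_of_pos n (show (0 : ℤ) < p by exact_mod_cast hM.1.pos)
          obtain ⟨t, ht⟩ := h4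
          rcases lt_trichotomy t 0 with ht0 | ht0 | ht0
          · have : (p : ℤ) * t ≤ (p : ℤ) * (-1) := by
              exact mul_le_mul_of_nonneg_left (by omega) (by omega)
            omega
          · subst ht0; omega
          · have : (p : ℤ) * 1 ≤ (p : ℤ) * t := by
              exact mul_le_mul_of_nonneg_left (by omega) (by omega)
            omega
        · apply hgx
          have hcop : IsCoprime ((i : ℤ) + p * a - n) ((p : ℤ) ^ k) :=
            (((Nat.prime_iff_prime_int.1 hM.1).coprime_iff_not_dvd.2 hdvd).symm).pow_right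
          obtain ⟨u, v, huv⟩ := hcop
          have hxr : Commute x (rep g) := by
            have h6 := hcomm.zpow_left u
            rw [← zpow_mul] at h6
            have h7 : x ^ (((i : ℤ) + p * a - n) * u) = x := by
              have h8 : x ^ (((p : ℤ) ^ k) * v) = 1 := by
                rw [zpow_mul, show ((p : ℤ) ^ k) = ((p ^ k : ℕ) : ℤ) by push_cast; rfl,
                  zpow_natCast, ← hx, pow_orderOf_eq_one, one_zpow]
              conv_rhs => rw [← zpow_one x, ← huv, zpow_add, mul_comm v, h8, mul_one, mul_comm u]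
            rwa [h7] at h6
          rw [hn, hcz]
          exact hxr.symm
      · intro h
        exfalso
        apply h
        have := Int.emod_lt_of_pos n (show (0 : ℤ) < p by exact_mod_cast hM.1.pos)
        exact Finset.mem_range.2 (by omega)
  -- averaging over `s`
  set m := orderOf s with hm
  have hm0 : 0 < m := orderOf_pos s
  let c1 : ℂG := (m : ℂ)⁻¹ • ∑ j ∈ Finset.range m, ⟪s ^ j⟫ * c0 * ⟪s⁻¹ ^ j⟫
  have hc1s : Commute c1 ⟪s⟫ := by
    refine Commute.smul_left ?_ _
    set f : ℕ → ℂG := fun j => ⟪s ^ j⟫ * c0 * ⟪s⁻¹ ^ j⟫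
    have hshift : ∑ j ∈ Finset.range m, f (j + 1) = ∑ j ∈ Finset.range m, f j := by
      have h1 := Finset.sum_range_succ' f m
      rw [Finset.sum_range_succ] at h1
      have h2 : f m = f 0 := by
        simp only [f, hm, pow_orderOf_eq_one, inv_pow, inv_one, pow_zero]
      rw [h2] at h1
      exact (add_right_cancel h1).symm
    have hstep : ∀ j, ⟪s⟫ * f j * ⟪s⁻¹⟫ = f (j + 1) := fun j => by
      simp only [f, ← mul_assoc, single_mul_single', ← pow_succ']
      rw [mul_assoc, single_mul_single', ← pow_succ]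
    have h3 : ⟪s⟫ * (∑ j ∈ Finset.range m, f j) * ⟪s⁻¹⟫ = ∑ j ∈ Finset.range m, f j := by
      rw [Finset.mul_sum, Finset.sum_mul, Finset.sum_congr rfl fun j _ => hstep j, hshift]
    show _ * _ = _ * _
    conv_lhs => rw [← h3]
    rw [mul_assoc, single_mul_single', inv_mul_cancel, ← MonoidAlgebra.one_def, mul_one]
  have hc0x : Commute c0 ⟪x ^ p⟫ := by
    rw [commute_single_iff]
    intro g
    have hg : x ^ p * g * (x ^ p)⁻¹ = x ^ (p : ℤ) * g * x ^ (-(p : ℤ)) := by
      rw [zpow_neg, zpow_natCast]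
    rw [hg]
    simp only [c0, coeff_ga, hrepx, hcz, heinv]
    by_cases hgx : Commute g x
    · rw [if_pos hgx, if_pos hgx]
    · rw [if_neg hgx, if_neg hgx]
      refine if_congr ⟨?_, ?_⟩ rfl rfl
      · rintro ⟨a, ha⟩
        refine ⟨a - 1, ?_⟩
        have h1 : g = x ^ (-(p : ℤ)) * (x ^ (p : ℤ) * g * x ^ (-(p : ℤ))) * x ^ (p : ℤ) := by group
        rw [ha] at h1
        conv_lhs => rw [h1]
        group
      · rintro ⟨a, ha⟩
        refine ⟨a + 1, ?_⟩
        conv_lhs => rw [ha]
        group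
  have hxp_s : ∀ j : ℕ, Commute (⟪s ^ j⟫ : ℂG) ⟪x ^ p⟫ := fun j => by
    show _ * _ = _ * _
    rw [single_mul_single', single_mul_single', ((hxs.pow_left p).pow_right j).eq]
  have hxp_s' : ∀ j : ℕ, Commute (⟪s⁻¹ ^ j⟫ : ℂG) ⟪x ^ p⟫ := fun j => by
    show _ * _ = _ * _
    rw [single_mul_single', single_mul_single', ((hxs.inv_right.pow_left p).pow_right j).eq]
  have hc1x : Commute c1 ⟪x ^ p⟫ := by
    refine Commute.smul_left (Commute.sum_left _ _ _ fun j _ => ?_) _
    exact ((hxp_s j).mul_left hc0x).mul_left (hxp_s' j)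
  have hds : ∀ g, d.coeff (s * g * s⁻¹) = d.coeff g := by
    intro g
    simp only [d, coeff_ga, hesinv]
    refine if_congr ?_ rfl rfl
    refine ⟨fun h => ?_, fun h => (hxs.symm.mul_left h).mul_left hxs.symm.inv_left⟩
    have := (hxs.symm.inv_left.mul_left h).mul_left hxs.symm
    rwa [show s⁻¹ * (s * g * s⁻¹) * s = g by group] at this
  have hedS : ∀ j : ℕ, ⟪s ^ j⟫ * (e - d) * ⟪s⁻¹ ^ j⟫ = e - d := by
    intro j
    have h1 : Commute (e - d) (⟪s ^ j⟫ : ℂG) := by
      rw [← single_pow']
      exact (hes.sub_left (commute_single_iff.2 hds)).pow_right j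
    rw [← h1.eq, mul_assoc, single_mul_single', inv_pow, mul_inv_cancel, ← MonoidAlgebra.one_def,
      mul_one]
  have hTr1 : ∑ i ∈ Finset.range p, ⟪x ^ i⟫ * c1 * ⟪x⁻¹ ^ i⟫ = e - d := by
    have hswap : ∀ i j : ℕ, ⟪x ^ i⟫ * (⟪s ^ j⟫ * c0 * ⟪s⁻¹ ^ j⟫) * ⟪x⁻¹ ^ i⟫
        = ⟪s ^ j⟫ * (⟪x ^ i⟫ * c0 * ⟪x⁻¹ ^ i⟫) * ⟪s⁻¹ ^ j⟫ := by
      intro i j
      simp only [← mul_assoc, single_mul_single', ((hxs.pow_left i).pow_right j).eq]
      simp only [mul_assoc, single_mul_single', ((hxs.inv_left.inv_right.pow_left i).pow_right j).eq]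
    simp only [c1, mul_smul_comm, smul_mul_assoc, ← Finset.smul_sum, Finset.mul_sum, Finset.sum_mul,
      hswap]
    rw [Finset.sum_comm]
    simp only [← Finset.mul_sum, ← Finset.sum_mul, hTr0, hedS]
    rw [Finset.sum_const, Finset.card_range, ← Nat.cast_smul_eq_nsmul ℂ, smul_smul,
      inv_mul_cancel₀ (by exact_mod_cast hm0.ne'), one_smul]
  have hdi : d ∈ intAlg hM G := fun g => by
    simp only [d, coeff_ga]
    split_ifs
    · exact hei g
    · exact lr_zero hM
  have hdli : ∀ g, Cfsg.MemLocalIdeal M (d.coeff g) := fun g => by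
    simp only [d, coeff_ga]
    split_ifs with h
    · exact hker g h
    · exact li_zero hM
  have hc0i : c0 ∈ intAlg hM G := fun g => by
    simp only [c0, coeff_ga]
    split_ifs
    · exact lr_zero hM
    · exact hei g
    · exact lr_zero hM
  have hc1i : c1 ∈ intAlg hM G :=
    Subalgebra.smul_mem (intAlg hM G) (sum_mem fun j _ =>
      mul_mem (mul_mem (single_mem hM _) hc0i) (single_mem hM _))
      (⟨_, inv_natCast_lr hM hs⟩ : locRing hM)
  have hdx : Commute d ⟪x⟫ := by
    rw [commute_single_iff]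
    intro g
    have h1 := hcz 1 g
    have h2 := heinv 1 g
    simp only [zpow_one, zpow_neg_one] at h1 h2
    simp only [d, coeff_ga, h2, h1]
  -- the inverse
  have hedei : e * d * e ∈ intAlg hM G := mul_mem (mul_mem hei hdi) hei
  have hedeli : ∀ g, Cfsg.MemLocalIdeal M ((e * d * e).coeff g) :=
    fun g => li_mul_coeff' hM (li_mul_coeff hM hei hdli) hei g
  obtain ⟨W, hW, hW1, hW2⟩ := exists_inv_one_sub hM (G := G)
    (d := Matrix.scalar (Fin p) (e * d * e))
    (fun i j => by
      rw [Matrix.scalar_apply, Matrix.diagonal_apply]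
      split_ifs
      · exact hedei
      · exact zero_mem _)
    (fun i j g => by
      rw [Matrix.scalar_apply, Matrix.diagonal_apply]
      split_ifs
      · exact hedeli g
      · simpa using li_zero hM)
  have i0 : Fin p := ⟨0, hM.1.pos⟩
  set w := W i0 i0 with hw
  set v := 1 - e * d * e with hv
  have hsc : (1 - Matrix.scalar (Fin p) (e * d * e)) = Matrix.scalar (Fin p) v := by
    rw [hv, map_sub, map_one]
  have hvw : v * w = 1 := by
    have h1 := congrArg (fun A : Matrix (Fin p) (Fin p) ℂG => A i0 i0) hW1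
    rw [hsc] at h1
    simp only [Matrix.scalar_apply, Matrix.diagonal_mul, Matrix.one_apply_eq] at h1
    exact h1
  have hwv : w * v = 1 := by
    have h1 := congrArg (fun A : Matrix (Fin p) (Fin p) ℂG => A i0 i0) hW2
    rw [hsc] at h1
    simp only [Matrix.scalar_apply, Matrix.mul_diagonal, Matrix.one_apply_eq] at h1
    exact h1
  have hwcomm : ∀ z, Commute v z → Commute w z := by
    intro z hz
    calc w * z = w * z * (v * w) := by rw [hvw, mul_one]
      _ = w * (v * z) * w := by rw [hz.eq]; simp only [mul_assoc]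
      _ = z * w := by rw [← mul_assoc w v, hwv, one_mul]
  have hvx : Commute v ⟪x⟫ :=
    (Commute.one_left _).sub_left ((hex.mul_left hdx).mul_left hex)
  have hvs : Commute v ⟪s⟫ :=
    (Commute.one_left _).sub_left ((hes.mul_left (commute_single_iff.2 hds)).mul_left hes)
  have hex' : Commute e ⟪x⁻¹⟫ := by
    rw [commute_single_iff]
    intro g
    have := heinv (-1) g
    simpa using this
  have hdx' : Commute d ⟪x⁻¹⟫ := by
    rw [commute_single_iff]
    intro g
    have h1 := hcz (-1) g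
    have h2 := heinv (-1) g
    simp only [zpow_one, zpow_neg_one, neg_neg] at h1 h2
    simp only [d, coeff_ga, inv_inv, h2, h1]
  have hwx' : ∀ i : ℕ, Commute w (⟪x⁻¹ ^ i⟫ : ℂG) := fun i => by
    rw [← single_pow']
    exact (hwcomm _ ((Commute.one_left _).sub_left ((hex'.mul_left hdx').mul_left hex'))).pow_right i
  have hexp : ∀ i : ℕ, Commute e (⟪x ^ i⟫ : ℂG) := fun i => by
    rw [← single_pow']; exact hex.pow_right i
  refine ev_eq_zero_of_trace (G := G) hM hθ x s (k := k) (pow_pow_eq_one_of_orderOf hx) hxs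
    (c := e * c1 * e * w) (mul_mem (mul_mem (mul_mem hei hc1i) hei) (hW i0 i0)) he hex hes
    ((((hexp p).mul_left hc1x).mul_left (hexp p)).mul_left (hwcomm _ (by
      rw [← single_pow']; exact hvx.pow_right p)))
    (((hes.mul_left hc1s).mul_left hes).mul_left (hwcomm _ hvs)) ?_
  have hei' : ∀ i : ℕ, Commute e (⟪x⁻¹ ^ i⟫ : ℂG) := fun i => by
    rw [← single_pow']; exact hex'.pow_right i
  have hterm : ∀ i : ℕ, ⟪x ^ i⟫ * (e * c1 * e * w) * ⟪x⁻¹ ^ i⟫
      = e * (⟪x ^ i⟫ * c1 * ⟪x⁻¹ ^ i⟫) * e * w := by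
    intro i
    rw [mul_assoc, mul_assoc (e * c1 * e) w, (hwx' i).eq, ← mul_assoc (e * c1 * e),
      ← mul_assoc, mul_assoc (e * c1) e, (hei' i).eq, ← mul_assoc (⟪x ^ i⟫ : ℂG),
      ← mul_assoc (⟪x ^ i⟫ : ℂG), ← (hexp i).eq]
    simp only [mul_assoc]
  rw [Finset.sum_congr rfl fun i _ => hterm i, ← Finset.sum_mul, ← Finset.sum_mul, ← Finset.mul_sum,
    hTr1]
  calc e * (e - d) * e * w = (e * e * e - e * d * e) * w := by rw [mul_sub, sub_mul]
    _ = e * v * w := by
      rw [hv, he, he, mul_sub, mul_one]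
      congr 2
      rw [← mul_assoc, ← mul_assoc, he]
    _ = e := by rw [mul_assoc, hvw, mul_one]

end Cfsg.Agent.Blocks
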