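import Cfsg.Prelude.Def_Blocks
import Cfsg.Agent.Char.Integral
import Mathlib.RingTheory.IntegralClosure.IntegrallyClosed
import Mathlib.RingTheory.Localization.Integral
import Mathlib.Algebra.Polynomial.RingDivision
import Mathlib.GroupTheory.PGroup

/-!
The local ring at a maximal ideal of the algebraic integers over `p`.
-/

set_option autoImplicit false
set_option linter.all false

open Polynomial

namespace Cfsg.Agent.Blocks

variable {p : ℕ} {M : Ideal Cfsg.AlgInt}

theorem isPrime_of_pmod (hM : Cfsg.IsPModular p M) : M.IsPrime := hM.2.1.isPrime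

theorem one_notMem (hM : Cfsg.IsPModular p M) : (1 : Cfsg.AlgInt) ∉ M :=
  fun h => hM.2.1.ne_top ((Ideal.eq_top_iff_one M).2 h)

theorem coe_ne_zero_of_notMem {b : Cfsg.AlgInt} (hb : b ∉ M) : (b : ℂ) ≠ 0 := fun h => hb (by
  have : b = 0 := Subtype.ext h
  rw [this]; exact M.zero_mem)

theorem lr_algInt (hM : Cfsg.IsPModular p M) (a : Cfsg.AlgInt) : Cfsg.MemLocalRing M (a : ℂ) :=
  ⟨a, 1, one_notMem hM, by simp⟩

theorem lr_zero (hM : Cfsg.IsPModular p M) : Cfsg.MemLocalRing M 0 := by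
  simpa using lr_algInt hM 0

theorem lr_one (hM : Cfsg.IsPModular p M) : Cfsg.MemLocalRing M 1 := by
  simpa using lr_algInt hM 1

theorem lr_neg {z : ℂ} (h : Cfsg.MemLocalRing M z) : Cfsg.MemLocalRing M (-z) := by
  obtain ⟨a, b, hb, rfl⟩ := h
  exact ⟨-a, b, hb, by push_cast; ring⟩

theorem lr_add (hM : Cfsg.IsPModular p M) {z w : ℂ} (hz : Cfsg.MemLocalRing M z)
    (hw : Cfsg.MemLocalRing M w) : Cfsg.MemLocalRing M (z + w) := by
  obtain ⟨a, b, hb, rfl⟩ := hz
  obtain ⟨c, d, hd, rfl⟩ := hw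
  have := coe_ne_zero_of_notMem hb
  have := coe_ne_zero_of_notMem hd
  refine ⟨a * d + b * c, b * d,
    fun h => ((isPrime_of_pmod hM).mem_or_mem h).elim hb hd, ?_⟩
  push_cast
  field_simp

theorem lr_mul (hM : Cfsg.IsPModular p M) {z w : ℂ} (hz : Cfsg.MemLocalRing M z)
    (hw : Cfsg.MemLocalRing M w) : Cfsg.MemLocalRing M (z * w) := by
  obtain ⟨a, b, hb, rfl⟩ := hz
  obtain ⟨c, d, hd, rfl⟩ := hw
  refine ⟨a * c, b * d, fun h => ((isPrime_of_pmod hM).mem_or_mem h).elim hb hd, ?_⟩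
  push_cast
  rw [div_mul_div_comm]

theorem li_lr {z : ℂ} (h : Cfsg.MemLocalIdeal M z) : Cfsg.MemLocalRing M z := by
  obtain ⟨a, b, _, hb, rfl⟩ := h
  exact ⟨a, b, hb, rfl⟩

/-- The local ring at `M`. -/
def locRing (hM : Cfsg.IsPModular p M) : Subring ℂ where
  carrier := {z | Cfsg.MemLocalRing M z}
  mul_mem' := lr_mul hM
  one_mem' := lr_one hM
  add_mem' := lr_add hM
  zero_mem' := lr_zero hM
  neg_mem' := lr_neg

theorem mem_locRing (hM : Cfsg.IsPModular p M) {z : ℂ} :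
    z ∈ locRing hM ↔ Cfsg.MemLocalRing M z := Iff.rfl

theorem algInt_mem_locRing (hM : Cfsg.IsPModular p M) {z : ℂ} (hz : IsIntegral ℤ z) :
    z ∈ locRing hM := lr_algInt hM ⟨z, hz⟩

theorem li_algInt_iff (hM : Cfsg.IsPModular p M) (a : Cfsg.AlgInt) :
    Cfsg.MemLocalIdeal M (a : ℂ) ↔ a ∈ M := by
  constructor
  · rintro ⟨c, b, hc, hb, h⟩
    rw [div_eq_iff (coe_ne_zero_of_notMem hb)] at h
    have h' : c = a * b := Subtype.ext (by simpa using h)
    rw [h'] at hc
    exact ((isPrime_of_pmod hM).mem_or_mem hc).resolve_right hb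
  · exact fun ha => ⟨a, 1, ha, one_notMem hM, by simp⟩

theorem li_zero (hM : Cfsg.IsPModular p M) : Cfsg.MemLocalIdeal M 0 := by
  simpa using (li_algInt_iff hM 0).2 M.zero_mem

theorem li_neg {z : ℂ} (h : Cfsg.MemLocalIdeal M z) : Cfsg.MemLocalIdeal M (-z) := by
  obtain ⟨a, b, ha, hb, rfl⟩ := h
  exact ⟨-a, b, M.neg_mem ha, hb, by push_cast; ring⟩

theorem li_add (hM : Cfsg.IsPModular p M) {z w : ℂ} (hz : Cfsg.MemLocalIdeal M z)
    (hw : Cfsg.MemLocalIdeal M w) : Cfsg.MemLocalIdeal M (z + w) := by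
  obtain ⟨a, b, ha, hb, rfl⟩ := hz
  obtain ⟨c, d, hc, hd, rfl⟩ := hw
  have := coe_ne_zero_of_notMem hb
  have := coe_ne_zero_of_notMem hd
  refine ⟨a * d + b * c, b * d, M.add_mem (M.mul_mem_right _ ha) (M.mul_mem_left _ hc),
    fun h => ((isPrime_of_pmod hM).mem_or_mem h).elim hb hd, ?_⟩
  push_cast
  field_simp

theorem li_sub (hM : Cfsg.IsPModular p M) {z w : ℂ} (hz : Cfsg.MemLocalIdeal M z)
    (hw : Cfsg.MemLocalIdeal M w) : Cfsg.MemLocalIdeal M (z - w) := by
  rw [sub_eq_add_neg]; exact li_add hM hz (li_neg hw)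

theorem li_mul (hM : Cfsg.IsPModular p M) {z w : ℂ} (hz : Cfsg.MemLocalIdeal M z)
    (hw : Cfsg.MemLocalRing M w) : Cfsg.MemLocalIdeal M (z * w) := by
  obtain ⟨a, b, ha, hb, rfl⟩ := hz
  obtain ⟨c, d, hd, rfl⟩ := hw
  refine ⟨a * c, b * d, M.mul_mem_right _ ha,
    fun h => ((isPrime_of_pmod hM).mem_or_mem h).elim hb hd, ?_⟩
  push_cast
  rw [div_mul_div_comm]

theorem li_mul_left (hM : Cfsg.IsPModular p M) {z w : ℂ} (hw : Cfsg.MemLocalRing M w)
    (hz : Cfsg.MemLocalIdeal M z) : Cfsg.MemLocalIdeal M (w * z) := by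
  rw [mul_comm]; exact li_mul hM hz hw

theorem li_sum (hM : Cfsg.IsPModular p M) {ι : Type*} (s : Finset ι) {f : ι → ℂ}
    (h : ∀ i ∈ s, Cfsg.MemLocalIdeal M (f i)) : Cfsg.MemLocalIdeal M (∑ i ∈ s, f i) :=
  Finset.sum_induction f (Cfsg.MemLocalIdeal M) (fun _ _ => li_add hM) (li_zero hM) h

theorem lr_sum (hM : Cfsg.IsPModular p M) {ι : Type*} (s : Finset ι) {f : ι → ℂ}
    (h : ∀ i ∈ s, Cfsg.MemLocalRing M (f i)) : Cfsg.MemLocalRing M (∑ i ∈ s, f i) :=
  Finset.sum_induction f (Cfsg.MemLocalRing M) (fun _ _ => lr_add hM) (lr_zero hM) h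

theorem not_li_one (hM : Cfsg.IsPModular p M) : ¬ Cfsg.MemLocalIdeal M 1 := by
  have h := li_algInt_iff hM 1
  simp only [OneMemClass.coe_one] at h
  exact fun h1 => one_notMem hM (h.1 h1)

theorem inv_lr_of_not_li (hM : Cfsg.IsPModular p M) {z : ℂ} (hz : Cfsg.MemLocalRing M z)
    (h : ¬ Cfsg.MemLocalIdeal M z) : Cfsg.MemLocalRing M z⁻¹ := by
  obtain ⟨a, b, hb, rfl⟩ := hz
  exact ⟨b, a, fun ha => h ⟨a, b, ha, hb, rfl⟩, by rw [inv_div]⟩

theorem ne_zero_of_not_li (hM : Cfsg.IsPModular p M) {z : ℂ}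
    (h : ¬ Cfsg.MemLocalIdeal M z) : z ≠ 0 := fun h0 => h (h0 ▸ li_zero hM)

theorem li_or_li_of_mul (hM : Cfsg.IsPModular p M) {z w : ℂ} (hz : Cfsg.MemLocalRing M z)
    (hw : Cfsg.MemLocalRing M w) (h : Cfsg.MemLocalIdeal M (z * w)) :
    Cfsg.MemLocalIdeal M z ∨ Cfsg.MemLocalIdeal M w := by
  by_contra hc
  push Not at hc
  have := li_mul hM h (lr_mul hM (inv_lr_of_not_li hM hz hc.1) (inv_lr_of_not_li hM hw hc.2))
  have h1 : z * w * (z⁻¹ * w⁻¹) = 1 := by
    have := ne_zero_of_not_li hM hc.1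
    have := ne_zero_of_not_li hM hc.2
    field_simp
  exact not_li_one hM (h1 ▸ this)

/-- The maximal ideal of the local ring. -/
def locIdeal (hM : Cfsg.IsPModular p M) : Ideal (locRing hM) where
  carrier := {z | Cfsg.MemLocalIdeal M (z : ℂ)}
  add_mem' := fun ha hb => li_add hM ha hb
  zero_mem' := li_zero hM
  smul_mem' := fun c z hz => li_mul_left hM c.2 hz

theorem mem_locIdeal (hM : Cfsg.IsPModular p M) {z : locRing hM} :
    z ∈ locIdeal hM ↔ Cfsg.MemLocalIdeal M (z : ℂ) := Iff.rfl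

theorem isUnit_of_not_li (hM : Cfsg.IsPModular p M) (z : locRing hM)
    (h : ¬ Cfsg.MemLocalIdeal M (z : ℂ)) : IsUnit z :=
  ⟨⟨z, ⟨(z : ℂ)⁻¹, inv_lr_of_not_li hM z.2 h⟩,
    Subtype.ext (mul_inv_cancel₀ (ne_zero_of_not_li hM h)),
    Subtype.ext (inv_mul_cancel₀ (ne_zero_of_not_li hM h))⟩, rfl⟩

theorem locIdeal_isMaximal (hM : Cfsg.IsPModular p M) : (locIdeal hM).IsMaximal := by
  rw [Ideal.isMaximal_iff]
  refine ⟨not_li_one hM, fun J z hle hz hzJ => ?_⟩
  obtain ⟨u, hu⟩ := isUnit_of_not_li hM z hz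
  have := J.mul_mem_left (↑u⁻¹) hzJ
  rwa [← hu, Units.inv_mul] at this

theorem li_natCast_iff (hM : Cfsg.IsPModular p M) (n : ℕ) :
    Cfsg.MemLocalIdeal M (n : ℂ) ↔ p ∣ n := by
  have h := li_algInt_iff hM (n : Cfsg.AlgInt)
  simp only [SubringClass.coe_natCast] at h
  rw [h]
  constructor
  · intro hn
    by_contra hp
    obtain ⟨u, v, huv⟩ := (Nat.isCoprime_iff_coprime.2 (hM.1.coprime_iff_not_dvd.2 hp))
    apply one_notMem hM
    have h1 : ((u : Cfsg.AlgInt) * (p : Cfsg.AlgInt) + (v : Cfsg.AlgInt) * (n : Cfsg.AlgInt)) = 1 := by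
      exact_mod_cast congrArg (Int.cast : ℤ → Cfsg.AlgInt) huv
    rw [← h1]
    exact M.add_mem (M.mul_mem_left _ hM.2.2) (M.mul_mem_left _ hn)
  · rintro ⟨k, rfl⟩
    rw [Nat.cast_mul]
    exact M.mul_mem_right _ hM.2.2

theorem li_intCast_iff (hM : Cfsg.IsPModular p M) (n : ℤ) :
    Cfsg.MemLocalIdeal M (n : ℂ) ↔ (p : ℤ) ∣ n := by
  obtain ⟨m, rfl | rfl⟩ := Int.eq_nat_or_neg n
  · simpa [Int.natCast_dvd_natCast] using li_natCast_iff hM m
  · rw [Int.cast_neg, Int.cast_natCast, dvd_neg, Int.natCast_dvd_natCast, ← li_natCast_iff hM m]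
    exact ⟨fun h => by simpa using li_neg h, li_neg⟩

theorem inv_natCast_lr (hM : Cfsg.IsPModular p M) {n : ℕ} (h : ¬ p ∣ n) :
    Cfsg.MemLocalRing M (n : ℂ)⁻¹ :=
  inv_lr_of_not_li hM (natCast_mem (locRing hM) n) (by rwa [li_natCast_iff hM])

/-- The local ring is integrally closed in `ℂ`. -/
theorem lr_of_monic_root (hM : Cfsg.IsPModular p M) {z : ℂ} {f : Polynomial (locRing hM)}
    (hf : f.Monic) (hz : Polynomial.eval₂ (locRing hM).subtype z f = 0) :
    Cfsg.MemLocalRing M z := by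
  classical
  have hden : ∀ s : Finset ℂ, (∀ c ∈ s, Cfsg.MemLocalRing M c) →
      ∃ b : Cfsg.AlgInt, b ∉ M ∧ ∀ c ∈ s, IsIntegral ℤ ((b : ℂ) * c) := by
    intro s
    induction s using Finset.induction with
    | empty => exact fun _ => ⟨1, one_notMem hM, by simp⟩
    | insert c s hc ih =>
      intro h
      obtain ⟨b, hb, hbs⟩ := ih fun x hx => h x (Finset.mem_insert_of_mem hx)
      obtain ⟨a, d, hd, hac⟩ := h c (Finset.mem_insert_self c s)
      refine ⟨b * d, fun hm => ((isPrime_of_pmod hM).mem_or_mem hm).elim hb hd, fun x hx => ?_⟩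
      rcases Finset.mem_insert.1 hx with rfl | hx
      · have : ((b * d : Cfsg.AlgInt) : ℂ) * x = (b : ℂ) * (a : ℂ) := by
          rw [← hac]
          have := coe_ne_zero_of_notMem hd
          push_cast
          field_simp
        rw [this]
        exact b.2.mul a.2
      · have : ((b * d : Cfsg.AlgInt) : ℂ) * x = (d : ℂ) * ((b : ℂ) * x) := by push_cast; ring
        rw [this]
        exact IsIntegral.mul d.2 (hbs x hx)
  obtain ⟨b, hb, hint⟩ := hden ((Finset.range f.natDegree).image fun i => ((f.coeff i : locRing hM) : ℂ))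
    (fun c hc => by obtain ⟨i, -, rfl⟩ := Finset.mem_image.1 hc; exact (f.coeff i).2)
  have hb0 := coe_ne_zero_of_notMem hb
  set n := f.natDegree
  set c : ℕ → ℂ := fun i => if i = n then 1 else (b : ℂ) ^ (n - i) * (f.coeff i : locRing hM)
  have hcint : ∀ i ≤ n, c i ∈ Cfsg.AlgInt := by
    intro i hi
    by_cases h : i = n
    · simp [c, h]
    · have hlt : i < n := lt_of_le_of_ne hi h
      simp only [c, if_neg h]
      rw [show n - i = (n - i - 1) + 1 by omega, pow_succ, mul_assoc]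
      exact IsIntegral.mul (IsIntegral.pow b.2 _)
        (hint _ (Finset.mem_image.2 ⟨i, Finset.mem_range.2 hlt, rfl⟩))
  let g : Polynomial Cfsg.AlgInt :=
    ∑ i ∈ (Finset.range (n + 1)).attach, Polynomial.monomial i.1 (⟨c i.1,
      hcint i.1 (Nat.lt_succ_iff.1 (Finset.mem_range.1 i.2))⟩ : Cfsg.AlgInt)
  have hroot : Polynomial.eval₂ (algebraMap Cfsg.AlgInt ℂ) ((b : ℂ) * z) g = 0 := by
    have h1 : Polynomial.eval₂ (algebraMap Cfsg.AlgInt ℂ) ((b : ℂ) * z) g
        = ∑ i ∈ Finset.range (n + 1), c i * ((b : ℂ) * z) ^ i := by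
      simp only [g, Polynomial.eval₂_finsetSum, Polynomial.eval₂_monomial]
      exact Finset.sum_attach (Finset.range (n + 1)) (fun i => c i * ((b : ℂ) * z) ^ i)
    have h2 : Polynomial.eval₂ (locRing hM).subtype z f
        = ∑ i ∈ Finset.range (n + 1), ((f.coeff i : locRing hM) : ℂ) * z ^ i :=
      Polynomial.eval₂_eq_sum_range _ _
    rw [h2] at hz
    rw [h1, ← mul_zero ((b : ℂ) ^ n), ← hz, Finset.mul_sum]
    refine Finset.sum_congr rfl fun i hi => ?_
    have hile : i ≤ n := Nat.lt_succ_iff.1 (Finset.mem_range.1 hi)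
    by_cases h : i = n
    · have h1 : f.coeff i = 1 := by rw [h]; exact hf.coeff_natDegree
      rw [h1]
      subst h
      simp [c, mul_pow]
    · simp only [c, if_neg h]
      have : (b : ℂ) ^ n = (b : ℂ) ^ (n - i) * (b : ℂ) ^ i := by
        rw [← pow_add, Nat.sub_add_cancel hile]
      rw [this]; ring
  have hgmonic : g.Monic := by
    have hcoeff : ∀ j, (g.coeff j : ℂ) = if j ≤ n then c j else 0 := by
      intro j
      simp only [g, Polynomial.finsetSum_coeff, Polynomial.coeff_monomial]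
      by_cases hj : j ≤ n
      · rw [Finset.sum_eq_single ⟨j, Finset.mem_range.2 (Nat.lt_succ_of_le hj)⟩]
        · simp [hj]
        · intro i _ hne
          rw [if_neg fun h => hne (Subtype.ext h)]
        · simp
      · rw [Finset.sum_eq_zero, if_neg hj, ZeroMemClass.coe_zero]
        intro i _
        rw [if_neg]
        intro h
        exact hj (h ▸ Nat.lt_succ_iff.1 (Finset.mem_range.1 i.2))
    refine Polynomial.monic_of_natDegree_le_of_coeff_eq_one n
      (Polynomial.natDegree_le_iff_coeff_eq_zero.2 fun j hj =>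
        Subtype.ext (by rw [hcoeff, if_neg (not_le.2 hj)]; rfl)) (Subtype.ext ?_)
    rw [hcoeff, if_pos le_rfl]
    simp [c]
  have hbz : IsIntegral ℤ ((b : ℂ) * z) := isIntegral_trans _ ⟨g, hgmonic, hroot⟩
  exact ⟨⟨_, hbz⟩, b, hb, by field_simp⟩

/-- A sum invariant under a `p`-group is congruent to the sum over fixed points. -/
theorem li_sum_sub_sum_fixed (hM : Cfsg.IsPModular p M) {P : Type*} [Group P] (hP : IsPGroup p P)
    {α : Type*} [Fintype α] [MulAction P α] [DecidablePred fun a : α => a ∈ MulAction.fixedPoints P α]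
    (f : α → ℂ) (hf : ∀ a, Cfsg.MemLocalRing M (f a)) (hinv : ∀ (x : P) a, f (x • a) = f a) :
    Cfsg.MemLocalIdeal M (∑ a, f a - ∑ a ∈ Finset.univ.filter
      (fun a => a ∈ MulAction.fixedPoints P α), f a) := by
  classical
  haveI : Fact p.Prime := ⟨hM.1⟩
  rw [← Finset.sum_filter_add_sum_filter_not Finset.univ (fun a => a ∈ MulAction.fixedPoints P α),
    add_sub_cancel_left]
  set T := Finset.univ.filter fun a => a ∉ MulAction.fixedPoints P α
  rw [← Finset.sum_fiberwise_of_maps_to (g := fun a => MulAction.orbit P a)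
    (t := T.image fun a => MulAction.orbit P a) (fun a ha => Finset.mem_image_of_mem _ ha)]
  refine li_sum hM _ fun O hO => ?_
  obtain ⟨a, ha, rfl⟩ := Finset.mem_image.1 hO
  have hnf := (Finset.mem_filter.1 ha).2
  have hfilter : T.filter (fun b => MulAction.orbit P b = MulAction.orbit P a)
      = (MulAction.orbit P a).toFinset := by
    ext b
    simp only [T, Finset.mem_filter, Finset.mem_univ, true_and, Set.mem_toFinset]
    constructor
    · rintro ⟨-, h⟩
      rw [← h]; exact MulAction.mem_orbit_self b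
    · intro hb
      refine ⟨fun hfix => hnf ?_, MulAction.orbit_eq_iff.2 hb⟩
      obtain ⟨x, hx⟩ := hb
      rw [← show x⁻¹ • b = a by rw [← hx]; exact inv_smul_smul x a]
      rw [hfix x⁻¹]
      exact hfix
  have hconst : ∀ b ∈ (MulAction.orbit P a).toFinset, f b = f a := by
    intro b hb
    obtain ⟨x, hx⟩ := Set.mem_toFinset.1 hb
    rw [← hx]
    exact hinv x a
  rw [hfilter, Finset.sum_congr rfl hconst, Finset.sum_const, nsmul_eq_mul]
  refine li_mul hM ((li_natCast_iff hM _).2 ?_) (hf a)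
  obtain ⟨n, hn⟩ := hP.card_orbit a
  rw [Set.toFinset_card, ← Nat.card_eq_fintype_card, hn]
  rcases n with _ | n
  · exfalso
    apply hnf
    rw [MulAction.mem_fixedPoints_iff_card_orbit_eq_one, ← Nat.card_eq_fintype_card]
    simpa using hn
  · exact dvd_pow_self p (Nat.succ_ne_zero n)

end Cfsg.Agent.Blocks
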