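import Cfsg.Agent.Blocks.Idempotent
import Mathlib.GroupTheory.FiniteAbelian.Basic
import Mathlib.RingTheory.Artinian.Module
import Mathlib.Algebra.CharP.Lemmas

/-!
In characteristic `p`, a central element of a group algebra with no coefficient on the centralizer
of a normal `p`-subgroup is nilpotent.
-/

set_option autoImplicit false
set_option linter.all false

open Module

namespace Cfsg.Agent.Blocks

universe u

variable {G : Type u} [Group G] [Finite G]

/-- A `p`-group acting linearly in characteristic `p` fixes a non-zero vector. -/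
theorem exists_fixed_vector {p : ℕ} [Fact p.Prime] {P : Type*} [Group P] [Finite P]
    (hP : IsPGroup p P) {F : Type*} [Field F] [CharP F p] {V : Type*} [AddCommGroup V] [Module F V]
    (ρ : P →* Module.End F V) (W : Submodule F V) (hW : ∀ x, ∀ w ∈ W, ρ x w ∈ W) {v : V}
    (hv : v ∈ W) (hv0 : v ≠ 0) : ∃ w ∈ W, w ≠ 0 ∧ ∀ x, ρ x w = w := by
  let S : AddSubgroup V := AddSubgroup.closure (Set.range fun x => ρ x v)
  have htor : ∀ s : S, p • s = 0 := fun s => by
    apply Subtype.ext
    rw [AddSubmonoidClass.coe_nsmul, ← Nat.cast_smul_eq_nsmul F, CharP.cast_eq_zero, zero_smul]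
    rfl
  haveI : AddGroup.FG S := (AddGroup.fg_iff_addSubgroup_fg _).2
    ((AddSubgroup.fg_iff _).2 ⟨_, rfl, Set.finite_range _⟩)
  haveI : Module.Finite ℤ S := Module.Finite.iff_addGroup_fg.2 inferInstance
  haveI : Finite S := Module.finite_of_fg_torsion S fun s =>
    ⟨⟨(p : ℤ), mem_nonZeroDivisors_of_ne_zero (by exact_mod_cast (Fact.out : p.Prime).ne_zero)⟩,
      by
        show (p : ℤ) • s = 0
        rw [natCast_zsmul]; exact htor s⟩
  have hmap : ∀ (x : P) (s : V), s ∈ S → ρ x s ∈ S := fun x s hs => by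
    have hle : S ≤ S.comap (ρ x).toAddMonoidHom := by
      refine (AddSubgroup.closure_le _).2 ?_
      rintro _ ⟨y, rfl⟩
      refine AddSubgroup.subset_closure ⟨x * y, ?_⟩
      simp
    exact hle hs
  letI : MulAction P S :=
    { smul := fun x s => ⟨ρ x s, hmap x s s.2⟩
      one_smul := fun s => Subtype.ext (show ρ 1 (s : V) = s by simp)
      mul_smul := fun x y s => Subtype.ext (show ρ (x * y) (s : V) = ρ x (ρ y s) by simp) }
  have hvS : v ∈ S := AddSubgroup.subset_closure ⟨1, by simp⟩
  have hdvd : p ∣ Nat.card S := by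
    have h1 : addOrderOf (⟨v, hvS⟩ : S) = p :=
      addOrderOf_eq_prime (htor _) fun h => hv0 (congrArg Subtype.val h)
    rw [← h1]
    exact addOrderOf_dvd_natCard _
  obtain ⟨w, hwfix, hw⟩ := hP.exists_fixed_point_of_prime_dvd_card_of_fixed_point S hdvd
    (a := (0 : S)) (fun x => Subtype.ext (map_zero (ρ x)))
  refine ⟨w, ?_, fun h => hw (Subtype.ext h.symm), fun x => congrArg Subtype.val (hwfix x)⟩
  have hle : S ≤ W.toAddSubgroup := by
    refine (AddSubgroup.closure_le _).2 ?_
    rintro _ ⟨y, rfl⟩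
    exact hW y v hv
  exact hle w.2

/-- A central element vanishing on the centralizer of a normal `p`-subgroup is nilpotent. -/
theorem isNilpotent_of_vanish_centralizer {p : ℕ} [Fact p.Prime] {F : Type*} [Field F] [CharP F p]
    (P : Subgroup G) [P.Normal] (hP : IsPGroup p P) (z : MonoidAlgebra F G)
    (hc : ∀ g x : G, z.coeff (x * g * x⁻¹) = z.coeff g)
    (h0 : ∀ g ∈ Subgroup.centralizer (P : Set G), z.coeff g = 0) : IsNilpotent z := by
  classical
  haveI := Fintype.ofFinite G
  haveI : Module.Finite F (MonoidAlgebra F G) := Module.Finite.of_basis (MonoidAlgebra.basis G F)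
  let f : Module.End F (MonoidAlgebra F G) := LinearMap.mulLeft F z
  obtain ⟨n, hn⟩ := IsArtinian.monotone_stabilizes f.iterateRange
  have hcomm : ∀ b, z * b = b * z := by
    intro b
    refine MonoidAlgebra.coeffEquiv.injective (Finsupp.ext fun g => ?_)
    show (z * b).coeff g = (b * z).coeff g
    rw [MonoidAlgebra.coeff_mul_apply_left, MonoidAlgebra.coeff_mul_apply_left,
      Finsupp.sum_fintype _ _ (fun _ => zero_mul _), Finsupp.sum_fintype _ _ (fun _ => zero_mul _)]
    refine Fintype.sum_equiv ((Equiv.inv G).trans (Equiv.mulRight g)) _ _ fun x => ?_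
    simp only [Equiv.trans_apply, Equiv.inv_apply, Equiv.coe_mulRight, mul_inv_rev, inv_inv]
    rw [mul_comm]
    congr 1
    rw [show g⁻¹ * x * g = g⁻¹ * x * g⁻¹⁻¹ by rw [inv_inv], hc]
  have hrange : ∀ m, (f ^ m : Module.End F (MonoidAlgebra F G)) = LinearMap.mulLeft F (z ^ m) :=
    fun m => LinearMap.pow_mulLeft F (MonoidAlgebra F G) z m
  set W : Submodule F (MonoidAlgebra F G) := LinearMap.range (LinearMap.mulLeft F (z ^ n)) with hW
  have hinj : ∀ w ∈ W, z * w = 0 → w = 0 := by
    have heq : W = LinearMap.range (LinearMap.mulLeft F (z ^ (n + 1))) := by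
      have := hn (n + 1) (Nat.le_succ n)
      rw [hW, ← hrange, ← hrange]
      exact congrArg OrderDual.ofDual this
    have hsurj : Function.Surjective (fun w : W => (⟨z * w, by
        obtain ⟨b, hb⟩ := w.2
        exact ⟨z * b, by rw [← hb, LinearMap.mulLeft_apply, LinearMap.mulLeft_apply, ← mul_assoc,
          ← mul_assoc, (Commute.refl z).pow_left n |>.eq]⟩⟩ : W)) := by
      intro w
      obtain ⟨b, hb⟩ := heq.le w.2
      refine ⟨⟨z ^ n * b, ⟨b, rfl⟩⟩, Subtype.ext ?_⟩
      show z * (z ^ n * b) = w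
      rw [← hb, LinearMap.mulLeft_apply, ← mul_assoc, ← pow_succ']
    let g : W →ₗ[F] W :=
      { toFun := fun w => (⟨z * w, by
          obtain ⟨b, hb⟩ := w.2
          exact ⟨z * b, by rw [← hb, LinearMap.mulLeft_apply, LinearMap.mulLeft_apply, ← mul_assoc,
            ← mul_assoc, (Commute.refl z).pow_left n |>.eq]⟩⟩ : W)
        map_add' := fun a b => Subtype.ext (mul_add _ _ _)
        map_smul' := fun a b => Subtype.ext (mul_smul_comm _ _ _) }
    have hgi : Function.Injective g := LinearMap.injective_iff_surjective.2 hsurj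
    intro w hw h
    have : g ⟨w, hw⟩ = g 0 := by rw [map_zero]; exact Subtype.ext h
    exact congrArg Subtype.val (hgi this)
  by_contra hnil
  have hzn : z ^ n ≠ 0 := fun h => hnil ⟨n, h⟩
  let ρ : P →* Module.End F (MonoidAlgebra F G) :=
    { toFun := fun x => LinearMap.mulLeft F (MonoidAlgebra.single (x : G) 1)
      map_one' := LinearMap.ext fun b => by simp [← MonoidAlgebra.one_def]
      map_mul' := fun x y => LinearMap.ext fun b => by
        simp [← mul_assoc, MonoidAlgebra.single_mul_single] }
  have hstab : ∀ (b : MonoidAlgebra F G), ∀ w ∈ W, b * w ∈ W := by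
    rintro b _ ⟨c, rfl⟩
    refine ⟨b * c, ?_⟩
    simp only [LinearMap.mulLeft_apply]
    rw [← mul_assoc, ← mul_assoc]
    congr 1
    exact ((show Commute z b from hcomm b).pow_left n).eq
  obtain ⟨v, hvW, hv0, hvfix⟩ := exists_fixed_vector hP ρ W (fun x w hw => hstab _ w hw)
    (v := z ^ n) ⟨1, by simp⟩ hzn
  apply hv0
  refine hinj v hvW ?_
  -- `z` kills every `P`-fixed vector
  have hsum : z * v = ∑ g : G, z.coeff g • (MonoidAlgebra.single g (1 : F) * v) := by
    conv_lhs => rw [show z = ∑ g : G, z.coeff g • MonoidAlgebra.single g (1 : F) from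
      MonoidAlgebra.coeffEquiv.injective (Finsupp.ext fun g => by
        simp [Finsupp.finsetSum_apply, Finsupp.single_apply])]
    rw [Finset.sum_mul]
    exact Finset.sum_congr rfl fun g _ => smul_mul_assoc _ _ _
  have hfixg : ∀ (g : G) (x : P), MonoidAlgebra.single (x * g * (x : G)⁻¹) (1 : F) * v
      = MonoidAlgebra.single g (1 : F) * v := by
    intro g x
    have h1 : ∀ y : P, MonoidAlgebra.single (y : G) (1 : F) * v = v := hvfix
    have h2 := h1 ⟨g⁻¹ * x * g, by simpa using ‹P.Normal›.conj_mem (x : G) x.2 g⁻¹⟩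
    have h3 := h1 (x⁻¹)
    simp only [Subgroup.coe_inv] at h3
    calc MonoidAlgebra.single ((x : G) * g * (x : G)⁻¹) (1 : F) * v
        = MonoidAlgebra.single ((x : G) * g) (1 : F) * (MonoidAlgebra.single (x : G)⁻¹ (1 : F) * v) := by
          rw [← mul_assoc, MonoidAlgebra.single_mul_single, mul_one]
      _ = MonoidAlgebra.single (g * (g⁻¹ * (x : G) * g)) (1 : F) * v := by
          rw [h3]; congr 2; simp [mul_assoc]
      _ = MonoidAlgebra.single g (1 : F) * v := by
          rw [← mul_one (1 : F), ← MonoidAlgebra.single_mul_single, mul_assoc, mul_one, h2]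
  rw [hsum]
  letI : MulAction P G := MulAction.compHom G (ConjAct.toConjAct.toMonoidHom.comp P.subtype)
  have hsmul : ∀ (x : P) (g : G), x • g = (x : G) * g * (x : G)⁻¹ := fun x g => rfl
  rw [← Finset.sum_fiberwise_of_maps_to (g := fun g : G => MulAction.orbit P g)
    (t := (Finset.univ : Finset G).image fun g => MulAction.orbit P g)
    (fun g _ => Finset.mem_image_of_mem _ (Finset.mem_univ g))]
  refine Finset.sum_eq_zero fun O hO => ?_
  obtain ⟨g, -, rfl⟩ := Finset.mem_image.1 hO
  have hfilter : (Finset.univ.filter fun h => MulAction.orbit P h = MulAction.orbit P g)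
      = (MulAction.orbit P g).toFinset := by
    ext h
    simp [MulAction.orbit_eq_iff]
  have hconst : ∀ h ∈ (MulAction.orbit P g).toFinset,
      z.coeff h • (MonoidAlgebra.single h (1 : F) * v)
        = z.coeff g • (MonoidAlgebra.single g (1 : F) * v) := by
    intro h hh
    obtain ⟨x, hx⟩ := Set.mem_toFinset.1 hh
    rw [← hx]
    show z.coeff (x • g) • (MonoidAlgebra.single (x • g) (1 : F) * v) = _
    rw [hsmul, hc, hfixg]
  rw [hfilter, Finset.sum_congr rfl hconst, Finset.sum_const]
  by_cases hg : g ∈ Subgroup.centralizer (P : Set G)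
  · rw [h0 g hg, zero_smul, smul_zero]
  · obtain ⟨m, hm⟩ := hP.card_orbit g
    rw [Set.toFinset_card, ← Nat.card_eq_fintype_card, hm, ← Nat.cast_smul_eq_nsmul F]
    rcases m with _ | m
    · exfalso
      apply hg
      rw [Subgroup.mem_centralizer_iff]
      intro x hx
      have hfix : g ∈ MulAction.fixedPoints P G := by
        rw [MulAction.mem_fixedPoints_iff_card_orbit_eq_one, ← Nat.card_eq_fintype_card]
        simpa using hm
      have := hfix ⟨x, hx⟩
      rw [hsmul] at this
      exact mul_inv_eq_iff_eq_mul.1 this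
    · rw [Nat.cast_pow, CharP.cast_eq_zero, zero_pow (Nat.succ_ne_zero m), zero_smul]

end Cfsg.Agent.Blocks
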