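import Cfsg.Prelude.Def_Blocks
import Mathlib.Data.Nat.Factorization.Basic
import Mathlib.Tactic.Group

/-!
The `p`-part of an element.
-/

set_option autoImplicit false
set_option linter.all false

namespace Cfsg.Agent.Blocks

universe u

variable {G : Type u} [Group G]

theorem exists_pPart [Finite G] {p : ℕ} (hp : p.Prime) (g : G) :
    ∃ x y : G, x * y = g ∧ Commute x y ∧ (∃ k, orderOf x = p ^ k) ∧ ¬ p ∣ orderOf y ∧
      x ∈ Subgroup.zpowers g ∧ y ∈ Subgroup.zpowers g := by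
  have hn := orderOf_pos g
  set n := orderOf g with hn_def
  set a := p ^ n.factorization p with ha
  set m := n / a with hm
  have hcop : Nat.Coprime a m :=
    (Nat.coprime_ordCompl hp hn.ne').pow_left _
  have hnam : n = a * m := (Nat.ordProj_mul_ordCompl_eq_self n p).symm
  obtain ⟨u, v, huv⟩ := Nat.isCoprime_iff_coprime.2 hcop
  refine ⟨g ^ (v * (m : ℤ)), g ^ (u * (a : ℤ)), ?_, ?_, ?_, ?_, ⟨_, rfl⟩, ⟨_, rfl⟩⟩
  · rw [← zpow_add, add_comm, huv, zpow_one]
  · exact ((Commute.refl g).zpow_left _).zpow_right _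
  · obtain ⟨i, _, hi⟩ := (Nat.dvd_prime_pow hp).1 (orderOf_dvd_of_pow_eq_one (n := a)
      (x := g ^ (v * (m : ℤ))) (by
        rw [← zpow_natCast, ← zpow_mul]
        refine orderOf_dvd_iff_zpow_eq_one.1 ?_
        rw [← hn_def, hnam]; push_cast
        exact ⟨v, by ring⟩))
    exact ⟨i, hi⟩
  · intro hdvd
    have h1 : orderOf (g ^ (u * (a : ℤ))) ∣ m := orderOf_dvd_of_pow_eq_one (by
      rw [← zpow_natCast, ← zpow_mul]
      refine orderOf_dvd_iff_zpow_eq_one.1 ?_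
      rw [← hn_def, hnam]; push_cast
      exact ⟨u, by ring⟩)
    exact Nat.not_dvd_ordCompl hp hn.ne' (hdvd.trans h1)

theorem exists_isPPart [Finite G] {p : ℕ} (hp : p.Prime) (g : G) :
    ∃ x : G, Cfsg.IsPPart p g x := by
  obtain ⟨x, y, h1, h2, h3, h4, -, -⟩ := exists_pPart hp g
  exact ⟨x, y, h1, h2, h3, h4⟩

theorem eq_of_isPPart [Finite G] {p : ℕ} (hp : p.Prime) {g x x' : G}
    (h : Cfsg.IsPPart p g x) (h' : Cfsg.IsPPart p g x') : x = x' := by
  suffices key : ∀ z : G, Cfsg.IsPPart p g z →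
      z = Classical.choose (exists_isPPart hp g) by rw [key x h, key x' h']
  -- compare with the power decomposition
  obtain ⟨a, b, hab, hcab, ⟨i, hi⟩, hb, ha_mem, hb_mem⟩ := exists_pPart hp g
  suffices key : ∀ z : G, Cfsg.IsPPart p g z → z = a by
    intro z hz
    rw [key z hz, key _ (Classical.choose_spec (exists_isPPart hp g))]
  rintro z ⟨w, hzw, hczw, ⟨j, hj⟩, hw⟩
  have hzg : Commute z g := by rw [← hzw]; exact (Commute.refl z).mul_right hczw
  have hwg : Commute w g := by rw [← hzw]; exact hczw.symm.mul_right (Commute.refl w)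
  obtain ⟨r, hr⟩ := ha_mem
  obtain ⟨t, ht⟩ := hb_mem
  have hza : Commute z a := by rw [← hr]; exact hzg.zpow_right r
  have hwb : Commute w b := by rw [← ht]; exact hwg.zpow_right t
  have heq : a⁻¹ * z = b * w⁻¹ := by
    rw [eq_mul_inv_iff_mul_eq, mul_assoc, hzw, inv_mul_eq_iff_eq_mul, hab]
  have h1 : orderOf (a⁻¹ * z) ∣ p ^ (i + j) := by
    refine (Commute.orderOf_mul_dvd_lcm (hza.symm.inv_left)).trans (Nat.lcm_dvd ?_ ?_)
    · rw [orderOf_inv, hi]; exact pow_dvd_pow _ (Nat.le_add_right _ _)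
    · rw [hj]; exact pow_dvd_pow _ (Nat.le_add_left _ _)
  have h2 : orderOf (a⁻¹ * z) ∣ Nat.lcm (orderOf b) (orderOf w) := by
    rw [heq]
    refine (Commute.orderOf_mul_dvd_lcm (hwb.symm.inv_right)).trans ?_
    rw [orderOf_inv]
  have hnd : ¬ p ∣ Nat.lcm (orderOf b) (orderOf w) := fun h =>
    (hp.dvd_mul.1 (h.trans (Nat.lcm_dvd_mul _ _))).elim hb hw
  have h3 : orderOf (a⁻¹ * z) = 1 := Nat.eq_one_of_dvd_coprimes
    ((hp.coprime_iff_not_dvd.2 hnd).pow_left (i + j)) h1 h2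
  exact (inv_mul_eq_one.1 (orderOf_eq_one_iff.1 h3)).symm

theorem isPPart_conj {p : ℕ} {g x : G} (h : Cfsg.IsPPart p g x) (a : G) :
    Cfsg.IsPPart p (a * g * a⁻¹) (a * x * a⁻¹) := by
  obtain ⟨y, h1, h2, h3, h4⟩ := h
  refine ⟨a * y * a⁻¹, by rw [← h1]; group, ?_, ?_, ?_⟩
  · show _ * _ = _ * _
    calc a * x * a⁻¹ * (a * y * a⁻¹) = a * (x * y) * a⁻¹ := by group
      _ = a * (y * x) * a⁻¹ := by rw [h2.eq]
      _ = _ := by group
  · rwa [← MulAut.conj_apply, MulEquiv.orderOf_eq]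
  · rwa [← MulAut.conj_apply, MulEquiv.orderOf_eq]

theorem pow_pow_eq_one_of_orderOf {p k : ℕ} {x : G} (h : orderOf x = p ^ k) : x ^ p ^ k = 1 := by
  rw [← h]; exact pow_orderOf_eq_one x

theorem dvd_orderOf_iff_pPart_ne_one [Finite G] {p : ℕ} (hp : p.Prime) {g x : G}
    (h : Cfsg.IsPPart p g x) : p ∣ orderOf g ↔ x ≠ 1 := by
  obtain ⟨y, hxy, hc, ⟨k, hk⟩, hy⟩ := h
  have hco : Nat.Coprime (orderOf x) (orderOf y) := by
    rw [hk]; exact (hp.coprime_iff_not_dvd.2 hy).pow_left k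
  rw [← hxy, hc.orderOf_mul_eq_mul_orderOf_of_coprime hco, hk]
  rcases k with _ | k
  · have : x = 1 := orderOf_eq_one_iff.1 (by simpa using hk)
    simp [this, hy]
  · refine ⟨fun _ h1 => ?_, fun _ => dvd_mul_of_dvd_left (dvd_pow_self p k.succ_ne_zero) _⟩
    subst h1
    rw [orderOf_one] at hk
    exact (Nat.one_lt_pow k.succ_ne_zero hp.one_lt).ne hk

theorem isPGroup_zpowers {p k : ℕ} {x : G} (hx : orderOf x = p ^ k) :
    IsPGroup p (Subgroup.zpowers x) := by
  refine IsPGroup.of_card (n := k) ?_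
  rw [Nat.card_zpowers, hx]

theorem centralizer_zpowers (x : G) :
    Subgroup.centralizer ((Subgroup.zpowers x : Subgroup G) : Set G)
      = Subgroup.centralizer ({x} : Set G) := by
  rw [Subgroup.zpowers_eq_closure, Subgroup.centralizer_closure]

end Cfsg.Agent.Blocks
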