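import Cfsg.Agent.Blocks.Kernel

/-!
Brauer's second main theorem.
-/

set_option autoImplicit false
set_option linter.all false

open scoped ComplexConjugate

namespace Cfsg.Agent.Blocks

universe u

variable {p : ℕ} {M : Ideal Cfsg.AlgInt} {G : Type u} [Group G] [Finite G]

local notation "ℂG" => MonoidAlgebra ℂ G

local notation "⟪" g "⟫" => MonoidAlgebra.single g (1 : ℂ)

theorem trunc_emb_trunc {H K : Subgroup G} {C : Set G} (hCH : ∀ c ∈ C, c ∈ H) (a : ℂG) :
    trunc K C (emb H (trunc H Set.univ a)) = trunc K C a := by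
  classical
  refine ext_coeff fun k => ?_
  simp only [trunc_coeff]
  split_ifs with hk
  · rw [emb_of_mem H _ (hCH _ hk), trunc_coeff, if_pos (Set.mem_univ _)]
  · rfl

theorem isCentral_trunc_univ (H : Subgroup G) {a : ℂG} (ha : IsCentral a) :
    IsCentral (trunc H Set.univ a) :=
  isCentral_trunc (fun _ _ _ _ => Set.mem_univ _) ha

theorem centralizer_conj_mem (K : Subgroup G) : ∀ x ∈ K, ∀ c ∈ (K : Set G), x * c * x⁻¹ ∈ K :=
  fun x hx c hc => K.mul_mem (K.mul_mem hx hc) (K.inv_mem hx)

theorem trunc_coe_eq_univ (K : Subgroup G) (a : ℂG) :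
    trunc K (K : Set G) a = trunc K Set.univ a := by
  classical
  refine ext_coeff fun k => ?_
  rw [trunc_coeff, trunc_coeff, if_pos (SetLike.mem_coe.2 k.2), if_pos (Set.mem_univ _)]

theorem trunc_emb_self (K : Subgroup G) (a : MonoidAlgebra ℂ K) :
    trunc K (K : Set G) (emb K a) = a := by
  classical
  refine ext_coeff fun k => ?_
  rw [trunc_coeff, if_pos (SetLike.mem_coe.2 k.2), emb_coe]

/-- The Brauer homomorphism on the centre of a subgroup algebra. -/
theorem isModHom_trunc_emb (hM : Cfsg.IsPModular p M) {P H : Subgroup G} (hP : IsPGroup p P)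
    (hPH : P ≤ H) (hKH : Subgroup.centralizer (P : Set G) ≤ H)
    [Fintype ↥(Subgroup.centralizer (P : Set G))]
    (ψ : Cfsg.IrrCharacter ↥(Subgroup.centralizer (P : Set G))) :
    IsModHom hM (fun a : MonoidAlgebra ℂ H =>
      omega (ψ : ↥(Subgroup.centralizer (P : Set G)) → ℂ)
        (trunc _ (Subgroup.centralizer (P : Set G) : Set G) (emb H a))) where
  add a b := by rw [emb_add, trunc_add, omega_add]
  smul c a := by rw [emb_smul, trunc_smul, omega_smul]
  one := by rw [emb_one, trunc_one _ (Subgroup.one_mem _), omega_one]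
  lr a ha hai := by
    refine omega_lr hM ψ ?_ (trunc_mem hM _ _ (emb_mem hM H hai))
    classical
    intro k y
    simp only [trunc_coeff, SetLike.mem_coe, Subgroup.coe_mul, Subgroup.coe_inv]
    rw [if_pos k.2, if_pos (centralizer_conj_mem _ _ y.2 _ k.2), emb_conj_invariant ha (hKH y.2)]
  mul a b ha hai hb hbi := by
    classical
    have hc : ∀ c : MonoidAlgebra ℂ H, IsCentral c →
        IsCentral (trunc (Subgroup.centralizer (P : Set G))
          (Subgroup.centralizer (P : Set G) : Set G) (emb H c)) := by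
      intro c hc k y
      simp only [trunc_coeff, SetLike.mem_coe, Subgroup.coe_mul, Subgroup.coe_inv]
      rw [if_pos k.2, if_pos (centralizer_conj_mem _ _ y.2 _ k.2), emb_conj_invariant hc (hKH y.2)]
    rw [← omega_mul ψ (hc a ha)]
    refine LiEq.omega hM ψ (hc _ (ha.mul hb)) ((hc a ha).mul (hc b hb)) ?_
    rw [emb_mul]
    exact trunc_mul hM hP le_rfl (emb_mem hM H hai) (emb_mem hM H hbi)
      (fun x hx g => emb_conj_invariant ha (hPH hx) g) (fun x hx g => emb_conj_invariant hb (hPH hx) g)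

/-- A modular homomorphism through restriction to a subgroup determines the induced block. -/
theorem isInducedBlock_of_hom (hM : Cfsg.IsPModular p M) [Fintype G] {H : Subgroup G} [Fintype H]
    {b : Set (Cfsg.IrrCharacter H)} (hb : Cfsg.IsPBlock M b) {B : Set (Cfsg.IrrCharacter G)}
    (hB : Cfsg.IsPBlock M B) {ξ : Cfsg.IrrCharacter H} (hξ : ξ ∈ b) {χ : Cfsg.IrrCharacter G}
    (hχ : χ ∈ B)
    (h : ∀ g, Cfsg.MemLocalIdeal M (omega (ξ : H → ℂ) (trunc H Set.univ (classSum g))
      - omega (χ : G → ℂ) (classSum g))) :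
    Cfsg.IsInducedBlock M H b B := by
  refine ⟨hb, hB, fun ξ' hξ' χ' hχ' g => ?_⟩
  rw [inducedCentralChar_eq, ← omega_classSum (Char.irr_isClassFunction χ')]
  have h1 := li_omega_sub hM (sameBlock_of_mem hM hb hξ' hξ)
    (isCentral_trunc_univ H (isCentral_classSum g)) (trunc_mem hM H _ (classSum_mem hM g))
  have h2 := li_omega_sub hM (sameBlock_of_mem hM hB hχ hχ') (isCentral_classSum g) (classSum_mem hM g)
  simpa using li_add hM (li_add hM h1 (h g)) h2

theorem ev_add_fun [Fintype G] (f f' : G → ℂ) (a : ℂG) : ev (f + f') a = ev f a + ev f' a := by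
  simp [ev, mul_add, Finset.sum_add_distrib]

/-- The block component of a class function. -/
theorem blockPart_eq [Fintype G] {θ : G → ℂ} (hθ : Cfsg.IsClassFunction G θ)
    (A : Set (Cfsg.IrrCharacter G)) (u : G) :
    Cfsg.blockPart A θ u = ev θ (idem A * ⟪u⟫) := by
  classical
  have h1 : Cfsg.blockPart A θ u
      = ∑ χ ∈ A.toFinite.toFinset, Cfsg.classInner θ (χ : G → ℂ) * (χ : G → ℂ) u := by
    rw [Cfsg.blockPart, finsum_mem_eq_finite_toFinset_sum _ A.toFinite]
    refine Finset.sum_congr rfl fun χ _ => ?_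
    congr!
  have h2 : ev θ (idem A * ⟪u⟫) = ∑ χ : Cfsg.IrrCharacter G,
      Cfsg.classInner θ (χ : G → ℂ) * ev (χ : G → ℂ) (idem A * ⟪u⟫) := by
    conv_lhs => rw [Char.classFunction_expand hθ]
    simp only [ev, Finset.sum_apply, Pi.smul_apply, smul_eq_mul, Finset.mul_sum]
    rw [Finset.sum_comm]
    exact Finset.sum_congr rfl fun χ _ => Finset.sum_congr rfl fun g _ => by ring
  rw [h1, h2]
  simp only [ev_idem_mul, mul_ite, mul_zero, ← Finset.sum_filter]
  refine Finset.sum_congr ?_ fun _ _ => rfl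
  ext χ; simp

/-- Weak orthogonality for class functions vanishing on `p`-regular elements. -/
theorem ev_eq_zero_of_regular (hM : Cfsg.IsPModular p M) [Fintype G]
    {A : Set (Cfsg.IrrCharacter G)} (hA : idem A ∈ intAlg hM G) {θ : G → ℂ}
    (hθ : Cfsg.IsClassFunction G θ) (h0 : ∀ g, ¬ p ∣ orderOf g → θ g = 0) {s : G}
    (hs : ¬ p ∣ orderOf s) : ev θ (idem A * ⟪s⟫) = 0 := by
  classical
  rw [← blockPart_eq hθ, Cfsg.blockPart, finsum_mem_eq_finite_toFinset_sum _ A.toFinite]
  simp only [Cfsg.classInner, mul_assoc, ← Finset.mul_sum, Finset.sum_mul]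
  rw [Finset.sum_comm, Finset.sum_eq_zero, mul_zero]
  intro g _
  by_cases hg : p ∣ orderOf g
  · have h := congrArg (starRingEnd ℂ) (sum_eq_zero_of_singular hM hA hg hs)
    simp only [map_sum, map_mul, Complex.conj_conj, map_zero] at h
    rw [← Finset.mul_sum, h, mul_zero]
  · simp [h0 g hg]

/-- Brauer's second main theorem, idempotent form. -/
theorem ev_second_main (hM : Cfsg.IsPModular p M) [Fintype G] {θ : G → ℂ}
    (hθ : Cfsg.IsClassFunction G θ) {x s : G} {k : ℕ} (hx : orderOf x = p ^ k)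
    (hs : ¬ p ∣ orderOf s) (hxs : Commute x s) {H : Subgroup G} [Fintype H]
    (hC : Subgroup.centralizer ({x} : Set G) ≤ H)
    {b : Set (Cfsg.IrrCharacter H)} {B : Set (Cfsg.IrrCharacter G)}
    (hind : Cfsg.IsInducedBlock M H b B) :
    ev θ (⟪x * s⟫ * ((1 - idem B) * emb H (idem b))) = 0 := by
  classical
  have hxH : x ∈ H := hC (Subgroup.mem_centralizer_singleton_iff.2 rfl)
  have hsH : s ∈ H := hC (Subgroup.mem_centralizer_singleton_iff.2 hxs.symm.eq)
  obtain ⟨χB, hχB⟩ := block_nonempty hM hind.2.1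
  obtain ⟨ξb, hξb⟩ := block_nonempty hM hind.1
  have hec : IsCentral (1 - idem B : ℂG) := isCentral_one.sub (isCentral_idem B)
  have hei : (1 - idem B : ℂG) ∈ intAlg hM G := sub_mem (one_mem _) (idem_block_mem hM hind.2.1)
  have hB2 : (1 - idem B : ℂG) * (1 - idem B) = 1 - idem B := by
    have : idem B * idem B = idem B := by rw [← idem_inter, Set.inter_self]
    noncomm_ring
    rw [this]; abel
  have hb2 : idem b * idem b = idem b := by rw [← idem_inter, Set.inter_self]
  have hbi := idem_block_mem hM hind.1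
  refine ev_eq_zero_of_kernel hM hθ hx hs hxs (mul_mem hei (emb_mem hM H hbi)) ?_ ?_ ?_ ?_
  · rw [mul_assoc, ← mul_assoc (emb H _), ← hec.comm, mul_assoc (1 - idem B : ℂG) (emb H _),
      ← emb_mul, hb2, ← mul_assoc, hB2]
  · exact Commute.mul_left (hec.comm _) (emb_commute (isCentral_idem b) hxH)
  · exact Commute.mul_left (hec.comm _) (emb_commute (isCentral_idem b) hsH)
  intro g hg
  haveI := Fintype.ofFinite ↥(Subgroup.centralizer ((Subgroup.zpowers x : Subgroup G) : Set G))
  have hKH : Subgroup.centralizer ((Subgroup.zpowers x : Subgroup G) : Set G) ≤ H := by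
    rw [centralizer_zpowers]; exact hC
  have hPH : Subgroup.zpowers x ≤ H := Subgroup.zpowers_le.2 hxH
  refine li_mul_emb_of_omega hM (isPGroup_zpowers hx) hPH hKH hec hei hB2
    (isCentral_idem b) hbi hb2 (fun ψ => ?_) (g := g) (by
      rw [centralizer_zpowers]; exact Subgroup.mem_centralizer_singleton_iff.2 hg.eq)
  have hφ := isModHom_trunc_emb hM (isPGroup_zpowers hx) hPH hKH ψ
  obtain ⟨b', hb', hb'φ⟩ := hφ.exists_block
  obtain ⟨ξ', hξ'⟩ := block_nonempty hM hb'
  have h1 := hb'φ ξ' hξ' (idem b) (isCentral_idem b) hbi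
  have hKc : ∀ c : ℂG, IsCentral c → IsCentral (trunc (Subgroup.centralizer ((Subgroup.zpowers x : Subgroup G) : Set G)) ((Subgroup.centralizer ((Subgroup.zpowers x : Subgroup G) : Set G)) : Set G) c) := fun c hc =>
    isCentral_trunc (centralizer_conj_mem (Subgroup.centralizer ((Subgroup.zpowers x : Subgroup G) : Set G))) hc
  have hlr1 : Cfsg.MemLocalRing M (omega (ψ : (Subgroup.centralizer ((Subgroup.zpowers x : Subgroup G) : Set G)) → ℂ) (trunc (Subgroup.centralizer ((Subgroup.zpowers x : Subgroup G) : Set G)) ((Subgroup.centralizer ((Subgroup.zpowers x : Subgroup G) : Set G)) : Set G) (1 - idem B))) :=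
    omega_lr hM ψ (hKc _ hec) (trunc_mem hM _ _ hei)
  have hlr2 := hφ.lr _ (isCentral_idem b) hbi
  by_cases hb_eq : b' = b
  · subst hb_eq
    have h2 := hb'φ ξb hξb (trunc H Set.univ (1 - idem B)) (isCentral_trunc_univ H hec)
      (trunc_mem hM H _ hei)
    have h3 := li_trunc_sub_omega hM hind hξb hχB hec hei
    rw [omega_sub, omega_one, omega_idem, if_pos hχB, sub_self, sub_zero] at h3
    have h4 := li_add hM h2 h3
    simp only [sub_add_cancel] at h4
    rw [trunc_emb_trunc (fun c hc => hKH hc)] at h4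
    exact li_mul hM h4 hlr2
  · have h5 : omega (ξ' : H → ℂ) (idem b) = 0 := by
      rw [omega_idem, if_neg]
      exact Set.disjoint_left.1 (disjoint_blocks hM hb' hind.1 hb_eq) hξ'
    rw [h5, sub_zero] at h1
    exact li_mul_left hM hlr1 h1

/-- Block components of a class function vanishing on a `p`-section vanish there. -/
theorem ev_idem_eq_zero_of_section (hM : Cfsg.IsPModular p M) [Fintype G]
    {B : Set (Cfsg.IrrCharacter G)} (hB : Cfsg.IsPBlock M B) {θ : G → ℂ}
    (hθ : Cfsg.IsClassFunction G θ) {x s : G} {k : ℕ} (hx : orderOf x = p ^ k)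
    (hs : ¬ p ∣ orderOf s) (hxs : Commute x s)
    (h0 : ∀ c, Commute c x → ¬ p ∣ orderOf c → θ (x * c) = 0) :
    ev θ (idem B * ⟪x * s⟫) = 0 := by
  classical
  set P := Subgroup.zpowers x with hP
  set K := Subgroup.centralizer (P : Set G) with hK
  haveI := Fintype.ofFinite K
  have hmemK : ∀ g, g ∈ K ↔ Commute g x := by
    intro g
    rw [hK, hP, centralizer_zpowers, Subgroup.mem_centralizer_singleton_iff]
    rfl
  have hxK : x ∈ K := (hmemK x).2 (Commute.refl x)
  have hsK : s ∈ K := (hmemK s).2 hxs.symm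
  have hPK : P ≤ K := Subgroup.zpowers_le.2 hxK
  obtain ⟨χB, hχB⟩ := block_nonempty hM hB
  let 𝔅 : Set (Cfsg.IrrCharacter K) :=
    {η | Cfsg.IsInducedBlock M K (Cfsg.blockOf M (η : K → ℂ)) B}
  have hunion : IsBlockUnion M 𝔅 := fun η hη η' hη' => by
    show Cfsg.IsInducedBlock M K _ B
    rw [← blockOf_eq_of_sameBlock hM hη']
    exact hη
  have hEi := idem_union_mem hM hunion
  have hEi' : idem 𝔅ᶜ ∈ intAlg hM K := idem_union_mem hM fun η hη η' hη' h => hη (by
    show Cfsg.IsInducedBlock M K _ B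
    rw [blockOf_eq_of_sameBlock hM hη']
    exact h)
  have hsplit : (1 : MonoidAlgebra ℂ K) = idem 𝔅 + idem 𝔅ᶜ := by
    rw [← idem_union disjoint_compl_right, Set.union_compl_self, idem_univ]
  have hfB := idem_block_mem hM hB
  have hf2 : idem B * idem B = idem B := by rw [← idem_inter, Set.inter_self]
  have hg2 : (1 - idem B : ℂG) * (1 - idem B) = 1 - idem B := by
    noncomm_ring
    rw [hf2]; abel
  -- both cross terms are killed by the Brauer map
  have hcross : ∀ (a : ℂG) (A : Set (Cfsg.IrrCharacter K)), IsCentral a → a ∈ intAlg hM G →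
      a * a = a → idem A ∈ intAlg hM K →
      (∀ ψ ∈ A, Cfsg.MemLocalIdeal M (omega (ψ : K → ℂ) (trunc K (K : Set G) a))) →
      ev θ (⟪x * s⟫ * (a * emb K (idem A))) = 0 := by
    intro a A hac hai ha2 hAi hA
    have hA2 : idem A * idem A = idem A := by rw [← idem_inter, Set.inter_self]
    refine ev_eq_zero_of_kernel hM hθ hx hs hxs (mul_mem hai (emb_mem hM K hAi)) ?_ ?_ ?_ ?_
    · rw [mul_assoc, ← mul_assoc (emb K _), ← hac.comm, mul_assoc a (emb K _),
        ← emb_mul, hA2, ← mul_assoc, ha2]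
    · exact Commute.mul_left (hac.comm _) (emb_commute (isCentral_idem A) hxK)
    · exact Commute.mul_left (hac.comm _) (emb_commute (isCentral_idem A) hsK)
    intro g hg
    refine li_mul_emb_of_omega hM (isPGroup_zpowers hx) hPK le_rfl hac hai ha2
      (isCentral_idem A) hAi hA2 (fun ψ => ?_) ((hmemK g).2 hg)
    have h2 : omega (ψ : K → ℂ) (trunc K (K : Set G) (emb K (idem A)))
        = if ψ ∈ A then 1 else 0 := by
      rw [trunc_emb_self, omega_idem]
    erw [h2]
    split_ifs with hψ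
    · rw [mul_one]; exact hA ψ hψ
    · rw [mul_zero]; exact li_zero hM
  have h1 := hcross (1 - idem B) 𝔅 (isCentral_one.sub (isCentral_idem B))
    (sub_mem (one_mem _) hfB) hg2 hEi (fun ψ hψ => by
      have h := li_trunc_sub_omega hM hψ (self_mem_blockOf hM ψ) hχB
        (isCentral_one.sub (isCentral_idem B)) (sub_mem (one_mem _) hfB)
      rw [omega_sub _ 1, omega_one, omega_idem, if_pos hχB, sub_self, sub_zero] at h
      rwa [trunc_coe_eq_univ])
  have h2 := hcross (idem B) 𝔅ᶜ (isCentral_idem B) hfB hf2 hEi' (fun ψ hψ => by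
    by_contra hu
    have hφ := isModHom_trunc hM (isPGroup_zpowers hx) (H := K) le_rfl
      (centralizer_conj_mem K) ψ
    obtain ⟨B'', hB'', hBφ⟩ := hφ.exists_block
    obtain ⟨χ'', hχ''⟩ := block_nonempty hM hB''
    have hh := hBφ χ'' hχ'' (idem B) (isCentral_idem B) hfB
    by_cases he : B'' = B
    · subst he
      refine hψ (isInducedBlock_of_hom hM ⟨ψ, rfl⟩ hB'' (self_mem_blockOf hM ψ) hχ'' fun g => ?_)
      rw [← trunc_coe_eq_univ]
      exact hBφ χ'' hχ'' _ (isCentral_classSum g) (classSum_mem hM g)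
    · rw [omega_idem, if_neg (Set.disjoint_left.1 (disjoint_blocks hM hB'' hB he) hχ''), sub_zero] at hh
      exact hu hh)
  have hemb : emb K (idem 𝔅) + emb K (idem 𝔅ᶜ) = (1 : ℂG) := by
    rw [← emb_add, ← hsplit, emb_one]
  have hdec : idem B = emb K (idem 𝔅) + (idem B * emb K (idem 𝔅ᶜ)
      - (1 - idem B) * emb K (idem 𝔅)) := by
    rw [sub_mul, one_mul]
    calc idem B = idem B * (emb K (idem 𝔅) + emb K (idem 𝔅ᶜ)) := by rw [hemb, mul_one]
      _ = _ := by rw [mul_add]; abel
  rw [ev_mul_comm hθ, hdec, mul_add, mul_sub]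
  have hadd : ∀ a b : ℂG, ev θ (a + b) = ev θ a + ev θ b := fun a b => by
    simp [ev, add_mul, Finset.sum_add_distrib]
  have hsub : ∀ a b : ℂG, ev θ (a - b) = ev θ a - ev θ b := fun a b => by
    simp [ev, sub_mul, Finset.sum_sub_distrib]
  rw [hadd, hsub, h1, h2, sub_zero, add_zero]
  -- transfer to the centralizer
  let θx : K → ℂ := fun c => θ (x * c)
  have hθx : Cfsg.IsClassFunction K θx := by
    intro c y
    have := hθ (x * c) y
    simp only [θx, Subgroup.coe_mul, Subgroup.coe_inv]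
    rw [← this]
    congr 1
    have hyx : (y : G) * x = x * y := ((hmemK y).1 y.2).eq
    rw [← mul_assoc (y : G) x, hyx]
    simp only [mul_assoc]
  have h3 := ev_eq_zero_of_regular hM hEi hθx
    (fun c hc => h0 c ((hmemK c).1 c.2) (by rwa [Subgroup.orderOf_coe])) (s := ⟨s, hsK⟩)
    (by rwa [← Subgroup.orderOf_coe])
  rw [ev_mul_single] at h3
  rw [ev_mul_comm hθ, ev_mul_single, sum_emb_mul K _ (fun g => θ (g * (x * s)))]
  rw [← h3]
  refine Finset.sum_congr rfl fun c _ => ?_
  simp only [θx, Subgroup.coe_mul]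
  rw [← mul_assoc, ((hmemK c).1 c.2).eq, mul_assoc]

end Cfsg.Agent.Blocks
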