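import Cfsg.Agent.Blocks.HeightZero

/-!
Decomposition on `p`-sections.
-/

set_option autoImplicit false
set_option linter.all false

open scoped ComplexConjugate

namespace Cfsg.Agent.Blocks

universe u

variable {p : ℕ} {M : Ideal Cfsg.AlgInt} {G : Type u} [Group G] [Finite G]

local notation "ℂG" => MonoidAlgebra ℂ G

local notation "⟪" g "⟫" => MonoidAlgebra.single g (1 : ℂ)

/-- The block component of a class function on a `p`-section, in the centralizer. -/
theorem ev_idem_section (hM : Cfsg.IsPModular p M) [Fintype G]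
    {B : Set (Cfsg.IrrCharacter G)} (hB : Cfsg.IsPBlock M B) {θ : G → ℂ}
    (hθ : Cfsg.IsClassFunction G θ) {x s : G} {k : ℕ} (hx : orderOf x = p ^ k)
    (hs : ¬ p ∣ orderOf s) (hxs : Commute x s) :
    ev θ (idem B * ⟪x * s⟫) = ev θ (⟪x * s⟫ * emb (Subgroup.centralizer ({x} : Set G))
      (idem {η | Cfsg.IsInducedBlock M (Subgroup.centralizer ({x} : Set G))
        (Cfsg.blockOf M (η : Subgroup.centralizer ({x} : Set G) → ℂ)) B})) := by
  classical
  set P := Subgroup.zpowers x with hP
  rw [← centralizer_zpowers]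
  set K := Subgroup.centralizer (P : Set G) with hK
  haveI := Fintype.ofFinite K
  have hmemK : ∀ g, g ∈ K ↔ Commute g x := by
    intro g
    rw [hK, hP, centralizer_zpowers, Subgroup.mem_centralizer_singleton_iff]
    rfl
  have hxK : x ∈ K := (hmemK x).2 (Commute.refl x)
  have hsK : s ∈ K := (hmemK s).2 hxs.symm
  have hPK : P ≤ K := Subgroup.zpowers_le.2 hxK
  obtain ⟨χB, hχB⟩ := block_nonempty hM hB
  let 𝔅 : Set (Cfsg.IrrCharacter K) :=
    {η | Cfsg.IsInducedBlock M K (Cfsg.blockOf M (η : K → ℂ)) B}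
  have hunion : IsBlockUnion M 𝔅 := fun η hη η' hη' => by
    show Cfsg.IsInducedBlock M K _ B
    rw [← blockOf_eq_of_sameBlock hM hη']
    exact hη
  have hEi := idem_union_mem hM hunion
  have hEi' : idem 𝔅ᶜ ∈ intAlg hM K := idem_union_mem hM fun η hη η' hη' h => hη (by
    show Cfsg.IsInducedBlock M K _ B
    rw [blockOf_eq_of_sameBlock hM hη']
    exact h)
  have hsplit : (1 : MonoidAlgebra ℂ K) = idem 𝔅 + idem 𝔅ᶜ := by
    rw [← idem_union disjoint_compl_right, Set.union_compl_self, idem_univ]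
  have hfB := idem_block_mem hM hB
  have hf2 : idem B * idem B = idem B := by rw [← idem_inter, Set.inter_self]
  have hg2 : (1 - idem B : ℂG) * (1 - idem B) = 1 - idem B := by
    noncomm_ring
    rw [hf2]; abel
  -- both cross terms are killed by the Brauer map
  have hcross : ∀ (a : ℂG) (A : Set (Cfsg.IrrCharacter K)), IsCentral a → a ∈ intAlg hM G →
      a * a = a → idem A ∈ intAlg hM K →
      (∀ ψ ∈ A, Cfsg.MemLocalIdeal M (omega (ψ : K → ℂ) (trunc K (K : Set G) a))) →
      ev θ (⟪x * s⟫ * (a * emb K (idem A))) = 0 := by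
    intro a A hac hai ha2 hAi hA
    have hA2 : idem A * idem A = idem A := by rw [← idem_inter, Set.inter_self]
    refine ev_eq_zero_of_kernel hM hθ hx hs hxs (mul_mem hai (emb_mem hM K hAi)) ?_ ?_ ?_ ?_
    · rw [mul_assoc, ← mul_assoc (emb K _), ← hac.comm, mul_assoc a (emb K _),
        ← emb_mul, hA2, ← mul_assoc, ha2]
    · exact Commute.mul_left (hac.comm _) (emb_commute (isCentral_idem A) hxK)
    · exact Commute.mul_left (hac.comm _) (emb_commute (isCentral_idem A) hsK)
    intro g hg
    refine li_mul_emb_of_omega hM (isPGroup_zpowers hx) hPK le_rfl hac hai ha2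
      (isCentral_idem A) hAi hA2 (fun ψ => ?_) ((hmemK g).2 hg)
    have h2 : omega (ψ : K → ℂ) (trunc K (K : Set G) (emb K (idem A)))
        = if ψ ∈ A then 1 else 0 := by
      rw [trunc_emb_self, omega_idem]
    erw [h2]
    split_ifs with hψ
    · rw [mul_one]; exact hA ψ hψ
    · rw [mul_zero]; exact li_zero hM
  have h1 := hcross (1 - idem B) 𝔅 (isCentral_one.sub (isCentral_idem B))
    (sub_mem (one_mem _) hfB) hg2 hEi (fun ψ hψ => by
      have h := li_trunc_sub_omega hM hψ (self_mem_blockOf hM ψ) hχB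
        (isCentral_one.sub (isCentral_idem B)) (sub_mem (one_mem _) hfB)
      rw [omega_sub _ 1, omega_one, omega_idem, if_pos hχB, sub_self, sub_zero] at h
      rwa [trunc_coe_eq_univ])
  have h2 := hcross (idem B) 𝔅ᶜ (isCentral_idem B) hfB hf2 hEi' (fun ψ hψ => by
    by_contra hu
    have hφ := isModHom_trunc hM (isPGroup_zpowers hx) (H := K) le_rfl
      (centralizer_conj_mem K) ψ
    obtain ⟨B'', hB'', hBφ⟩ := hφ.exists_block
    obtain ⟨χ'', hχ''⟩ := block_nonempty hM hB''
    have hh := hBφ χ'' hχ'' (idem B) (isCentral_idem B) hfB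
    by_cases he : B'' = B
    · subst he
      refine hψ (isInducedBlock_of_hom hM ⟨ψ, rfl⟩ hB'' (self_mem_blockOf hM ψ) hχ'' fun g => ?_)
      rw [← trunc_coe_eq_univ]
      exact hBφ χ'' hχ'' _ (isCentral_classSum g) (classSum_mem hM g)
    · rw [omega_idem, if_neg (Set.disjoint_left.1 (disjoint_blocks hM hB'' hB he) hχ''), sub_zero] at hh
      exact hu hh)
  have hemb : emb K (idem 𝔅) + emb K (idem 𝔅ᶜ) = (1 : ℂG) := by
    rw [← emb_add, ← hsplit, emb_one]
  have hdec : idem B = emb K (idem 𝔅) + (idem B * emb K (idem 𝔅ᶜ)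
      - (1 - idem B) * emb K (idem 𝔅)) := by
    rw [sub_mul, one_mul]
    calc idem B = idem B * (emb K (idem 𝔅) + emb K (idem 𝔅ᶜ)) := by rw [hemb, mul_one]
      _ = _ := by rw [mul_add]; abel
  rw [ev_mul_comm hθ, hdec, mul_add, mul_sub]
  have hadd : ∀ a b : ℂG, ev θ (a + b) = ev θ a + ev θ b := fun a b => by
    simp [ev, add_mul, Finset.sum_add_distrib]
  have hsub : ∀ a b : ℂG, ev θ (a - b) = ev θ a - ev θ b := fun a b => by
    simp [ev, sub_mul, Finset.sum_sub_distrib]
  rw [hadd, hsub, h1, h2, sub_zero, add_zero]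

/-- The blocks of a centralizer inducing the principal block form the principal block. -/
theorem inducing_principal_eq (hM : Cfsg.IsPModular p M) [Fintype G] {x : G} {k : ℕ}
    (hx : orderOf x = p ^ k) :
    {η : Cfsg.IrrCharacter ↥(Subgroup.centralizer ({x} : Set G)) |
      Cfsg.IsInducedBlock M (Subgroup.centralizer ({x} : Set G))
        (Cfsg.blockOf M (η : Subgroup.centralizer ({x} : Set G) → ℂ)) (Cfsg.principalBlock M G)}
      = Cfsg.principalBlock M ↥(Subgroup.centralizer ({x} : Set G)) := by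
  classical
  haveI := Fintype.ofFinite ↥(Subgroup.centralizer ({x} : Set G))
  have hxC : Subgroup.zpowers x ≤ Subgroup.centralizer ({x} : Set G) :=
    Subgroup.zpowers_le.2 (Subgroup.mem_centralizer_singleton_iff.2 rfl)
  have key : ∀ (K : Type u) [Group K] [Fintype K], ¬ Cfsg.MemLocalIdeal M
      (omega (Char.oneIrr K : K → ℂ) (regElt p (Char.oneIrr K : K → ℂ))) := by
    intro K _ _
    refine not_li_omega_regElt hM ⟨Char.oneIrr K, rfl⟩ (self_mem_blockOf hM _) ?_
      (self_mem_blockOf hM _)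
    simp [Cfsg.blockHeight, Cfsg.charDegree]
  have h1 : (Char.oneIrr G : G → ℂ) = fun _ => (1 : ℂ) := funext fun g => Char.oneIrr_apply g
  have h2 : (Char.oneIrr ↥(Subgroup.centralizer ({x} : Set G)) : ↥(Subgroup.centralizer ({x} : Set G)) → ℂ) = fun _ => (1 : ℂ) :=
    funext fun g => Char.oneIrr_apply g
  ext η
  have hdef : Cfsg.InducedBlockDefined M (Subgroup.centralizer ({x} : Set G))
      (Cfsg.blockOf M (η : Subgroup.centralizer ({x} : Set G) → ℂ)) := by
    obtain ⟨B, hB, -⟩ := exists_induced hM (isPGroup_zpowers hx) hxC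
      (centralizer_zpowers x).le (by
        rw [← centralizer_zpowers]; exact Subgroup.centralizer_le_normalizer _)
      ⟨η, rfl⟩ (self_mem_blockOf hM η)
    exact ⟨B, hB⟩
  have hok := okuyama hM (ψ := Char.oneIrr ↥(Subgroup.centralizer ({x} : Set G))) (χ := Char.oneIrr G)
    (by rw [h2]; funext h; simp) (key G) (key _) hdef
  rw [h1, h2] at hok
  refine hok.trans ⟨fun h => ?_, fun h => ?_⟩
  · show η ∈ Cfsg.blockOf M (fun _ => (1 : ℂ))
    rw [← h]; exact self_mem_blockOf hM η
  · exact (blockOf_eq_of_sameBlock hM h).symm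

/-- A class function on a section of the principal block. -/
theorem ev_principal_section (hM : Cfsg.IsPModular p M) [Fintype G] {θ : G → ℂ}
    (hθ : Cfsg.IsClassFunction G θ) {x s : G} {k : ℕ} (hx : orderOf x = p ^ k)
    (hs : ¬ p ∣ orderOf s) (hxs : Commute x s) [Fintype ↥(Subgroup.centralizer ({x} : Set G))] :
    ev θ (idem (Cfsg.principalBlock M G) * ⟪x * s⟫)
      = ∑ c : Subgroup.centralizer ({x} : Set G),
          Cfsg.blockCoeff (Cfsg.principalBlock M ↥(Subgroup.centralizer ({x} : Set G))) c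
            * θ (x * s * c) := by
  classical
  have hB : Cfsg.IsPBlock M (Cfsg.principalBlock M G) :=
    ⟨Char.oneIrr G, by rw [show (Char.oneIrr G : G → ℂ) = fun _ => (1 : ℂ) from
      funext fun g => Char.oneIrr_apply g]; rfl⟩
  rw [ev_idem_section hM hB hθ hx hs hxs, inducing_principal_eq hM hx, ev_single_mul, sum_emb_mul]
  rfl

end Cfsg.Agent.Blocks
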