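import Cfsg.Agent.Blocks.Section

/-!
Sums over sections of the principal block.
-/

set_option autoImplicit false
set_option linter.all false

open scoped ComplexConjugate

namespace Cfsg.Agent.Blocks

universe u

variable {p : ℕ} {M : Ideal Cfsg.AlgInt} {G : Type u} [Group G] [Finite G]

theorem char_mul_of_apply_eq_one {χ : G → ℂ} (hχ : Cfsg.IsCharacter G χ) {g : G}
    (h : χ g = χ 1) (k : G) : χ (g * k) = χ k := by
  obtain ⟨d, ρ, rfl⟩ := hχ
  obtain ⟨b, ω, hb, hω⟩ := Char.exists_eigenbasis ρ g (isOfFinOrder_of_finite g)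
  have h1 : ((∑ i, ω i).re) = ((Module.finrank ℂ (Fin d → ℂ) : ℕ) : ℝ) := by
    rw [← Char.trace_of_eigenbasis _ b ω hb]
    rw [← Representation.character, h, ρ.char_one, Complex.natCast_re]
  have hn : ∀ j, ‖ω j‖ = 1 := fun j =>
    Complex.norm_eq_one_of_pow_eq_one (hω j) (orderOf_pos g).ne'
  have hle : ∀ j, (ω j).re ≤ 1 := fun j => (Complex.re_le_norm _).trans_eq (hn j)
  have hall : ∀ i, ω i = 1 := by
    intro i
    rw [Complex.re_sum] at h1
    have h2 : (ω i).re = 1 := by
      by_contra hne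
      have := Finset.sum_lt_sum (fun j _ => hle j)
        ⟨i, Finset.mem_univ _, lt_of_le_of_ne (hle i) hne⟩
      rw [h1] at this
      simp at this
    have h3 := hn i
    rw [Complex.norm_def, Real.sqrt_eq_one, Complex.normSq_apply, h2] at h3
    have h4 : (ω i).im = 0 := by nlinarith
    exact Complex.ext h2 h4
  have h5 : ρ g = 1 := b.ext fun i => by rw [hb, hall, one_smul]; rfl
  show LinearMap.trace ℂ _ (ρ (g * k)) = LinearMap.trace ℂ _ (ρ k)
  rw [map_mul, h5, one_mul]

theorem principal_isPBlock (M : Ideal Cfsg.AlgInt) :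
    Cfsg.IsPBlock M (Cfsg.principalBlock M G) :=
  ⟨Char.oneIrr G, by rw [show (Char.oneIrr G : G → ℂ) = fun _ => (1 : ℂ) from
    funext fun g => Char.oneIrr_apply g]; rfl⟩

theorem one_mem_principal (hM : Cfsg.IsPModular p M) :
    Char.oneIrr G ∈ Cfsg.principalBlock M G := by
  have := self_mem_blockOf hM (Char.oneIrr G)
  rwa [show (Char.oneIrr G : G → ℂ) = fun _ => (1 : ℂ) from
    funext fun g => Char.oneIrr_apply g] at this

theorem principal_trivial_on (hM : Cfsg.IsPModular p M) [Fintype G] (N : Subgroup G) [N.Normal]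
    (hN : ¬ p ∣ Nat.card N) {χ : Cfsg.IrrCharacter G} (hχ : χ ∈ Cfsg.principalBlock M G)
    {g : G} (hg : g ∈ N) : (χ : G → ℂ) g = (χ : G → ℂ) 1 :=
  trivial_on_of_sameBlock hM N hN
    (sameBlock_of_mem hM (principal_isPBlock M) (one_mem_principal hM) hχ) (fun g _ => by simp) hg

/-- The block part of a class indicator at its own element. -/
theorem ev_indicator_idem [Fintype G] (A : Set (Cfsg.IrrCharacter G)) (g : G) [DecidablePred (IsConj g)] :
    ev (fun u => if IsConj g u then (1 : ℂ) else 0) (idem A * MonoidAlgebra.single g (1 : ℂ))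
      = (Nat.card (Subgroup.centralizer ({g} : Set G)) : ℂ)⁻¹
        * ((∑ᶠ χ ∈ A, ‖(χ : G → ℂ) g‖ ^ 2 : ℝ) : ℂ) := by
  classical
  have hκ : Cfsg.IsClassFunction G fun u => if IsConj g u then (1 : ℂ) else 0 := fun u a =>
    if_congr ⟨fun h2 => h2.trans (isConj_iff.2 ⟨a, rfl⟩).symm, fun h2 => h2.trans (isConj_iff.2 ⟨a, rfl⟩)⟩
      rfl rfl
  have hinner : ∀ χ : Cfsg.IrrCharacter G,
      Cfsg.classInner (fun u => if IsConj g u then (1 : ℂ) else 0) (χ : G → ℂ)
        = (Nat.card (Subgroup.centralizer ({g} : Set G)) : ℂ)⁻¹ * conj ((χ : G → ℂ) g) := by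
    intro χ
    rw [Cfsg.classInner]
    calc (Nat.card G : ℂ)⁻¹ * ∑ u : G, (if IsConj g u then (1 : ℂ) else 0) * conj ((χ : G → ℂ) u)
        = (Nat.card G : ℂ)⁻¹ * ∑ u ∈ Finset.univ.filter (fun u => IsConj g u), conj ((χ : G → ℂ) g) := by
          rw [Finset.sum_filter]
          congr 1
          refine Finset.sum_congr rfl fun u _ => ?_
          split_ifs with hu
          · obtain ⟨a, ha⟩ := isConj_iff.1 hu
            rw [← ha, Char.irr_isClassFunction χ g a, one_mul]
          · rw [zero_mul]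
      _ = _ := by
          rw [Finset.sum_const, nsmul_eq_mul, Char.card_conj_set, ← mul_assoc]
          congr 1
          rw [← (Subgroup.centralizer ({g} : Set G)).card_mul_index, Nat.cast_mul, mul_inv, mul_assoc,
            inv_mul_cancel₀ (by exact_mod_cast (Subgroup.centralizer ({g} : Set G)).index_ne_zero_of_finite),
            mul_one]
  rw [← blockPart_eq hκ, Cfsg.blockPart, finsum_mem_eq_finite_toFinset_sum _ A.toFinite,
    finsum_mem_eq_finite_toFinset_sum _ A.toFinite, Complex.ofReal_sum, Finset.mul_sum]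
  refine Finset.sum_congr rfl fun χ _ => ?_
  have hinner' : @Cfsg.classInner G _ (Fintype.ofFinite G) (fun u => if IsConj g u then (1 : ℂ) else 0)
      (χ : G → ℂ) = Cfsg.classInner (fun u => if IsConj g u then (1 : ℂ) else 0) (χ : G → ℂ) := by
    congr!
  rw [hinner', hinner χ, mul_assoc]
  congr 1
  push_cast
  rw [Complex.conj_mul']

end Cfsg.Agent.Blocks
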