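import Cfsg.Agent.Blocks.Brauer
import Mathlib.RingTheory.Nakayama
import Mathlib.Data.Matrix.Basis
import Mathlib.Analysis.Complex.Polynomial.Basic

/-!
Vanishing of character values at idempotents which are relative traces.

If an idempotent `e` over the local ring is a trace from `⟨x ^ p⟩` to `⟨x⟩` with respect to the
`p`-element `x`, compatible with `s`, then every class function vanishes at `x s e`.
-/

set_option autoImplicit false
set_option maxHeartbeats 400000
set_option linter.all false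

open Polynomial

namespace Cfsg.Agent.Blocks

universe u

variable {p : ℕ} {M : Ideal Cfsg.AlgInt} {G : Type u} [Group G] [Finite G]

local notation "ℂG" => MonoidAlgebra ℂ G

local notation "𝕄" => Matrix (Fin p) (Fin p) (MonoidAlgebra ℂ G)

local notation "⟪" g "⟫" => MonoidAlgebra.single g (1 : ℂ)

theorem single_mul_single' (g h : G) : (⟪g⟫ : ℂG) * ⟪h⟫ = ⟪g * h⟫ := by
  rw [MonoidAlgebra.single_mul_single, one_mul]

theorem single_pow' (g : G) (n : ℕ) : (⟪g⟫ : ℂG) ^ n = ⟪g ^ n⟫ := by
  induction n with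
  | zero => simp [MonoidAlgebra.one_def]
  | succ n ih => rw [pow_succ, pow_succ, ih, single_mul_single']

theorem single_mem (hM : Cfsg.IsPModular p M) (g : G) : (⟪g⟫ : ℂG) ∈ intAlg hM G := by
  classical
  intro x
  rw [MonoidAlgebra.coeff_single, Finsupp.single_apply]
  split_ifs
  · exact lr_one hM
  · exact lr_zero hM

theorem ev_mul_comm [Fintype G] {χ : G → ℂ} (hχ : Cfsg.IsClassFunction G χ) (a b : ℂG) :
    ev χ (a * b) = ev χ (b * a) := by
  have key : ∀ a b : ℂG, ev χ (a * b) = ∑ x, ∑ y, a.coeff x * b.coeff y * χ (x * y) := by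
    intro a b
    simp only [ev, coeff_mul_sum, Finset.sum_mul]
    rw [Finset.sum_comm]
    refine Finset.sum_congr rfl fun x _ => ?_
    refine Fintype.sum_equiv (Equiv.mulLeft x⁻¹) _ _ fun g => ?_
    simp [mul_assoc]
  rw [key, key, Finset.sum_comm]
  refine Finset.sum_congr rfl fun y _ => Finset.sum_congr rfl fun x _ => ?_
  have h := hχ (x * y) y
  rw [show y * (x * y) * y⁻¹ = y * x by simp [mul_assoc]] at h
  rw [h]; ring

theorem ev_zero [Fintype G] (χ : G → ℂ) : ev χ (0 : ℂG) = 0 := by simp [ev]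

theorem ev_sum [Fintype G] (χ : G → ℂ) {ι : Type*} (s : Finset ι) (f : ι → ℂG) :
    ev χ (∑ i ∈ s, f i) = ∑ i ∈ s, ev χ (f i) := by
  simp only [ev, coeff_sum', Finset.sum_mul]
  exact Finset.sum_comm

/-- The integral matrices. -/
noncomputable def intMat (hM : Cfsg.IsPModular p M) (G : Type u) [Group G] [Finite G] :
    Subalgebra (locRing hM) (Matrix (Fin p) (Fin p) (MonoidAlgebra ℂ G)) where
  carrier := {A | ∀ i j, A i j ∈ intAlg hM G}
  mul_mem' ha hb i j := by
    rw [Matrix.mul_apply]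
    exact sum_mem fun k _ => mul_mem (ha i k) (hb k j)
  one_mem' i j := by
    rw [Matrix.one_apply]
    split_ifs
    · exact one_mem _
    · exact zero_mem _
  add_mem' ha hb i j := add_mem (ha i j) (hb i j)
  zero_mem' _ _ := zero_mem _
  algebraMap_mem' r i j := by
    rw [Matrix.algebraMap_matrix_apply]
    split_ifs
    · exact Subalgebra.algebraMap_mem _ r
    · exact zero_mem _

/-- Entrywise membership in the local ideal. -/
def LiMat (M : Ideal Cfsg.AlgInt) (A : Matrix (Fin p) (Fin p) (MonoidAlgebra ℂ G)) : Prop :=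
  ∀ i j g, Cfsg.MemLocalIdeal M ((A i j).coeff g)

theorem intAlg_fg (hM : Cfsg.IsPModular p M) : (Subalgebra.toSubmodule (intAlg hM G)).FG := by
  classical
  haveI := Fintype.ofFinite G
  refine ⟨Finset.univ.image fun g : G => (⟪g⟫ : ℂG), le_antisymm ?_ fun a ha => ?_⟩
  · rw [Submodule.span_le]
    intro a ha
    obtain ⟨g, -, rfl⟩ := Finset.mem_image.1 (Finset.mem_coe.1 ha)
    exact single_mem hM g
  · rw [eq_sum_single a]
    refine Submodule.sum_mem _ fun g _ => ?_
    have : MonoidAlgebra.single g (a.coeff g) = (⟨a.coeff g, ha g⟩ : locRing hM) • (⟪g⟫ : ℂG) := by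
      rw [Subring.smul_def, MonoidAlgebra.smul_single, smul_eq_mul, mul_one]
    rw [this]
    exact Submodule.smul_mem _ _ (Submodule.subset_span (by simp))

theorem exists_monic_aeval (hM : Cfsg.IsPModular p M) {a : ℂG} (ha : a ∈ intAlg hM G) :
    ∃ f : (locRing hM)[X], f.Monic ∧ aeval a f = 0 := by
  haveI : Module.Finite (locRing hM) (intAlg hM G) := Module.Finite.iff_fg.2 (intAlg_fg hM)
  obtain ⟨f, hf, h⟩ := (IsIntegral.of_finite (locRing hM) (⟨a, ha⟩ : intAlg hM G)).map
    (intAlg hM G).val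
  exact ⟨f, hf, h⟩

/-- Lifting an element to an idempotent, by a polynomial. -/
theorem exists_lift_poly (hM : Cfsg.IsPModular p M) {a : ℂG} (ha : a ∈ intAlg hM G) :
    ∃ q : (locRing hM)[X], aeval a q * aeval a q = aeval a q ∧
      Cfsg.MemLocalIdeal M ((q.eval 0 : locRing hM) : ℂ) ∧
      Cfsg.MemLocalIdeal M (((q.eval 1 : locRing hM) : ℂ) - 1) := by
  classical
  obtain ⟨f, hf, hfa⟩ := exists_monic_aeval hM ha
  let F : ℂ[X] := f.map (locRing hM).subtype
  have hsplit : F.Splits := IsAlgClosed.splits F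
  have hroot : ∀ z ∈ F.roots, Cfsg.MemLocalRing M z := by
    intro z hz
    refine lr_of_monic_root hM hf ?_
    have h := (Polynomial.mem_roots'.1 hz).2
    rwa [Polynomial.IsRoot.def, Polynomial.eval_map] at h
  let l : List (locRing hM) :=
    0 :: 1 :: F.roots.toList.attach.map fun z => ⟨z.1, hroot z.1 (Multiset.mem_toList.1 z.2)⟩
  have hprod : (l.map fun r => X - C r).prod = (X - C 0) * (X - C 1) * f := by
    simp only [l, List.map_cons, List.prod_cons, ← mul_assoc]
    congr 1
    apply Polynomial.map_injective (locRing hM).subtype Subtype.val_injective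
    rw [Polynomial.map_list_prod]
    show _ = F
    conv_rhs => rw [hsplit.eq_prod_roots_of_monic (hf.map _)]
    rw [List.map_map, List.map_map, ← Multiset.prod_toList]
    have key : (List.map ((Polynomial.map (locRing hM).subtype ∘ fun r => X - C r) ∘
        fun z : {z // z ∈ F.roots.toList} =>
          (⟨z.1, hroot z.1 (Multiset.mem_toList.1 z.2)⟩ : locRing hM)) F.roots.toList.attach)
        = F.roots.toList.map fun z => X - C z := by
      conv_rhs => rw [← List.attach_map_subtype_val F.roots.toList, List.map_map]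
      refine List.map_congr_left fun z _ => ?_
      simp
    rw [key]
    refine List.Perm.prod_eq ?_
    rw [← Multiset.coe_eq_coe, Multiset.coe_toList, ← Multiset.map_coe, Multiset.coe_toList]
  let r : Fin l.length → locRing hM := fun i => l.get i
  let s : Finset (Fin l.length) :=
    Finset.univ.filter fun i => Cfsg.MemLocalIdeal M ((r i : ℂ) - 1)
  let t : Finset (Fin l.length) :=
    Finset.univ.filter fun i => ¬ Cfsg.MemLocalIdeal M ((r i : ℂ) - 1)
  have hu : ∀ i ∈ s, ∀ j ∈ t, IsUnit (r i - r j) := by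
    intro i hi j hj
    refine isUnit_of_not_li hM _ fun h => (Finset.mem_filter.1 hj).2 ?_
    push_cast at h
    simpa using li_sub hM (Finset.mem_filter.1 hi).2 h
  have hst : (∏ i ∈ s, (X - C (r i))) * ∏ i ∈ t, (X - C (r i)) = (X - C 0) * (X - C 1) * f := by
    rw [Finset.prod_filter_mul_prod_filter_not, ← hprod, ← List.prod_ofFn]
    congr 1
    exact List.ofFn_getElem_eq_map l fun r => X - C r
  obtain ⟨q, hq, hq1, hq0⟩ := exists_idem_poly s t r hu a (by rw [hst, map_mul, hfa, mul_zero])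
  refine ⟨q, hq, ?_, ?_⟩
  · have h0t : (⟨0, by simp [l]⟩ : Fin l.length) ∈ t := by
      simp only [t, r, l, Finset.mem_filter, Finset.mem_univ, true_and]
      intro h
      apply not_li_one hM
      simpa using li_neg h
    have := hq0 _ h0t
    have hr : r ⟨0, by simp [l]⟩ = 0 := rfl
    rw [hr] at this
    rw [this]; exact li_zero hM
  · have h1s : (⟨1, by simp [l]⟩ : Fin l.length) ∈ s := by
      simp only [s, r, l, Finset.mem_filter, Finset.mem_univ, true_and]
      simpa using li_zero hM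
    have := hq1 _ h1s
    have hr : r ⟨1, by simp [l]⟩ = 1 := rfl
    rw [hr] at this
    rw [this]
    simpa using li_zero hM

theorem intMat_fg (hM : Cfsg.IsPModular p M) :
    (Subalgebra.toSubmodule (intMat hM G)).FG := by
  classical
  haveI := Fintype.ofFinite G
  refine ⟨(Finset.univ : Finset (Fin p × Fin p × G)).image
    fun z => Matrix.single z.1 z.2.1 (⟪z.2.2⟫ : ℂG), le_antisymm ?_ fun A hA => ?_⟩
  · rw [Submodule.span_le]
    intro A hA
    obtain ⟨z, -, rfl⟩ := Finset.mem_image.1 (Finset.mem_coe.1 hA)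
    intro i j
    rw [Matrix.single_apply]
    split_ifs
    · exact single_mem hM _
    · exact zero_mem _
  · rw [Matrix.matrix_eq_sum_single A]
    refine Submodule.sum_mem _ fun i _ => Submodule.sum_mem _ fun j _ => ?_
    rw [eq_sum_single (A i j), ← Matrix.singleAddMonoidHom_apply, map_sum]
    refine Submodule.sum_mem _ fun g _ => ?_
    have : Matrix.single i j (MonoidAlgebra.single g ((A i j).coeff g))
        = (⟨(A i j).coeff g, hA i j g⟩ : locRing hM) • Matrix.single i j (⟪g⟫ : ℂG) := by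
      rw [Matrix.smul_single, Subring.smul_def, MonoidAlgebra.smul_single, smul_eq_mul, mul_one]
    rw [Matrix.singleAddMonoidHom_apply, this]
    exact Submodule.smul_mem _ _ (Submodule.subset_span
      (Finset.mem_coe.2 (Finset.mem_image.2 ⟨(i, j, g), Finset.mem_univ _, rfl⟩)))

/-- `1 - d` is invertible when `d` vanishes modulo the local ideal. -/
theorem exists_inv_one_sub (hM : Cfsg.IsPModular p M) {d : 𝕄} (hd : d ∈ intMat hM G)
    (hli : LiMat M d) : ∃ w ∈ intMat hM G, (1 - d) * w = 1 ∧ w * (1 - d) = 1 := by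
  classical
  haveI := Fintype.ofFinite G
  set N := Subalgebra.toSubmodule (intMat hM G)
  set L : Module.End (locRing hM) 𝕄 := LinearMap.mulLeft (locRing hM) (1 - d)
  have hdN : d ∈ locIdeal hM • N := by
    rw [Matrix.matrix_eq_sum_single d]
    refine Submodule.sum_mem _ fun i _ => Submodule.sum_mem _ fun j _ => ?_
    rw [eq_sum_single (d i j), ← Matrix.singleAddMonoidHom_apply, map_sum]
    refine Submodule.sum_mem _ fun g _ => ?_
    have : Matrix.single i j (MonoidAlgebra.single g ((d i j).coeff g))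
        = (⟨(d i j).coeff g, hd i j g⟩ : locRing hM) • Matrix.single i j (⟪g⟫ : ℂG) := by
      rw [Matrix.smul_single, Subring.smul_def, MonoidAlgebra.smul_single, smul_eq_mul, mul_one]
    rw [Matrix.singleAddMonoidHom_apply, this]
    refine Submodule.smul_mem_smul ((mem_locIdeal hM).2 (hli i j g)) fun a b => ?_
    rw [Matrix.single_apply]
    split_ifs
    · exact single_mem hM _
    · exact zero_mem _
  have hjac : locIdeal hM ≤ Ideal.jacobson ⊥ := by
    intro z hz
    rw [Ideal.mem_jacobson_bot]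
    intro y
    refine isUnit_of_not_li hM _ fun h => not_li_one hM ?_
    push_cast at h
    simpa using li_sub hM h (li_mul hM hz y.2)
  have hle : N ≤ N.map L ⊔ locIdeal hM • N := by
    intro a ha
    have hda : d * a ∈ locIdeal hM • N := by
      refine Submodule.smul_induction_on hdN (fun r hr n hn => ?_) (fun x y hx hy => ?_)
      · rw [smul_mul_assoc]
        exact Submodule.smul_mem_smul hr ((intMat hM G).mul_mem hn ha)
      · rw [add_mul]; exact Submodule.add_mem _ hx hy
    have : a = L a + d * a := by simp [L, sub_mul]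
    rw [this]
    exact Submodule.add_mem_sup ⟨a, ha, rfl⟩ hda
  obtain ⟨w, hw, hw1⟩ := Submodule.le_of_le_smul_of_le_jacobson_bot (intMat_fg hM) hjac hle
    (one_mem (intMat hM G) : (1 : 𝕄) ∈ N)
  refine ⟨w, hw, hw1, ?_⟩
  haveI : Module.Finite ℂ (MonoidAlgebra ℂ G) := Module.Finite.of_basis (MonoidAlgebra.basis G ℂ)
  have hw1' : (1 - d) * w = 1 := hw1
  have hsurj : Function.Surjective (LinearMap.mulLeft ℂ (1 - d) : 𝕄 →ₗ[ℂ] 𝕄) := fun y =>
    ⟨w * y, by simp [← mul_assoc, hw1']⟩
  have hinj := LinearMap.injective_iff_surjective.2 hsurj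
  exact hinj (by simp [← mul_assoc, hw1'])

section Core

variable (p) in
/-- The companion matrix of `T ^ p = y`. -/
noncomputable def shiftMat (y : MonoidAlgebra ℂ G) : Matrix (Fin p) (Fin p) (MonoidAlgebra ℂ G) :=
  fun i j => if (i : ℕ) = j + 1 then 1 else if (i : ℕ) + p = j + 1 then y else 0

theorem shiftMat_pow (y : ℂG) (m : ℕ) (hm : m ≤ p) (i j : Fin p) :
    (shiftMat p y ^ m) i j
      = if (i : ℕ) = j + m then 1 else if (i : ℕ) + p = j + m then y else 0 := by
  induction m generalizing i j with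
  | zero =>
    rw [pow_zero, Matrix.one_apply]
    by_cases h : i = j
    · subst h; simp
    · rw [if_neg h, if_neg (fun h' => h (Fin.ext (by omega))), if_neg (by omega)]
  | succ m ih =>
    rw [pow_succ, Matrix.mul_apply]
    have hj := j.isLt
    have hi := i.isLt
    by_cases hj1 : (j : ℕ) + 1 < p
    · rw [Finset.sum_eq_single ⟨j + 1, hj1⟩]
      · rw [ih (by omega)]
        simp only [shiftMat, if_true, mul_one, show (j : ℕ) + 1 + m = j + (m + 1) by omega]
      · intro k _ hk
        have : (k : ℕ) ≠ j + 1 := fun h => hk (Fin.ext h)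
        simp only [shiftMat, if_neg this]
        rw [if_neg (by omega), mul_zero]
      · simp
    · rw [Finset.sum_eq_single ⟨0, by omega⟩]
      · rw [ih (by omega)]
        simp only [shiftMat, zero_add, show (0 : ℕ) ≠ (j : ℕ) + 1 by omega, if_false,
          show p = (j : ℕ) + 1 by omega, if_true]
        by_cases him : (i : ℕ) = m
        · rw [if_pos him, one_mul, if_neg (by omega), if_pos (by omega)]
        · rw [if_neg him, if_neg (by omega), zero_mul, if_neg (by omega), if_neg (by omega)]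
      · intro k _ hk
        have hk0 : (k : ℕ) ≠ 0 := fun h => hk (Fin.ext h)
        have := k.isLt
        simp only [shiftMat]
        rw [if_neg (by omega), if_neg (by omega), mul_zero]
      · simp

theorem shiftMat_pow_p (y : ℂG) : shiftMat p y ^ p = Matrix.scalar (Fin p) y := by
  ext1 i j
  rw [shiftMat_pow y p le_rfl, Matrix.scalar_apply, Matrix.diagonal_apply]
  have := i.isLt; have := j.isLt
  by_cases h : i = j
  · subst h; rw [if_neg (by omega), if_pos rfl, if_pos rfl]
  · rw [if_neg (by omega), if_neg (fun h' => h (Fin.ext (by omega))), if_neg h]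

theorem scalar_commute_shiftMat {y a : ℂG} (h : Commute a y) :
    Commute (Matrix.scalar (Fin p) a) (shiftMat p y) := by
  rw [Matrix.scalar_apply, Commute, SemiconjBy]
  ext1 i j
  rw [Matrix.diagonal_mul, Matrix.mul_diagonal]
  simp only [shiftMat]
  split_ifs
  · rw [mul_one, one_mul]
  · exact h.eq
  · rw [mul_zero, zero_mul]

/-- The key vanishing statement. -/
theorem ev_eq_zero_of_trace (hM : Cfsg.IsPModular p M) [Fintype G] {χ : G → ℂ}
    (hχ : Cfsg.IsClassFunction G χ) (x s : G) {k : ℕ} (hx : x ^ p ^ k = 1) (hxs : Commute x s)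
    {e c : ℂG} (hci : c ∈ intAlg hM G) (he : e * e = e)
    (hex : Commute e ⟪x⟫) (hes : Commute e ⟪s⟫) (hcx : Commute c ⟪x ^ p⟫) (hcs : Commute c ⟪s⟫)
    (hTr : ∑ i ∈ Finset.range p, ⟪x ^ i⟫ * c * ⟪x⁻¹ ^ i⟫ = e) :
    ev χ (⟪x * s⟫ * e) = 0 := by
  classical
  haveI : Fact p.Prime := ⟨hM.1⟩
  have hp := hM.1.two_le
  -- replace `c` by `e c e`
  have hconj_e : ∀ i : ℕ, ⟪x ^ i⟫ * e = e * ⟪x ^ i⟫ := fun i => by
    rw [← single_pow']; exact ((hex.symm).pow_left i).eq
  have hex' : Commute e ⟪x⁻¹⟫ := by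
    have h1 : (⟪x⁻¹⟫ : ℂG) * e = e * ⟪x⁻¹⟫ := by
      calc (⟪x⁻¹⟫ : ℂG) * e = ⟪x⁻¹⟫ * e * (⟪x⟫ * ⟪x⁻¹⟫) := by
            rw [single_mul_single', mul_inv_cancel, ← MonoidAlgebra.one_def, mul_one]
        _ = ⟪x⁻¹⟫ * (⟪x⟫ * e) * ⟪x⁻¹⟫ := by rw [hex.symm.eq]; simp only [mul_assoc]
        _ = e * ⟪x⁻¹⟫ := by
            rw [← mul_assoc, single_mul_single', inv_mul_cancel, ← MonoidAlgebra.one_def, one_mul]
    exact h1.symm
  have hei : e ∈ intAlg hM G := by
    rw [← hTr]
    exact sum_mem fun i _ => mul_mem (mul_mem (single_mem hM _) hci) (single_mem hM _)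
  have hconj_e' : ∀ i : ℕ, ⟪x⁻¹ ^ i⟫ * e = e * ⟪x⁻¹ ^ i⟫ := fun i => by
    rw [← single_pow']; exact ((hex'.symm).pow_left i).eq
  obtain ⟨c', hc'⟩ : ∃ c' : ℂG, c' = e * c * e := ⟨_, rfl⟩
  have hc'i : c' ∈ intAlg hM G := by rw [hc']; exact mul_mem (mul_mem hei hci) hei
  have hc'e : c' * e = c' := by rw [hc', mul_assoc, he]
  have hc'x : Commute c' ⟪x ^ p⟫ := by
    have hep : Commute e ⟪x ^ p⟫ := (hconj_e p).symm
    rw [hc']
    exact (hep.mul_left hcx).mul_left hep
  have hc's : Commute c' ⟪s⟫ := by rw [hc']; exact (hes.mul_left hcs).mul_left hes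
  have hTr' : ∑ i ∈ Finset.range p, ⟪x ^ i⟫ * c' * ⟪x⁻¹ ^ i⟫ = e := by
    have : ∀ i, ⟪x ^ i⟫ * c' * ⟪x⁻¹ ^ i⟫ = e * (⟪x ^ i⟫ * c * ⟪x⁻¹ ^ i⟫) * e := by
      intro i
      simp only [hc', mul_assoc]
      rw [← hconj_e', ← mul_assoc (⟪x ^ i⟫ : ℂG) e, hconj_e i, mul_assoc]
    simp only [this, ← Finset.sum_mul, ← Finset.mul_sum, hTr, he]
  -- the matrices
  set y : ℂG := ⟪x ^ p⟫ with hy
  set t := shiftMat p y with ht
  let D : ℂG →+* 𝕄 := Matrix.scalar (Fin p)
  have hDcomm : ∀ a, Commute a y → Commute (D a) t := fun a ha => scalar_commute_shiftMat ha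
  have hxy : Commute (⟪x⁻¹⟫ : ℂG) y := by
    show _ * _ = _ * _
    rw [hy, single_mul_single', single_mul_single']
    congr 1
    exact ((Commute.refl x).inv_left.pow_right p).eq
  set f := D ⟪x⁻¹⟫ * t with hf
  have hfpow : ∀ m, f ^ m = D ⟪x⁻¹ ^ m⟫ * t ^ m := fun m => by
    rw [hf, (hDcomm _ hxy).mul_pow, ← map_pow, single_pow']
  have hfp : f ^ p = 1 := by
    rw [hfpow, ht, shiftMat_pow_p]
    show D _ * D y = 1
    rw [← map_mul, hy, single_mul_single', inv_pow, inv_mul_cancel, ← MonoidAlgebra.one_def, map_one]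
  set P := ∑ m ∈ Finset.range p, f ^ m with hP
  have hfP : ∀ m, f ^ m * P = P := by
    have h1 : f * P = P := by
      rw [hP, Finset.mul_sum]
      have := Finset.sum_range_succ' (fun m => f ^ m) p
      rw [Finset.sum_range_succ, hfp, pow_zero] at this
      have h2 := add_right_cancel this
      simp only [← pow_succ']
      exact h2.symm
    intro m
    induction m with
    | zero => rw [pow_zero, one_mul]
    | succ m ih => rw [pow_succ, mul_assoc, h1, ih]
  have hmove : ∀ m, f ^ m * D c' = D (⟪x⁻¹ ^ m⟫ * c' * ⟪x ^ m⟫) * f ^ m := by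
    intro m
    rw [hfpow, mul_assoc, ((hDcomm c' hc'x).pow_right m).symm.eq, ← mul_assoc, ← mul_assoc,
      ← map_mul, ← map_mul]
    congr 1
    congr 1
    simp only [mul_assoc, single_mul_single', inv_pow, mul_inv_cancel]
    rw [← MonoidAlgebra.one_def, mul_one]
  have hTr2 : ∑ m ∈ Finset.range p, ⟪x⁻¹ ^ m⟫ * c' * ⟪x ^ m⟫ = e := by
    have h1 : ∑ m ∈ Finset.range p, ⟪x⁻¹ ^ (p - 1 - m)⟫ * c' * ⟪x ^ (p - 1 - m)⟫
        = ⟪x⁻¹ ^ (p - 1)⟫ * e * ⟪x ^ (p - 1)⟫ := by
      rw [← hTr', Finset.mul_sum, Finset.sum_mul]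
      refine Finset.sum_congr rfl fun m hm => ?_
      have hm' := Finset.mem_range.1 hm
      have e1 : x⁻¹ ^ (p - 1 - m) = x⁻¹ ^ (p - 1) * x ^ m := by
        simp only [inv_pow]
        rw [show p - 1 = (p - 1 - m) + m by omega, pow_add, mul_inv_rev, Nat.add_sub_cancel]
        group
      have e2 : x ^ (p - 1 - m) = x⁻¹ ^ m * x ^ (p - 1) := by
        rw [inv_pow, show p - 1 = m + (p - 1 - m) by omega, pow_add, inv_mul_cancel_left,
          Nat.add_sub_cancel_left]
      rw [e1, e2, ← single_mul_single', ← single_mul_single']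
      simp only [mul_assoc]
    rw [Finset.sum_range_reflect (fun m => ⟪x⁻¹ ^ m⟫ * c' * ⟪x ^ m⟫) p] at h1
    rw [h1, hconj_e', mul_assoc, single_mul_single', inv_pow, inv_mul_cancel,
      ← MonoidAlgebra.one_def, mul_one]
  set e' := D c' * P with he'
  have he'2 : e' * e' = e' := by
    have h1 : P * D c' * P = D e * P := by
      have hPc : P * D c'
          = ∑ m ∈ Finset.range p, D (⟪x⁻¹ ^ m⟫ * c' * ⟪x ^ m⟫) * f ^ m := by
        rw [hP, Finset.sum_mul]
        exact Finset.sum_congr rfl fun m _ => hmove m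
      rw [hPc, Finset.sum_mul]
      simp only [mul_assoc (D _) (f ^ _) P, hfP]
      rw [← Finset.sum_mul, ← map_sum, hTr2]
    calc e' * e' = D c' * (P * D c' * P) := by rw [he']; simp only [mul_assoc]
      _ = D (c' * e) * P := by rw [h1, ← mul_assoc, ← map_mul]
      _ = e' := by rw [hc'e, he']
  -- the idempotent over the base
  set a0 := ∑ m ∈ Finset.range p, c' * ⟪x⁻¹ ^ m⟫ with ha0
  have ha0i : a0 ∈ intAlg hM G := sum_mem fun m _ => mul_mem hc'i (single_mem hM _)
  obtain ⟨q, hq, hq0, hq1⟩ := exists_lift_poly hM ha0i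
  set e0 := aeval a0 q with he0
  have ha0y : Commute a0 y := by
    refine Commute.sum_left _ _ _ fun m _ => hc'x.mul_left ?_
    rw [← single_pow']
    exact hxy.pow_left m
  have hxs' : ∀ m, Commute (⟪x⁻¹ ^ m⟫ : ℂG) ⟪s⟫ := fun m => by
    show _ * _ = _ * _
    rw [single_mul_single', single_mul_single', (hxs.inv_left.pow_left m).eq]
  have ha0s : Commute a0 ⟪s⟫ := Commute.sum_left _ _ _ fun m _ => hc's.mul_left (hxs' m)
  have haeval : ∀ b, Commute a0 b → Commute e0 b := fun b hb => by
    have hle : Algebra.adjoin (locRing hM) ({a0} : Set ℂG)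
        ≤ Subalgebra.centralizer (locRing hM) {b} := Algebra.adjoin_le (by
      simp only [Set.singleton_subset_iff, SetLike.mem_coe, Subalgebra.mem_centralizer_iff,
        Set.mem_singleton_iff, forall_eq]
      exact hb.symm.eq)
    have := hle (aeval_mem_adjoin_singleton (locRing hM) a0 (p := q))
    rw [Subalgebra.mem_centralizer_iff] at this
    exact (this b rfl).symm
  have he0i : e0 ∈ intAlg hM G :=
    Algebra.adjoin_le (Set.singleton_subset_iff.2 ha0i) (aeval_mem_adjoin_singleton _ _)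
  set T := D ⟪s⟫ * t with hT
  have hyy : Commute (⟪s⟫ : ℂG) y := by
    show _ * _ = _ * _
    rw [hy, single_mul_single', single_mul_single', (hxs.pow_left p).symm.eq]
  let W : Subalgebra (locRing hM) 𝕄 :=
    intMat hM G ⊓ Subalgebra.centralizer (locRing hM) {t, D ⟪s⟫}
  have hWmem : ∀ A : 𝕄, A ∈ W ↔ A ∈ intMat hM G ∧ Commute A t ∧ Commute A (D ⟪s⟫) := by
    intro A
    simp only [W, Algebra.mem_inf, Subalgebra.mem_centralizer_iff, Set.mem_insert_iff,
      Set.mem_singleton_iff, forall_eq_or_imp, forall_eq]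
    exact ⟨fun h => ⟨h.1, h.2.1.symm, h.2.2.symm⟩, fun h => ⟨h.1, h.2.1.eq.symm, h.2.2.eq.symm⟩⟩
  have hDint : ∀ a ∈ intAlg hM G, D a ∈ intMat hM G := fun a ha i j => by
    show Matrix.scalar (Fin p) a i j ∈ _
    rw [Matrix.scalar_apply, Matrix.diagonal_apply]
    split_ifs
    · exact ha
    · exact zero_mem _
  have hDW : ∀ a ∈ intAlg hM G, Commute a y → Commute a ⟪s⟫ → D a ∈ W := fun a ha h1 h2 =>
    (hWmem _).2 ⟨hDint a ha, hDcomm a h1, h2.map D⟩
  have htW : t ∈ W := (hWmem _).2 ⟨fun i j => by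
      simp only [ht, shiftMat]
      split_ifs
      · exact one_mem _
      · exact single_mem hM _
      · exact zero_mem _, Commute.refl t, (hDcomm _ hyy).symm⟩
  have hfW : f ∈ W :=
    mul_mem (hDW _ (single_mem hM _) hxy (by simpa using hxs' 1)) htW
  have he'W : e' ∈ W :=
    mul_mem (hDW _ hc'i hc'x hc's) (sum_mem fun m _ => pow_mem hfW m)
  have he0W : D e0 ∈ W := hDW _ he0i (haeval y ha0y) (haeval _ ha0s)
  -- congruence modulo `(t - 1, 𝔭)`
  let J : 𝕄 → Prop := fun A => ∃ b1 ∈ W, ∃ b2 ∈ W, LiMat M b2 ∧ A = (t - 1) * b1 + b2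
  have hLzero : LiMat M (0 : 𝕄) := fun i j g => by simpa using li_zero hM
  have hLadd : ∀ A B : 𝕄, LiMat M A → LiMat M B → LiMat M (A + B) := fun A B hA hB i j g => by
    simpa using li_add hM (hA i j g) (hB i j g)
  have hLneg : ∀ A : 𝕄, LiMat M A → LiMat M (-A) := fun A hA i j g => by
    simpa using li_neg (hA i j g)
  have hLmull : ∀ A B : 𝕄, A ∈ intMat hM G → LiMat M B → LiMat M (A * B) := fun A B hA hB i j g => by
    rw [Matrix.mul_apply, coeff_sum']
    refine li_sum hM _ fun l _ => ?_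
    rw [coeff_mul_sum]
    exact li_sum hM _ fun z _ => li_mul_left hM (hA i l z) (hB l j _)
  have hLmulr : ∀ A B : 𝕄, LiMat M A → B ∈ intMat hM G → LiMat M (A * B) := fun A B hA hB i j g => by
    rw [Matrix.mul_apply, coeff_sum']
    refine li_sum hM _ fun l _ => ?_
    rw [coeff_mul_sum]
    exact li_sum hM _ fun z _ => li_mul hM (hA i l z) (hB l j _)
  have hJadd : ∀ A B, J A → J B → J (A + B) := by
    rintro _ _ ⟨a1, h1, a2, h2, h3, rfl⟩ ⟨b1, h1', b2, h2', h3', rfl⟩
    exact ⟨a1 + b1, add_mem h1 h1', a2 + b2, add_mem h2 h2', hLadd _ _ h3 h3', by noncomm_ring⟩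
  have hJzero : J 0 := ⟨0, zero_mem _, 0, zero_mem _, hLzero, by simp⟩
  have hJneg : ∀ A, J A → J (-A) := by
    rintro _ ⟨a1, h1, a2, h2, h3, rfl⟩
    exact ⟨-a1, neg_mem h1, -a2, neg_mem h2, hLneg _ h3, by noncomm_ring⟩
  have hJmulr : ∀ A B, J A → B ∈ W → J (A * B) := by
    rintro _ B ⟨a1, h1, a2, h2, h3, rfl⟩ hB
    exact ⟨a1 * B, mul_mem h1 hB, a2 * B, mul_mem h2 hB, hLmulr _ _ h3 ((hWmem B).1 hB).1,
      by noncomm_ring⟩
  have hJmull : ∀ A B, A ∈ W → J B → J (A * B) := by
    rintro A _ hA ⟨a1, h1, a2, h2, h3, rfl⟩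
    refine ⟨A * a1, mul_mem hA h1, A * a2, mul_mem hA h2, hLmull _ _ ((hWmem A).1 hA).1 h3, ?_⟩
    have := (((hWmem A).1 hA).2.1.sub_right (Commute.one_right A)).eq
    rw [mul_add, ← mul_assoc, this, mul_assoc]
  have hJsum : ∀ (S : Finset ℕ) (F : ℕ → 𝕄), (∀ m ∈ S, J (F m)) → J (∑ m ∈ S, F m) :=
    fun S F h => Finset.sum_induction F J hJadd hJzero h
  have hJt : ∀ m : ℕ, J (t ^ m - 1) := by
    intro m
    induction m with
    | zero => simpa using hJzero
    | succ m ih =>
      have h1 : J ((t - 1) * t ^ m) := ⟨t ^ m, pow_mem htW m, 0, zero_mem _, hLzero, by simp⟩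
      have : t ^ (m + 1) - 1 = (t - 1) * t ^ m + (t ^ m - 1) := by
        rw [pow_succ']; noncomm_ring
      rw [this]
      exact hJadd _ _ h1 ih
  have hJe : J (e' - D a0) := by
    have h1 : e' - D a0 = ∑ m ∈ Finset.range p, D c' * D ⟪x⁻¹ ^ m⟫ * (t ^ m - 1) := by
      rw [he', hP, ha0, map_sum, Finset.mul_sum, ← Finset.sum_sub_distrib]
      refine Finset.sum_congr rfl fun m _ => ?_
      rw [hfpow, map_mul]; noncomm_ring
    rw [h1]
    exact hJsum _ _ fun m _ => hJmull _ _ (mul_mem (hDW _ hc'i hc'x hc's)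
      (hDW _ (single_mem hM _) (by rw [← single_pow']; exact hxy.pow_left m) (hxs' m))) (hJt m)
  have ha0W : D a0 ∈ W := hDW _ ha0i ha0y ha0s
  have hJpoly : ∀ (g : (locRing hM)[X]), J (aeval e' g - aeval (D a0) g) := by
    intro g
    induction g using Polynomial.induction_on' with
    | add f g hf hg =>
      have := hJadd _ _ hf hg
      simp only [map_add]
      convert this using 1
      abel
    | monomial n r =>
      simp only [aeval_monomial, ← mul_sub]
      refine hJmull _ _ (Subalgebra.algebraMap_mem W r) ?_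
      induction n with
      | zero => simpa using hJzero
      | succ n ih =>
        have : e' ^ (n + 1) - D a0 ^ (n + 1)
            = e' ^ n * (e' - D a0) + (e' ^ n - D a0 ^ n) * D a0 := by
          rw [pow_succ, pow_succ]; noncomm_ring
        rw [this]
        exact hJadd _ _ (hJmull _ _ (pow_mem he'W n) hJe) (hJmulr _ _ ih ha0W)
  have hidem : ∀ q : (locRing hM)[X], aeval e' q = algebraMap (locRing hM) 𝕄 (q.eval 0) * (1 - e')
      + algebraMap (locRing hM) 𝕄 (q.eval 1) * e' := by
    intro q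
    clear * - he'2
    induction q using Polynomial.induction_on' with
    | add f g hf hg => rw [map_add, hf, hg, eval_add, eval_add, map_add, map_add]; noncomm_ring
    | monomial n r =>
      rw [aeval_monomial, eval_monomial, eval_monomial, one_pow, mul_one]
      rcases n with _ | n
      · rw [pow_zero, pow_zero, mul_one, mul_one]; noncomm_ring
      · rw [zero_pow (Nat.succ_ne_zero n), mul_zero, map_zero, zero_mul, zero_add]
        congr 1
        induction n with
        | zero => rw [pow_one]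
        | succ n ih => rw [pow_succ, ih, he'2]
  have hJe0 : J (e' - D e0) := by
    have h1 : aeval (D a0) q = D e0 := by
      rw [he0]
      exact Polynomial.aeval_algHom_apply (Matrix.scalarAlgHom (Fin p) (locRing hM)) a0 q
    have h2 : J (e' - aeval e' q) := by
      have : e' - aeval e' q = algebraMap (locRing hM) 𝕄 (-(q.eval 0)) * (1 - e')
          + algebraMap (locRing hM) 𝕄 (1 - q.eval 1) * e' := by
        rw [hidem q, map_neg, map_sub, map_one]; noncomm_ring
      rw [this]
      have hL : ∀ r : locRing hM, Cfsg.MemLocalIdeal M (r : ℂ) → J (algebraMap (locRing hM) 𝕄 r) := by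
        intro r hr
        refine ⟨0, zero_mem _, _, Subalgebra.algebraMap_mem W r, fun i j g => ?_, by simp⟩
        rw [Matrix.algebraMap_matrix_apply]
        split_ifs
        · rw [Algebra.algebraMap_eq_smul_one, Subring.smul_def, MonoidAlgebra.coeff_smul_apply,
            smul_eq_mul]
          exact li_mul hM hr (one_mem (intAlg hM G) g)
        · simpa using li_zero hM
      refine hJadd _ _ (hJmulr _ _ (hL _ ?_) (sub_mem (one_mem W) he'W)) (hJmulr _ _ (hL _ ?_) he'W)
      · push_cast; exact li_neg hq0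
      · push_cast; simpa using li_neg hq1
    have := hJadd _ _ h2 (hJpoly q)
    rw [h1] at this
    convert this using 1
    abel
  -- the conjugating unit
  set u := e' * D e0 + (1 - e') * (1 - D e0) with hu
  have he02 : D e0 * D e0 = D e0 := by rw [← map_mul, hq]
  have heu : e' * u = u * D e0 := by
    calc e' * u = (e' * e') * D e0 + (e' - e' * e') * (1 - D e0) := by rw [hu]; noncomm_ring
      _ = e' * D e0 + (1 - e') * (D e0 - D e0 * D e0) := by rw [he'2, he02]; noncomm_ring
      _ = u * D e0 := by rw [hu]; noncomm_ring; simp only [he02]; abel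
  have huW : u ∈ W := add_mem (mul_mem he'W he0W) (mul_mem (sub_mem (one_mem W) he'W) (sub_mem (one_mem W) he0W))
  set n := 1 - u with hn
  have hnJ : J n := by
    have : n = (1 - e') * (D e0 - e') + e' * (e' - D e0) := by
      rw [hn, hu]; noncomm_ring; simp only [he'2]; abel
    rw [this]
    refine hJadd _ _ (hJmull _ _ (sub_mem (one_mem W) he'W) ?_) (hJmull _ _ he'W hJe0)
    simpa using hJneg _ hJe0
  obtain ⟨b1, hb1, b2, hb2, hb2L, hnb⟩ := hnJ
  set N := p ^ (k + 1) with hN
  have htN : t ^ N = 1 := by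
    rw [hN, pow_succ', pow_mul, ht, shiftMat_pow_p, ← map_pow, hy, single_pow', ← pow_mul,
      mul_comm, pow_mul, hx, one_pow, ← MonoidAlgebra.one_def, map_one]
  have hLcast : ∀ A ∈ intMat hM G, LiMat M ((p : 𝕄) * A) := fun A hA i j g => by
    rw [show (p : 𝕄) * A = p • A from (nsmul_eq_mul p A).symm, Matrix.smul_apply,
      MonoidAlgebra.coeff_smul_apply, nsmul_eq_mul]
    exact li_mul hM ((li_natCast_iff hM p).2 dvd_rfl) (hA i j g)
  have ht1N : LiMat M ((t - 1) ^ N) := by
    let tW : W := ⟨t, htW⟩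
    obtain ⟨r, hr⟩ := (Commute.one_right (tW - 1)).exists_add_pow_prime_pow_eq hM.1 (k + 1)
    rw [sub_add_cancel, one_pow] at hr
    have hr' := congrArg Subtype.val hr
    push_cast at hr'
    rw [htN] at hr'
    have h3 : (t - 1) ^ N = -((p : 𝕄) * ((t - 1) * 1 * (r : 𝕄))) := by
      rw [mul_assoc (p : 𝕄)] at hr'
      rw [hN]
      have := hr'
      linear_combination (norm := noncomm_ring) -this
    rw [h3]
    exact hLneg _ (hLcast _ ((hWmem _).1 (mul_mem (mul_mem (sub_mem htW (one_mem W)) (one_mem W)) r.2)).1)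
  have hnN : LiMat M (n ^ N) := by
    have : ∀ m : ℕ, ∃ z ∈ W, LiMat M z ∧ n ^ m = (t - 1) ^ m * b1 ^ m + z := by
      intro m
      induction m with
      | zero => exact ⟨0, zero_mem _, hLzero, by simp⟩
      | succ m ih =>
        obtain ⟨z, hz, hzL, hm⟩ := ih
        refine ⟨(t - 1) ^ m * b1 ^ m * b2 + z * n, add_mem (mul_mem (mul_mem (pow_mem
          (sub_mem htW (one_mem W)) m) (pow_mem hb1 m)) hb2) (mul_mem hz (sub_mem (one_mem W) huW)),
          hLadd _ _ (hLmull _ _ ((hWmem _).1 (mul_mem (pow_mem (sub_mem htW (one_mem W)) m)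
            (pow_mem hb1 m))).1 hb2L) (hLmulr _ _ hzL ((hWmem _).1 (sub_mem (one_mem W) huW)).1), ?_⟩
        have hc : b1 ^ m * (t - 1) = (t - 1) * b1 ^ m :=
          ((((hWmem _).1 hb1).2.1.sub_right (Commute.one_right b1)).pow_left m).eq
        rw [pow_succ, hm]
        conv_lhs => rw [hnb]
        rw [pow_succ, pow_succ (b1), add_mul, mul_add, ← hnb]
        simp only [mul_assoc]
        rw [← mul_assoc (b1 ^ m) (t - 1), hc]
        simp only [mul_assoc]
        abel
    obtain ⟨z, hz, hzL, hm⟩ := this N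
    rw [hm]
    exact hLadd _ _ (hLmulr _ _ ht1N ((hWmem _).1 (pow_mem hb1 N)).1) hzL
  have hnW : n ∈ W := sub_mem (one_mem W) huW
  obtain ⟨w, hw, hw1, hw2⟩ := exists_inv_one_sub hM ((hWmem _).1 (pow_mem hnW N)).1 hnN
  set S := ∑ i ∈ Finset.range N, n ^ i with hS
  have huS : u * S = 1 - n ^ N := by
    rw [show u = 1 - n by rw [hn]; abel, hS]
    exact mul_neg_geom_sum n N
  have hSu : S * u = 1 - n ^ N := by
    rw [show u = 1 - n by rw [hn]; abel, hS]
    exact geom_sum_mul_neg n N
  set v := w * S with hv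
  have hvu : v * u = 1 := by rw [hv, mul_assoc, hSu, hw2]
  have huv : u * v = 1 := by
    have h1 : u * (S * w) = 1 := by rw [← mul_assoc, huS, hw1]
    have h2 : v = S * w := by
      calc v = v * (u * (S * w)) := by rw [h1, mul_one]
        _ = S * w := by rw [← mul_assoc, hvu, one_mul]
    rw [h2, h1]
  have hTu : Commute T u := by
    obtain ⟨-, h1, h2⟩ := (hWmem _).1 huW
    exact ((h2.symm).mul_left (h1.symm))
  have hTv : Commute T v := by
    calc T * v = v * u * (T * v) := by rw [hvu, one_mul]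
      _ = v * (T * u) * v := by rw [hTu.eq]; simp only [mul_assoc]
      _ = v * T * (u * v) := by simp only [mul_assoc]
      _ = v * T := by rw [huv, mul_one]
  -- traces
  let τ : 𝕄 → ℂ := fun A => ∑ i, ev χ (A i i)
  have hτ : ∀ A B, τ (A * B) = τ (B * A) := by
    intro A B
    simp only [τ, Matrix.mul_apply, ev_sum]
    rw [Finset.sum_comm]
    exact Finset.sum_congr rfl fun i _ => Finset.sum_congr rfl fun j _ => ev_mul_comm hχ _ _
  have hdiag : ∀ (a : ℂG) (m : ℕ), 0 < m → m < p → ∀ i, (D a * t ^ m) i i = 0 := by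
    intro a m hm0 hmp i
    show (Matrix.scalar (Fin p) a * t ^ m) i i = 0
    rw [Matrix.scalar_apply, Matrix.diagonal_mul, ht, shiftMat_pow y m hmp.le,
      if_neg (by omega), if_neg (by omega), mul_zero]
  have hdiagp : ∀ (a : ℂG) i, (D a * t ^ p) i i = a * y := by
    intro a i
    rw [ht, shiftMat_pow_p]
    show (D a * D y) i i = _
    rw [← map_mul]
    show Matrix.scalar (Fin p) (a * y) i i = _
    rw [Matrix.scalar_apply, Matrix.diagonal_apply_eq]
  have hτ0 : τ (T * e') = 0 := by
    have h1 : e' = u * D e0 * v := by rw [← heu, mul_assoc, huv, mul_one]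
    have h2 : T * D e0 = D (⟪s⟫ * e0) * t ^ 1 := by
      rw [pow_one, map_mul, hT, mul_assoc, mul_assoc, ((hWmem _).1 he0W).2.1.eq]
    rw [h1, ← mul_assoc, hτ, ← mul_assoc, ← mul_assoc, ← hTv.eq, mul_assoc T v u, hvu, mul_one, h2]
    exact Finset.sum_eq_zero fun i _ => by rw [hdiag _ 1 one_pos hp, ev_zero]
  have hτ1 : τ (T * e') = (p : ℂ) * ev χ (⟪s⟫ * c' * ⟪x⟫) := by
    have h1 : T * e' = ∑ m ∈ Finset.range p, D (⟪s⟫ * c' * ⟪x⁻¹ ^ m⟫) * t ^ (m + 1) := by
      rw [he', hP, Finset.mul_sum, Finset.mul_sum]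
      refine Finset.sum_congr rfl fun m _ => ?_
      rw [hfpow, ← mul_assoc (D c'), ← map_mul, hT, mul_assoc (D ⟪s⟫), ← mul_assoc t,
        (hDcomm (c' * ⟪x⁻¹ ^ m⟫) (hc'x.mul_left (by rw [← single_pow']; exact hxy.pow_left m))).symm.eq,
        mul_assoc (D (c' * _)), ← mul_assoc, ← map_mul, pow_succ', mul_assoc]
    have hd : ∀ i, ev χ ((T * e') i i) = ev χ (⟪s⟫ * c' * ⟪x⟫) := by
      intro i
      rw [h1, Matrix.sum_apply, ev_sum, Finset.sum_eq_single (p - 1)]
      · rw [Nat.sub_add_cancel (by omega), hdiagp, mul_assoc _ (⟪x⁻¹ ^ (p - 1)⟫ : ℂG), hy,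
          single_mul_single', inv_pow]
        congr 3
        conv_lhs => rw [show p = p - 1 + 1 by omega, pow_succ]
        simp
      · intro m hm hne
        have := Finset.mem_range.1 hm
        rw [hdiag _ _ (Nat.succ_pos m) (by omega), ev_zero]
      · intro h
        exact absurd (Finset.mem_range.2 (by omega)) h
    simp only [τ, hd, Finset.sum_const, Finset.card_univ, Fintype.card_fin, nsmul_eq_mul]
  -- conclude
  rw [← hTr', Finset.mul_sum, ev_sum]
  have hterm : ∀ i ∈ Finset.range p,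
      ev χ (⟪x * s⟫ * (⟪x ^ i⟫ * c' * ⟪x⁻¹ ^ i⟫)) = ev χ (⟪s⟫ * c' * ⟪x⟫) := by
    intro i _
    rw [ev_mul_comm hχ, mul_assoc, single_mul_single', ev_mul_comm hχ, ← mul_assoc,
      single_mul_single', ev_mul_comm hχ (⟪s⟫ * c'), ← mul_assoc (⟪x⟫ : ℂG), single_mul_single']
    congr 3
    have h1 : Commute (x * s) (x ^ i) := ((Commute.refl x).mul_left hxs.symm).pow_right i
    rw [mul_assoc, h1.eq, inv_pow, inv_mul_cancel_left]
  rw [Finset.sum_congr rfl hterm, Finset.sum_const, Finset.card_range, nsmul_eq_mul, ← hτ1, hτ0]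

end Core

end Cfsg.Agent.Blocks
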