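import Cfsg.Agent.Blocks.Vanish
import Cfsg.Agent.Blocks.PPart
import Mathlib.GroupTheory.SemidirectProduct
import Mathlib.RingTheory.RootsOfUnity.Complex

/-!
Weak block orthogonality, through monomial matrices.
-/

set_option autoImplicit false
set_option linter.all false
set_option maxHeartbeats 400000

open scoped ComplexConjugate

namespace Cfsg.Agent.Blocks

universe u v

variable {p : ℕ} {M : Ideal Cfsg.AlgInt} {G : Type u} [Group G] [Finite G]

local notation "ℂG" => MonoidAlgebra ℂ G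

local notation "⟪" g "⟫" => MonoidAlgebra.single g (1 : ℂ)

theorem ev_mul_single [Fintype G] (χ : G → ℂ) (a : ℂG) (u : G) :
    ev χ (a * ⟪u⟫) = ∑ g, a.coeff g * χ (g * u) := by
  simp only [ev, MonoidAlgebra.coeff_mul_single_apply, mul_one]
  refine Fintype.sum_equiv (Equiv.mulRight u⁻¹) _ _ fun g => ?_
  simp

theorem ev_single_mul [Fintype G] (χ : G → ℂ) (a : ℂG) (u : G) :
    ev χ (⟪u⟫ * a) = ∑ g, a.coeff g * χ (u * g) := by
  simp only [ev, MonoidAlgebra.coeff_single_mul_apply, one_mul]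
  refine Fintype.sum_equiv (Equiv.mulLeft u⁻¹) _ _ fun g => ?_
  simp

/-- Evaluating an irreducible character at a block idempotent times a group element. -/
theorem ev_idem_mul [Fintype G] (A : Set (Cfsg.IrrCharacter G)) (χ : Cfsg.IrrCharacter G)
    [Decidable (χ ∈ A)] (u : G) :
    ev (χ : G → ℂ) (idem A * ⟪u⟫) = if χ ∈ A then (χ : G → ℂ) u else 0 := by
  classical
  have h1 := omega_mul χ (isCentral_idem A) (⟪u⟫ : ℂG)
  have hne := Char.irr_one_ne_zero χ
  have h2 : ev (χ : G → ℂ) (⟪u⟫ : ℂG) = (χ : G → ℂ) u := by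
    simp [ev, Finsupp.single_apply]
  rw [omega, omega_idem, omega, h2, div_eq_iff hne] at h1
  rw [h1]
  split_ifs with h
  · rw [one_mul, div_mul_cancel₀ _ hne]
  · rw [zero_mul, zero_mul]

section Mono

variable (G) (μ : Type v) [CommGroup μ]

/-- The two-sided translation action on functions. -/
def twoSided : G × G →* MulAut (G → μ) where
  toFun q :=
    { toFun := fun v h => v (q.1⁻¹ * h * q.2)
      invFun := fun v h => v (q.1 * h * q.2⁻¹)
      left_inv := fun v => funext fun h => by simp [mul_assoc]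
      right_inv := fun v => funext fun h => by simp [mul_assoc]
      map_mul' := fun v w => rfl }
  map_one' := by ext v h; simp
  map_mul' q r := by ext v h; simp [mul_assoc]

/-- The monomial group. -/
abbrev Mono := SemidirectProduct (G → μ) (G × G) (twoSided G μ)

instance finite_mono [Finite μ] : Finite (Mono G μ) :=
  Finite.of_injective (fun z => (z.left, z.right)) fun a b h =>
    SemidirectProduct.ext (congrArg Prod.fst h) (congrArg Prod.snd h)

end Mono

/-- Weak block orthogonality, in idempotent form. -/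
theorem sum_eq_zero_of_singular (hM : Cfsg.IsPModular p M) [Fintype G]
    {A : Set (Cfsg.IrrCharacter G)} (hA : idem A ∈ intAlg hM G) {g t : G}
    (hg : p ∣ orderOf g) (ht : ¬ p ∣ orderOf t) :
    ∑ χ ∈ A.toFinite.toFinset, (χ : G → ℂ) g * conj ((χ : G → ℂ) t) = 0 := by
  classical
  haveI : Fact p.Prime := ⟨hM.1⟩
  obtain ⟨x, y, hxy, hcxy, ⟨k, hk⟩, hy, -, -⟩ := exists_pPart hM.1 g
  have hx1 : x ≠ 1 := (dvd_orderOf_iff_pPart_ne_one hM.1 ⟨y, hxy, hcxy, ⟨k, hk⟩, hy⟩).1 hg
  -- the roots of unity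
  obtain ⟨ℓ, hℓ, hℓp⟩ : ∃ ℓ : ℕ, ℓ.Prime ∧ ℓ ≠ p := by
    by_cases h : p = 2
    · exact ⟨3, Nat.prime_three, by omega⟩
    · exact ⟨2, Nat.prime_two, Ne.symm h⟩
  haveI : NeZero ℓ := ⟨hℓ.ne_zero⟩
  let μ := rootsOfUnity ℓ ℂ
  haveI : Finite μ := inferInstance
  haveI := Fintype.ofFinite μ
  haveI := Fintype.ofFinite (G → μ)
  haveI := Fintype.ofFinite (Mono G μ)
  let val : μ → ℂ := fun z => ((z : ℂˣ) : ℂ)
  have hval_mul : ∀ a b : μ, val (a * b) = val a * val b := fun a b => by simp [val]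
  have hval_one : val 1 = 1 := by simp [val]
  have hval_inv : ∀ a : μ, val a⁻¹ = (val a)⁻¹ := fun a => by simp [val]
  have hval_ne : ∀ a : μ, val a ≠ 0 := fun a => Units.ne_zero _
  obtain ⟨ζ, hζ⟩ : ∃ ζ : μ, val ζ ≠ 1 := by
    have hp' := Complex.isPrimitiveRoot_exp ℓ hℓ.ne_zero
    obtain ⟨u, hu⟩ := hp'.isUnit hℓ.ne_zero
    refine ⟨⟨u, (mem_rootsOfUnity ℓ u).2 (Units.ext ?_)⟩, ?_⟩
    · push_cast; rw [hu]; exact hp'.pow_eq_one
    · show (u : ℂ) ≠ 1
      rw [hu]; exact hp'.ne_one hℓ.one_lt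
  set n : ℂ := (Nat.card (G → μ) : ℂ) with hn
  have hn0 : n ≠ 0 := by rw [hn]; exact_mod_cast Nat.card_pos.ne'
  have hsumv : ∀ h k : G, ∑ w : G → μ, (val (w h))⁻¹ * val (w k) = if h = k then n else 0 := by
    intro h k
    by_cases hhk : h = k
    · subst hhk
      rw [if_pos rfl, Finset.sum_congr rfl (fun w _ => inv_mul_cancel₀ (hval_ne _)),
        Finset.sum_const, Finset.card_univ, nsmul_one, hn, Nat.card_eq_fintype_card]
    · rw [if_neg hhk]
      set S := ∑ w : G → μ, (val (w h))⁻¹ * val (w k)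
      have : S = val ζ * S := by
        rw [Finset.mul_sum]
        refine Fintype.sum_equiv (Equiv.mulLeft (Pi.mulSingle h ζ)) _ _ fun w => ?_
        simp only [Equiv.coe_mulLeft, Pi.mul_apply, Pi.mulSingle_eq_same,
          Pi.mulSingle_eq_of_ne (Ne.symm hhk), one_mul, hval_mul, mul_inv]
        have := hval_ne ζ
        field_simp
      by_contra h0
      exact hζ ((mul_eq_right₀ h0).1 this.symm)
  -- the monomial character
  let ψ : Mono G μ → ℂ := fun z => ∑ h : G, if z.right.1 * h = h * z.right.2 then val (z.left h) else 0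
  have hψ : Cfsg.IsClassFunction (Mono G μ) ψ := by
    intro z w
    simp only [ψ]
    refine (Fintype.sum_equiv ((Equiv.mulLeft w.right.1).trans (Equiv.mulRight w.right.2⁻¹)) _ _
      fun h => ?_).symm
    simp only [Equiv.trans_apply, Equiv.coe_mulLeft, Equiv.coe_mulRight,
      SemidirectProduct.mul_right, SemidirectProduct.inv_right, SemidirectProduct.mul_left,
      SemidirectProduct.inv_left, Prod.fst_mul, Prod.snd_mul, Prod.fst_inv, Prod.snd_inv]
    have hiff : w.right.1 * z.right.1 * w.right.1⁻¹ * (w.right.1 * h * w.right.2⁻¹)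
        = w.right.1 * h * w.right.2⁻¹ * (w.right.2 * z.right.2 * w.right.2⁻¹)
        ↔ z.right.1 * h = h * z.right.2 := by
      simp only [mul_assoc, inv_mul_cancel_left, mul_right_inj]
      rw [← mul_assoc z.right.1 h, ← mul_assoc h z.right.2]
      exact mul_left_inj _
    by_cases hh : z.right.1 * h = h * z.right.2
    · have h1 : z.right.1⁻¹ * h * z.right.2 = h := by rw [mul_assoc, ← hh, inv_mul_cancel_left]
      rw [if_pos hh]
      refine Eq.trans ?_ (if_pos (hiff.2 hh)).symm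
      have h1' : ∀ c : G, z.right.1⁻¹ * (h * (z.right.2 * c)) = h * c := fun c => by
        rw [← mul_assoc h, ← mul_assoc, ← mul_assoc z.right.1⁻¹, h1]
      simp only [twoSided, MonoidHom.coe_mk, OneHom.coe_mk, MulEquiv.coe_mk, Equiv.coe_fn_mk,
        Pi.mul_apply, Pi.inv_apply, mul_assoc, mul_inv_rev, inv_inv, inv_mul_cancel_left,
        inv_mul_cancel, mul_one, Prod.fst_mul, Prod.snd_mul, Prod.fst_inv, Prod.snd_inv, h1']
      simp [hval_mul, hval_inv, mul_comm, mul_left_comm]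
    · rw [if_neg hh]
      exact (if_neg (mt hiff.1 hh)).symm
  -- the algebra map and the idempotents
  let ι : G →* Mono G μ := SemidirectProduct.inr.comp (MonoidHom.inl G G)
  let Φ : MonoidAlgebra ℂ G →ₐ[ℂ] MonoidAlgebra ℂ (Mono G μ) :=
    MonoidAlgebra.lift ℂ (MonoidAlgebra ℂ (Mono G μ)) G ((MonoidAlgebra.of ℂ _).comp ι)
  have hΦ : ∀ a : ℂG, Φ a = ∑ b : G, a.coeff b • MonoidAlgebra.single (ι b) (1 : ℂ) := by
    intro a
    conv_lhs => rw [eq_sum_single a]
    simp only [map_sum, Φ, MonoidAlgebra.lift_single, MonoidHom.coe_comp, Function.comp_apply,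
      MonoidAlgebra.of_apply]
  have hΦs : ∀ b : G, Φ ⟪b⟫ = MonoidAlgebra.single (ι b) (1 : ℂ) := fun b => by
    simp [Φ, MonoidAlgebra.lift_single]
  set F := Φ (idem A) with hF
  have hFi : F ∈ intAlg hM (Mono G μ) := by
    rw [hF, hΦ]
    refine sum_mem fun b _ => ?_
    exact Subalgebra.smul_mem (intAlg hM (Mono G μ)) (single_mem hM _)
      (⟨_, hA b⟩ : locRing hM)
  have hF2 : F * F = F := by rw [hF, ← map_mul, ← idem_inter, Set.inter_self]
  have hFcomm : ∀ q : G × G,
      Commute F (MonoidAlgebra.single (SemidirectProduct.inr q : Mono G μ) (1 : ℂ)) := by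
    intro q
    show _ * _ = _ * _
    rw [hF, hΦ, Finset.sum_mul, Finset.mul_sum]
    refine Fintype.sum_equiv (MulAut.conj q.1⁻¹).toEquiv _ _ fun b => ?_
    simp only [smul_mul_assoc, mul_smul_comm, single_mul_single', MulEquiv.toEquiv_eq_coe,
      EquivLike.coe_coe, MulAut.conj_apply, inv_inv]
    rw [show (idem A).coeff (q.1⁻¹ * b * q.1) = (idem A).coeff b by
      simpa using isCentral_idem A b q.1⁻¹]
    congr 1
    simp only [ι, MonoidHom.coe_comp, Function.comp_apply, MonoidHom.inl_apply]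
    rw [← map_mul, ← map_mul]
    congr 2
    refine Prod.ext ?_ ?_ <;> simp [mul_assoc]
  let δ : G → MonoidAlgebra ℂ (Mono G μ) := fun h =>
    n⁻¹ • ∑ w : G → μ, (val (w h))⁻¹ • MonoidAlgebra.single (SemidirectProduct.inl w : Mono G μ) (1 : ℂ)
  have hδi : ∀ h, δ h ∈ intAlg hM (Mono G μ) := by
    intro h
    have hninv : Cfsg.MemLocalRing M n⁻¹ := by
      refine inv_natCast_lr hM ?_
      intro hdvd
      have hcard : Nat.card (G → μ) ∣ ℓ ^ Nat.card G := by
        rw [Nat.card_fun, show Nat.card μ = ℓ from Complex.card_rootsOfUnity (n := ℓ)]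
      exact hℓp ((Nat.prime_dvd_prime_iff_eq hM.1 hℓ).1
        (hM.1.dvd_of_dvd_pow (hdvd.trans hcard))).symm
    refine Subalgebra.smul_mem (intAlg hM (Mono G μ)) (sum_mem fun w _ => ?_)
      (⟨_, hninv⟩ : locRing hM)
    refine Subalgebra.smul_mem (intAlg hM (Mono G μ)) (single_mem hM _)
      (⟨_, ?_⟩ : locRing hM)
    rw [← hval_inv]
    exact algInt_mem_locRing hM (Char.isIntegral_rootOfUnity (n := ℓ) hℓ.pos (by
      rw [← Units.val_pow_eq_pow_val, ← Units.val_one]
      exact congrArg Units.val ((mem_rootsOfUnity ℓ _).1 ((w h)⁻¹ : μ).2)))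
  have hδmul : ∀ h h', δ h * δ h' = if h = h' then δ h else 0 := by
    intro h h'
    simp only [δ, smul_mul_smul_comm, Finset.sum_mul_sum, single_mul_single', ← map_mul]
    have : ∀ w : G → μ, ∑ w' : G → μ, ((val (w h))⁻¹ * (val (w' h'))⁻¹) •
        MonoidAlgebra.single (SemidirectProduct.inl (w * w') : Mono G μ) (1 : ℂ)
        = ∑ z : G → μ, ((val (w h))⁻¹ * (val (w h')) * (val (z h'))⁻¹) •
          MonoidAlgebra.single (SemidirectProduct.inl z : Mono G μ) (1 : ℂ) := by
      intro w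
      refine Fintype.sum_equiv (Equiv.mulLeft w) _ _ fun w' => ?_
      simp only [Equiv.coe_mulLeft, Pi.mul_apply, hval_mul, mul_inv]
      congr 1
      have := hval_ne (w h'); have := hval_ne (w h); have := hval_ne (w' h')
      field_simp
    rw [Finset.sum_congr rfl fun w _ => this w, Finset.sum_comm]
    simp only [← Finset.sum_smul, ← Finset.sum_mul, hsumv]
    by_cases hhh : h = h'
    · subst hhh
      rw [if_pos rfl, if_pos rfl]
      simp only [Finset.smul_sum, smul_smul]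
      refine Finset.sum_congr rfl fun z _ => ?_
      congr 1
      field_simp
    · rw [if_neg hhh, if_neg hhh]
      simp
  have hδconj : ∀ (q : G × G) (h : G),
      MonoidAlgebra.single (SemidirectProduct.inr q : Mono G μ) (1 : ℂ) * δ h
        = δ (q.1 * h * q.2⁻¹) * MonoidAlgebra.single (SemidirectProduct.inr q : Mono G μ) (1 : ℂ) := by
    intro q h
    simp only [δ, mul_smul_comm, smul_mul_assoc, Finset.mul_sum, Finset.sum_mul, single_mul_single']
    congr 1
    refine Fintype.sum_equiv (twoSided G μ q).toEquiv _ _ fun w => ?_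
    congr 1
    · simp [twoSided, mul_assoc]
    · congr 1
      show _ = (SemidirectProduct.inl (twoSided G μ q w) : Mono G μ) * SemidirectProduct.inr q
      rw [SemidirectProduct.inl_aut]
      simp [mul_assoc]
  -- the half set
  let R : G × G := (y, t)
  let α : G × G := (x * y, t)
  letI act : MulAction (Subgroup.zpowers α) G :=
    { smul := fun z h => (z : G × G).1 * h * (z : G × G).2⁻¹
      one_smul := fun h => by show (1 : G) * h * (1 : G)⁻¹ = h; simp
      mul_smul := fun a b h => by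
        show ((a : G × G).1 * (b : G × G).1) * h * ((a : G × G).2 * (b : G × G).2)⁻¹ = _
        show _ = (a : G × G).1 * ((b : G × G).1 * h * (b : G × G).2⁻¹) * (a : G × G).2⁻¹
        simp [mul_assoc] }
  let rep : G → G := fun h => (Quotient.mk (MulAction.orbitRel (Subgroup.zpowers α) G) h).out
  have hrep : ∀ h, ∃ a : ℤ, h = x ^ a * y ^ a * rep h * (t ^ a)⁻¹ := by
    intro h
    have h1 : rep h ∈ MulAction.orbit (Subgroup.zpowers α) h :=
      MulAction.orbitRel_apply.1 (Quotient.exact (Quotient.out_eq _))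
    obtain ⟨⟨z, a, rfl⟩, hz⟩ := MulAction.mem_orbit_symm.1 h1
    refine ⟨a, ?_⟩
    conv_lhs => rw [← hz]
    show (α ^ a).1 * rep h * (α ^ a).2⁻¹ = _
    rw [Prod.pow_fst, Prod.pow_snd, hcxy.mul_zpow]
  have hxzp : ((x, 1) : G × G) ∈ Subgroup.zpowers α := by
    obtain ⟨a', b', h1, h2, h3, h4, h5, -⟩ := exists_pPart hM.1 α
    have h6 : Cfsg.IsPPart p α (x, 1) := by
      refine ⟨R, ?_, ?_, ⟨k, ?_⟩, ?_⟩
      · simp [R, α]
      · show _ * _ = _ * _
        simp [R, hcxy.eq]
      · rw [Prod.orderOf_mk, orderOf_one, Nat.lcm_one_right, hk]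
      · rw [Prod.orderOf_mk]
        intro hd
        exact (hM.1.dvd_mul.1 (hd.trans (Nat.lcm_dvd_mul _ _))).elim hy ht
    rw [eq_of_isPPart hM.1 h6 ⟨b', h1, h2, h3, h4⟩]
    exact h5
  have hrepx : ∀ (i : ℤ) h, rep (x ^ i * h) = rep h := by
    intro i h
    refine congrArg Quotient.out (Quotient.sound (MulAction.orbitRel_apply.2 ?_))
    refine ⟨⟨_, zpow_mem hxzp i⟩, ?_⟩
    show ((x, 1) ^ i : G × G).1 * h * ((x, 1) ^ i : G × G).2⁻¹ = _
    simp [Prod.pow_fst, Prod.pow_snd]
  have hRzp : R ∈ Subgroup.zpowers α := by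
    have : R = ((x, 1) : G × G)⁻¹ * α := by simp [R, α]
    rw [this]
    exact mul_mem (inv_mem hxzp) (Subgroup.mem_zpowers α)
  have hrepR : ∀ (i : ℤ) h, rep (y ^ i * h * (t ^ i)⁻¹) = rep h := by
    intro i h
    refine congrArg Quotient.out (Quotient.sound (MulAction.orbitRel_apply.2 ?_))
    refine ⟨⟨_, zpow_mem hRzp i⟩, ?_⟩
    show (R ^ i).1 * h * (R ^ i).2⁻¹ = _
    simp [R, Prod.pow_fst, Prod.pow_snd]
  let Sset : Finset G := Finset.univ.filter fun h =>
    ∃ a b : ℤ, h = x ^ ((p : ℤ) * a) * y ^ b * rep h * (t ^ b)⁻¹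
  have hexist : ∀ h, ∃ i ∈ Finset.range p, x⁻¹ ^ i * h ∈ Sset := by
    intro h
    obtain ⟨a, ha⟩ := hrep h
    have hp0 : (p : ℤ) ≠ 0 := by exact_mod_cast hM.1.ne_zero
    refine ⟨(a % p).toNat, Finset.mem_range.2 ?_, ?_⟩
    · have := Int.emod_lt_of_pos a (show (0 : ℤ) < p by exact_mod_cast hM.1.pos)
      have := Int.emod_nonneg a hp0
      omega
    · simp only [Sset, Finset.mem_filter, Finset.mem_univ, true_and]
      have h1 : x⁻¹ ^ (a % (p : ℤ)).toNat = x ^ (-(a % (p : ℤ))) := by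
        rw [← zpow_natCast, inv_zpow, ← zpow_neg, Int.toNat_of_nonneg (Int.emod_nonneg a hp0)]
      rw [h1, hrepx]
      refine ⟨a / p, a, ?_⟩
      conv_lhs => rw [ha]
      simp only [← mul_assoc, ← zpow_add]
      have : -(a % (p : ℤ)) + a = (p : ℤ) * (a / p) := by
        have := Int.emod_add_mul_ediv a p; omega
      rw [this]
  have huniq : ∀ h, ∀ i ∈ Finset.range p, ∀ j ∈ Finset.range p,
      x⁻¹ ^ i * h ∈ Sset → x⁻¹ ^ j * h ∈ Sset → i = j := by
    intro h i hi j hj hSi hSj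
    simp only [Sset, Finset.mem_filter, Finset.mem_univ, true_and, ← zpow_natCast, inv_zpow,
      ← zpow_neg, hrepx] at hSi hSj
    obtain ⟨a, b, hab⟩ := hSi
    obtain ⟨a', b', hab'⟩ := hSj
    rw [zpow_neg t] at hab hab'
    set r := rep h
    have e1 : h = x ^ ((i : ℤ) + p * a) * y ^ b * r * (t ^ b)⁻¹ := by
      rw [zpow_add, mul_assoc (x ^ (i : ℤ)), mul_assoc (x ^ (i : ℤ)), mul_assoc (x ^ (i : ℤ)),
        ← hab, ← mul_assoc, ← zpow_add, add_neg_cancel, zpow_zero, one_mul]
    have e2 : h = x ^ ((j : ℤ) + p * a') * y ^ b' * r * (t ^ b')⁻¹ := by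
      rw [zpow_add, mul_assoc (x ^ (j : ℤ)), mul_assoc (x ^ (j : ℤ)), mul_assoc (x ^ (j : ℤ)),
        ← hab', ← mul_assoc, ← zpow_add, add_neg_cancel, zpow_zero, one_mul]
    set A1 := (i : ℤ) + p * a
    set A2 := (j : ℤ) + p * a'
    have hcz : ∀ m n : ℤ, Commute (x ^ m) (y ^ n) := fun m n => (hcxy.zpow_left m).zpow_right n
    have key : x ^ (A1 - A2) * y ^ (b - b') = r * t ^ (b - b') * r⁻¹ := by
      have h3 := e1.symm.trans e2
      rw [mul_inv_eq_iff_eq_mul, mul_assoc _ r, mul_assoc _ (r * (t ^ b')⁻¹)] at h3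
      have h4 : (x ^ A2 * y ^ b')⁻¹ * (x ^ A1 * y ^ b) = r * (t ^ b')⁻¹ * t ^ b * r⁻¹ := by
        rw [eq_mul_inv_iff_mul_eq, mul_assoc _ (x ^ A1 * y ^ b), h3]
        group
      rw [mul_inv_rev, ← zpow_neg, ← zpow_neg, mul_assoc (y ^ (-b')), ← mul_assoc (x ^ (-A2)),
        ← zpow_add, ← mul_assoc, ← (hcz (-A2 + A1) (-b')).eq, mul_assoc, ← zpow_add,
        ← zpow_neg, mul_assoc r, ← zpow_add] at h4
      rw [show A1 - A2 = -A2 + A1 by ring, show b - b' = -b' + b by ring]
      exact h4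
    have hord : orderOf (x ^ (A1 - A2)) ∣ p ^ k := by
      rw [← hk]
      exact orderOf_dvd_of_pow_eq_one (by
        rw [← zpow_natCast, ← zpow_mul, mul_comm, zpow_mul, zpow_natCast, pow_orderOf_eq_one, one_zpow])
    obtain ⟨k', -, hk'⟩ := (Nat.dvd_prime_pow hM.1).1 hord
    have hreg : ∀ (z : G) (m : ℤ), ¬ p ∣ orderOf z → ¬ p ∣ orderOf (z ^ m) := by
      intro z m hz hd
      refine hz (hd.trans (orderOf_dvd_of_pow_eq_one ?_))
      rw [← zpow_natCast, ← zpow_mul, mul_comm, zpow_mul, zpow_natCast, pow_orderOf_eq_one, one_zpow]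
    have hP1 : Cfsg.IsPPart p (r * t ^ (b - b') * r⁻¹) (x ^ (A1 - A2)) :=
      ⟨y ^ (b - b'), key, hcz _ _, ⟨k', hk'⟩, hreg y _ hy⟩
    have hP2 : Cfsg.IsPPart p (r * t ^ (b - b') * r⁻¹) 1 :=
      ⟨_, one_mul _, Commute.one_left _, ⟨0, by simp⟩, by
        rw [← MulAut.conj_apply, MulEquiv.orderOf_eq]; exact hreg t _ ht⟩
    have h5 := eq_of_isPPart hM.1 hP1 hP2
    have hdvd : (orderOf x : ℤ) ∣ A1 - A2 := orderOf_dvd_iff_zpow_eq_one.2 h5
    have hk0 : k ≠ 0 := by
      rintro rfl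
      exact hx1 (orderOf_eq_one_iff.1 (by simpa using hk))
    have hpd : (p : ℤ) ∣ A1 - A2 :=
      (Int.natCast_dvd_natCast.2 (by rw [hk]; exact dvd_pow_self p hk0)).trans hdvd
    have : (p : ℤ) ∣ (i : ℤ) - j := by
      have h6 := hpd
      rw [show A1 - A2 = ((i : ℤ) - j) + (p : ℤ) * (a - a') by simp only [A1, A2]; ring] at h6
      exact (dvd_add_left (dvd_mul_right _ _)).1 h6
    have hi' := Finset.mem_range.1 hi
    have hj' := Finset.mem_range.1 hj
    by_contra hne
    rcases Nat.lt_or_ge i j with hlt | hge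
    · have : (p : ℤ) ∣ (j : ℤ) - i := by simpa using this.neg_right
      have := Int.le_of_dvd (by omega) this
      omega
    · have := Int.le_of_dvd (by omega) this
      omega
  set Δ := ∑ h : G, δ h with hΔ
  set Q := ∑ h ∈ Sset, δ h with hQ
  have hΔ2 : Δ * Δ = Δ := by
    simp only [hΔ, Finset.sum_mul_sum, hδmul, Finset.sum_ite_eq, Finset.mem_univ, if_true]
  have hQΔ : ∀ (q : G × G) (U : Finset G), (∀ h, h ∈ U ↔ q.1 * h * q.2⁻¹ ∈ U) →
      Commute (∑ h ∈ U, δ h) (MonoidAlgebra.single (SemidirectProduct.inr q : Mono G μ) (1 : ℂ)) := by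
    intro q U hU
    show _ * _ = _ * _
    rw [Finset.sum_mul, Finset.mul_sum]
    refine (Finset.sum_equiv ((Equiv.mulLeft q.1).trans (Equiv.mulRight q.2⁻¹)) hU fun h _ => ?_).symm
    exact hδconj q h
  have hΔcomm : ∀ q : G × G,
      Commute Δ (MonoidAlgebra.single (SemidirectProduct.inr q : Mono G μ) (1 : ℂ)) :=
    fun q => hQΔ q Finset.univ (fun h => by simp)
  have hFΔ : Commute F Δ := by
    rw [hF, hΦ]
    exact Commute.sum_left _ _ _ fun b _ => ((hΔcomm (b, 1)).symm).smul_left _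
  set e := F * Δ with he
  have he2 : e * e = e := by
    rw [he, mul_assoc, ← mul_assoc Δ F, ← hFΔ.eq, mul_assoc F Δ Δ, hΔ2, ← mul_assoc, hF2]
  let X : Mono G μ := SemidirectProduct.inr (x, 1)
  let S' : Mono G μ := SemidirectProduct.inr (y, t)
  have hXS : Commute X S' := by
    show _ * _ = _ * _
    simp only [X, S', ← map_mul]
    congr 1
    simp [hcxy.eq]
  have hXk : X ^ p ^ k = 1 := by
    simp only [X, ← map_pow, Prod.pow_def, one_pow, pow_pow_eq_one_of_orderOf hk]
    exact map_one _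
  have hXi : ∀ i : ℕ, X ^ i = SemidirectProduct.inr (x ^ i, 1) := fun i => by
    simp [X, ← map_pow]
  have hQX : Commute Q (MonoidAlgebra.single (X ^ p) (1 : ℂ)) := by
    rw [hXi]
    refine hQΔ _ _ fun h => ?_
    simp only [Sset, Finset.mem_filter, Finset.mem_univ, true_and, inv_one, mul_one]
    rw [← zpow_natCast x p, hrepx]
    constructor
    · rintro ⟨a, b, hab⟩
      refine ⟨a + 1, b, ?_⟩
      conv_lhs => rw [hab]
      simp only [← mul_assoc, ← zpow_add]
      ring_nf
    · rintro ⟨a, b, hab⟩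
      refine ⟨a - 1, b, mul_left_cancel (a := x ^ (p : ℤ)) ?_⟩
      rw [hab]
      simp only [← mul_assoc, ← zpow_add]
      ring_nf
  have hQS : Commute Q (MonoidAlgebra.single S' (1 : ℂ)) := by
    refine hQΔ _ _ fun h => ?_
    simp only [Sset, Finset.mem_filter, Finset.mem_univ, true_and]
    have h1 := hrepR 1 h
    simp only [zpow_one] at h1
    rw [h1]
    have hcy : ∀ m n : ℤ, Commute (x ^ m) (y ^ n) := fun m n => (hcxy.zpow_left m).zpow_right n
    have hy1 : ∀ m : ℤ, y * x ^ m = x ^ m * y := fun m => ((hcxy.zpow_left m).symm).eq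
    constructor
    · rintro ⟨a, b, hab⟩
      refine ⟨a, 1 + b, ?_⟩
      conv_lhs => rw [hab]
      rw [zpow_one_add y, zpow_add t, zpow_one, ← zpow_neg]
      rw [show y * (x ^ ((p : ℤ) * a) * y ^ b * rep h * t ^ (-b)) * t⁻¹
        = y * x ^ ((p : ℤ) * a) * (y ^ b * rep h * t ^ (-b) * t⁻¹) by group, hy1]
      group
    · rintro ⟨a, b, hab⟩
      refine ⟨a, -1 + b, ?_⟩
      have h2 : h = y⁻¹ * (y * h * t⁻¹) * t := by simp [mul_assoc]
      conv_lhs => rw [h2, hab]
      rw [zpow_add y, zpow_add t, zpow_neg_one, zpow_neg_one]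
      have hy2 : ∀ m : ℤ, y⁻¹ * x ^ m = x ^ m * y⁻¹ := fun m =>
        ((hcxy.zpow_left m).symm.inv_left).eq
      rw [show y⁻¹ * (x ^ ((p : ℤ) * a) * y ^ b * rep h * (t ^ b)⁻¹) * t
        = y⁻¹ * x ^ ((p : ℤ) * a) * (y ^ b * rep h * (t ^ b)⁻¹ * t) by group, hy2]
      group
  have hpart : ∑ i ∈ Finset.range p, MonoidAlgebra.single (X ^ i) (1 : ℂ) * Q
      * MonoidAlgebra.single (X⁻¹ ^ i) (1 : ℂ) = Δ := by
    have h1 : ∀ i : ℕ, MonoidAlgebra.single (X ^ i) (1 : ℂ) * Q
        * MonoidAlgebra.single (X⁻¹ ^ i) (1 : ℂ) = ∑ h ∈ Sset, δ (x ^ i * h) := by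
      intro i
      rw [hQ, Finset.mul_sum, Finset.sum_mul]
      refine Finset.sum_congr rfl fun h _ => ?_
      rw [hXi, hδconj, mul_assoc, single_mul_single', inv_pow, hXi, mul_inv_cancel,
        ← MonoidAlgebra.one_def, mul_one]
      simp
    rw [Finset.sum_congr rfl fun i _ => h1 i, ← Finset.sum_product', hΔ]
    refine Finset.sum_bij (fun q _ => x ^ q.1 * q.2) (fun _ _ => Finset.mem_univ _) ?_ ?_
      (fun _ _ => rfl)
    · rintro ⟨i, h⟩ hih ⟨j, h'⟩ hjh heq
      simp only [Finset.mem_product] at hih hjh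
      simp only at heq
      have e1 : x⁻¹ ^ i * (x ^ i * h) = h := by simp [inv_pow, ← mul_assoc]
      have e2 : x⁻¹ ^ j * (x ^ i * h) = h' := by rw [heq]; simp [inv_pow, ← mul_assoc]
      have hij := huniq _ i hih.1 j hjh.1 (by rw [e1]; exact hih.2) (by rw [e2]; exact hjh.2)
      subst hij
      rw [mul_right_inj] at heq
      rw [heq]
    · intro h _
      obtain ⟨i, hi, hS⟩ := hexist h
      exact ⟨(i, x⁻¹ ^ i * h), Finset.mem_product.2 ⟨hi, hS⟩, by simp [inv_pow]⟩
  have hTr : ∑ i ∈ Finset.range p, MonoidAlgebra.single (X ^ i) (1 : ℂ) * (F * Q)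
      * MonoidAlgebra.single (X⁻¹ ^ i) (1 : ℂ) = e := by
    have h1 : ∀ i : ℕ, MonoidAlgebra.single (X ^ i) (1 : ℂ) * (F * Q)
        * MonoidAlgebra.single (X⁻¹ ^ i) (1 : ℂ)
        = F * (MonoidAlgebra.single (X ^ i) (1 : ℂ) * Q * MonoidAlgebra.single (X⁻¹ ^ i) (1 : ℂ)) := by
      intro i
      rw [← mul_assoc (MonoidAlgebra.single (X ^ i) (1 : ℂ)), hXi, ← (hFcomm _).eq]
      simp only [mul_assoc]
    rw [Finset.sum_congr rfl fun i _ => h1 i, ← Finset.mul_sum, hpart]
  have hci : F * Q ∈ intAlg hM (Mono G μ) := mul_mem hFi (sum_mem fun h _ => hδi h)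
  have hcX : Commute (F * Q) (MonoidAlgebra.single (X ^ p) (1 : ℂ)) := by
    refine Commute.mul_left ?_ hQX
    rw [hXi]; exact hFcomm _
  have h0 := ev_eq_zero_of_trace (G := Mono G μ) hM hψ X S' hXk hXS hci he2
    ((hFcomm _).mul_left (hΔcomm _)) ((hFcomm _).mul_left (hΔcomm _))
    hcX ((hFcomm _).mul_left hQS) hTr
  -- evaluation
  have hXSg : X * S' = SemidirectProduct.inr (g, t) := by
    simp only [X, S', ← map_mul]; congr 1; simp [hxy]
  rw [hXSg] at h0
  let cnt : G → ℂ := fun b => ∑ h : G, if b * h = h * t then 1 else 0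
  have hev_e : ev ψ (MonoidAlgebra.single (SemidirectProduct.inr (g, t) : Mono G μ) (1 : ℂ) * e)
      = ev cnt (⟪g⟫ * idem A) := by
    rw [ev_single_mul (G := G), he, hF, hΦ, Finset.sum_mul, Finset.mul_sum, ev_sum]
    refine Finset.sum_congr rfl fun b _ => ?_
    rw [smul_mul_assoc, mul_smul_comm, ← mul_assoc, single_mul_single', hΔ, Finset.mul_sum]
    have hsm : ∀ (c : ℂ) (z : MonoidAlgebra ℂ (Mono G μ)), ev ψ (c • z) = c * ev ψ z := fun c z => by
      simp only [ev, MonoidAlgebra.coeff_smul_apply, smul_eq_mul, mul_assoc, ← Finset.mul_sum]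
    rw [hsm, ev_sum]
    congr 1
    refine Finset.sum_congr rfl fun h _ => ?_
    simp only [δ, mul_smul_comm, Finset.mul_sum, single_mul_single', hsm, ev_sum]
    have hterm : ∀ w : G → μ, ev ψ (MonoidAlgebra.single
        ((SemidirectProduct.inr (g, t) : Mono G μ) * ι b * SemidirectProduct.inl w) (1 : ℂ))
        = ∑ k : G, if g * b * k = k * t then val (w k) else 0 := by
      intro w
      rw [show ev ψ (MonoidAlgebra.single
        ((SemidirectProduct.inr (g, t) : Mono G μ) * ι b * SemidirectProduct.inl w) (1 : ℂ))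
        = ψ ((SemidirectProduct.inr (g, t) : Mono G μ) * ι b * SemidirectProduct.inl w) by
          simp [ev, Finsupp.single_apply]]
      have h1 := hψ ((SemidirectProduct.inr (g, t) : Mono G μ) * ι b * SemidirectProduct.inl w)
        (SemidirectProduct.inl w)
      rw [← mul_assoc, mul_inv_cancel_right] at h1
      rw [← h1]
      simp only [ψ, ι, MonoidHom.coe_comp, Function.comp_apply, MonoidHom.inl_apply,
        SemidirectProduct.mul_left, SemidirectProduct.mul_right, SemidirectProduct.left_inl,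
        SemidirectProduct.right_inl, SemidirectProduct.left_inr, SemidirectProduct.right_inr,
        map_one, mul_one, one_mul, Prod.fst_mul, Prod.snd_mul]
    simp only [hterm, Finset.mul_sum, mul_ite, mul_zero]
    rw [Finset.sum_comm, Finset.sum_eq_single h]
    · by_cases hb : g * b * h = h * t
      · simp only [if_pos hb]
        rw [← Finset.mul_sum, hsumv, if_pos rfl, inv_mul_cancel₀ hn0]
      · simp only [if_neg hb, Finset.sum_const_zero]
    · intro k _ hk
      by_cases hb : g * b * k = k * t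
      · simp only [if_pos hb]
        rw [← Finset.mul_sum, hsumv, if_neg (Ne.symm hk), mul_zero]
      · simp only [if_neg hb, Finset.sum_const_zero]
    · simp
  rw [hev_e] at h0
  have hcnt : ∀ b, cnt b
      = ∑ χ : Cfsg.IrrCharacter G, (χ : G → ℂ) b * conj ((χ : G → ℂ) t) := by
    intro b
    rw [Char.sum_irr_mul_conj]
    simp only [cnt]
    by_cases hb : IsConj b t
    · obtain ⟨h1, hh1⟩ := isConj_iff.1 hb
      rw [if_pos hb, Finset.sum_boole]
      congr 1
      rw [Nat.card_eq_fintype_card, Fintype.card_subtype]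
      refine Finset.card_equiv (Equiv.mulRight h1) fun h => ?_
      simp only [Finset.mem_filter, Finset.mem_univ, true_and, Subgroup.mem_centralizer_singleton_iff,
        Equiv.coe_mulRight]
      rw [← hh1]
      constructor
      · intro e1
        have : b * h * h1 = h * (h1 * b * h1⁻¹) * h1 := by rw [e1]
        simp only [mul_assoc, inv_mul_cancel, mul_one] at this ⊢
        exact this.symm
      · intro e1
        have : h * h1 * b * h1⁻¹ = b * (h * h1) * h1⁻¹ := by rw [e1]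
        simp only [mul_assoc, mul_inv_cancel, mul_one] at this ⊢
        exact this.symm
    · rw [if_neg hb]
      refine Finset.sum_eq_zero fun h _ => if_neg fun e1 => hb (isConj_iff.2 ⟨h⁻¹, ?_⟩)
      rw [inv_inv, mul_assoc, e1, inv_mul_cancel_left]
  have h2 : ev cnt (⟪g⟫ * idem A) = ∑ χ : Cfsg.IrrCharacter G,
      ev (χ : G → ℂ) (idem A * ⟪g⟫) * conj ((χ : G → ℂ) t) := by
    rw [(isCentral_idem A).comm]
    simp only [ev, hcnt, Finset.mul_sum, Finset.sum_mul]
    rw [Finset.sum_comm]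
    exact Finset.sum_congr rfl fun χ _ => Finset.sum_congr rfl fun b _ => by ring
  rw [h2] at h0
  rw [← h0, ← Finset.sum_subset (Finset.subset_univ A.toFinite.toFinset) (fun χ _ hχ => ?_)]
  · refine Finset.sum_congr rfl fun χ hχ => ?_
    rw [ev_idem_mul, if_pos ((Set.Finite.mem_toFinset _).1 hχ)]
  · rw [ev_idem_mul, if_neg (fun h => hχ ((Set.Finite.mem_toFinset _).2 h)), zero_mul]

end Cfsg.Agent.Blocks
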